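import Cfsg.Agent.Lib.Blk.BSc
import Cfsg.Agent.Lib.CorePi

/-!
# The Brauer-Suzuki theorem
-/

set_option autoImplicit false

namespace CfsgLib.Blk

open Cfsg Subgroup CfsgLib.FT

universe u

section Q8

variable {G : Type*} [Group G] [Fintype G]

namespace QSetup

variable {S : Subgroup G} {t x y : G} (h : QSetup S t x y 1)
include h

omit [Fintype G] in
theorem x_sq : x ^ 2 = t := by simpa using h.pow_eq

omit [Fintype G] in
theorem xy_sq : (x * y) ^ 2 = t := by
  rw [← h.sq_eq]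
  calc (x * y) ^ 2 = x * (y * x * y⁻¹) * y ^ 2 := by rw [sq, sq]; group
    _ = y ^ 2 := by rw [h.inverts]; group

theorem tri {s : G} (hs : s ∈ S) : s = 1 ∨ s = t ∨ (s ∈ zpowers x ∧ IsConj x s) ∨
    (s ∈ zpowers y ∧ IsConj y s) ∨ (s ∈ zpowers (x * y) ∧ IsConj (x * y) s) := by
  classical
  have ho : orderOf x = 4 := by simpa using h.ord
  have h4 : x ^ 4 = 1 := by rw [← ho, pow_orderOf_eq_one]
  have hi : x⁻¹ = x ^ 3 := by rw [inv_eq_iff_mul_eq_one, ← pow_succ', h4]
  have hyx : y * x⁻¹ = x * y := by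
    have := h.conj_zpowers (inv_mem (mem_zpowers x))
    rwa [inv_inv, mul_inv_eq_iff_eq_mul] at this
  have hy : y⁻¹ = x ^ 2 * y := by
    rw [inv_eq_iff_mul_eq_one, h.x_sq, ← h.sq_eq, ← pow_succ, ← pow_succ', show 3 + 1 = 2 * 2 by rfl,
      pow_mul, h.sq_eq, sq_eq_one_of_orderOf h.uniq.1]
  have key : ∀ a ∈ zpowers x, ∃ j < 4, x ^ j = a := fun a ha => by
    rw [mem_zpowers_iff_mem_range_orderOf, ho] at ha
    simpa using ha
  have c1 : IsConj y (x ^ 2 * y) := isConj_iff.mpr ⟨x, by rw [mul_assoc, hyx, sq, mul_assoc]⟩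
  have c2 : IsConj (x * y) (x ^ 3 * y) := isConj_iff.mpr ⟨x, by
    rw [mul_assoc, mul_assoc, hyx]; simp [pow_succ, mul_assoc]⟩
  rcases h.mem_cases s hs with h1 | h1
  · obtain ⟨j, hj, rfl⟩ := key _ h1
    interval_cases j
    · simp
    · exact Or.inr (Or.inr (Or.inl ⟨h1, by rw [pow_one]⟩))
    · simp [h.x_sq]
    · exact Or.inr (Or.inr (Or.inl ⟨h1, isConj_iff.mpr ⟨y, by rw [h.inverts, hi]⟩⟩))
  · obtain ⟨j, hj, e⟩ := key _ h1
    rw [← mul_inv_eq_iff_eq_mul, hy, ← mul_assoc, ← pow_add] at e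
    subst e
    refine Or.inr (Or.inr (Or.inr ?_))
    interval_cases j
    · refine Or.inl ⟨?_, c1⟩
      rw [← hy]; exact inv_mem (mem_zpowers y)
    · refine Or.inr ⟨?_, c2⟩
      rw [show x ^ (1 + 2) * y = x ^ 2 * (x * y) by group, h.x_sq, ← h.xy_sq]
      exact mul_mem (npow_mem_zpowers _ _) (mem_zpowers _)
    · rw [h4, one_mul]; exact Or.inl ⟨mem_zpowers _, IsConj.refl _⟩
    · rw [show x ^ (3 + 2) = x ^ 4 * x by group, h4, one_mul]
      exact Or.inr ⟨mem_zpowers _, IsConj.refl _⟩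

theorem comm_t {s : G} (hs : s ∈ S) : s * t = t * s := by
  have hC : ∀ w : G, w ^ 2 = t → zpowers w ≤ centralizer ({t} : Set G) := fun w hw =>
    zpowers_le.mpr (mem_centralizer_singleton_iff.mpr (hw ▸ ((Commute.refl w).pow_right 2).eq))
  rcases h.tri hs with rfl | rfl | h1 | h1 | h1
  · simp
  · rfl
  · exact mem_centralizer_singleton_iff.mp (hC _ h.x_sq h1.1)
  · exact mem_centralizer_singleton_iff.mp (hC _ h.sq_eq h1.1)
  · exact mem_centralizer_singleton_iff.mp (hC _ h.xy_sq h1.1)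

theorem exists_fused (hS : S ≤ ⁅(⊤ : Subgroup G), (⊤ : Subgroup G)⁆) {w : G} (hw : w ∈ S)
    (hw2 : w ^ 2 = t) : ∃ s ∈ S, s ∉ zpowers w ∧ IsConj w s := by
  by_contra! hcon
  have ho : orderOf w = 4 := by
    refine orderOf_eq_prime_pow (p := 2) (n := 1) ?_ ?_
    · simpa [hw2] using ne_one_of_orderOf h.uniq.1
    · rw [show 2 ^ (1 + 1) = 2 * 2 by rfl, pow_mul, hw2, sq_eq_one_of_orderOf h.uniq.1]
  have hle : zpowers w ≤ S := zpowers_le.mpr hw
  have hi : ((zpowers w).subgroupOf S).index = 2 := by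
    have := card_mul_relIndex hle
    rw [Nat.card_zpowers, ho, h.card_eq] at this
    change (zpowers w).relIndex S = 2
    omega
  have key : ∀ s ∈ zpowers w, ∀ g : G, g * s * g⁻¹ ∈ S → g * s * g⁻¹ ∈ zpowers w := by
    intro s hs g hg
    by_cases h2 : s ^ 2 = 1
    · rcases h.uniq.2 _ (by rw [conj_pow, h2]; simp) (h.comm_t hg) with e | e
      · rw [e]; exact one_mem _
      · rw [e, ← hw2]; exact npow_mem_zpowers _ _
    · have h3 : zpowers s = zpowers w := by
        refine eq_of_le_of_card_le (zpowers_le.mpr hs) ?_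
        have hd := orderOf_dvd_of_mem_zpowers hs
        rw [ho] at hd
        obtain ⟨j, hj, e⟩ := (Nat.dvd_prime_pow Nat.prime_two (m := 2)).mp hd
        rw [Nat.card_zpowers, Nat.card_zpowers, ho, e]
        interval_cases j
        · exact (h2 (orderOf_dvd_iff_pow_eq_one.mp (by simp [e]))).elim
        · exact (h2 (orderOf_dvd_iff_pow_eq_one.mp (by simp [e]))).elim
        · rfl
      have h4 : g * w * g⁻¹ ∈ zpowers w := by
        by_contra h5
        refine hcon _ ?_ h5 (isConj_iff.mpr ⟨g, rfl⟩)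
        obtain ⟨j, hj⟩ := h3.ge (mem_zpowers w)
        simp only at hj
        rw [← hj, ← conj_zpow]
        exact zpow_mem hg j
      obtain ⟨j, rfl⟩ := hs
      simp only
      rw [← conj_zpow]
      exact zpow_mem h4 j
  have h1 := Fusion.commutator_inf_le_of_isSylowIn h.sylow (L := zpowers w) fun s hs g _ hg => by
    have := mul_mem_iff_of_index_two hi (a := ⟨_, hg⟩) (b := ⟨s⁻¹, inv_mem hs⟩)
    simp only [mem_subgroupOf, coe_mul, inv_mem_iff] at this
    refine this.mpr ⟨fun h1 => ?_, fun h1 => key s h1 g hg⟩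
    simpa [mul_assoc] using key _ h1 g⁻¹ (by simpa [mul_assoc] using hs)
  have h2 := card_le_of_le ((le_inf hS le_rfl).trans h1)
  rw [Nat.card_zpowers, ho, h.card_eq] at h2
  omega

theorem isConj_of_le (hS : S ≤ ⁅(⊤ : Subgroup G), (⊤ : Subgroup G)⁆) :
    IsConj x y ∧ IsConj x (x * y) := by
  obtain ⟨a, ha, ha1, ha2⟩ := h.exists_fused hS h.x_mem h.x_sq
  obtain ⟨b, hb, hb1, hb2⟩ := h.exists_fused hS h.y_mem h.sq_eq
  obtain ⟨c, hc, hc1, hc2⟩ := h.exists_fused hS (mul_mem h.x_mem h.y_mem) h.xy_sq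
  have h1 : IsConj x y ∨ IsConj x (x * y) := by
    rcases h.tri ha with rfl | rfl | e | e | e
    · exact (ha1 (one_mem _)).elim
    · exact (ha1 (h.x_sq ▸ npow_mem_zpowers _ _)).elim
    · exact (ha1 e.1).elim
    · exact Or.inl (ha2.trans e.2.symm)
    · exact Or.inr (ha2.trans e.2.symm)
  have h2 : IsConj y x ∨ IsConj y (x * y) := by
    rcases h.tri hb with rfl | rfl | e | e | e
    · exact (hb1 (one_mem _)).elim
    · exact (hb1 (h.sq_eq ▸ npow_mem_zpowers _ _)).elim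
    · exact Or.inl (hb2.trans e.2.symm)
    · exact (hb1 e.1).elim
    · exact Or.inr (hb2.trans e.2.symm)
  have h3 : IsConj (x * y) x ∨ IsConj (x * y) y := by
    rcases h.tri hc with rfl | rfl | e | e | e
    · exact (hc1 (one_mem _)).elim
    · exact (hc1 (h.xy_sq ▸ npow_mem_zpowers _ _)).elim
    · exact Or.inl (hc2.trans e.2.symm)
    · exact Or.inr (hc2.trans e.2.symm)
    · exact (hc1 e.1).elim
  have h4 : IsConj x y := h1.elim id fun e => h2.elim IsConj.symm fun e' => e.trans e'.symm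
  exact ⟨h4, h3.elim IsConj.symm fun e => h4.trans e.symm⟩

theorem exists_normal_of_one : ∃ N : Subgroup G, N.Normal ∧ N ≠ ⊤ ∧ t ∈ N := by
  by_cases hS : S ≤ ⁅(⊤ : Subgroup G), (⊤ : Subgroup G)⁆
  swap
  · refine ⟨⁅(⊤ : Subgroup G), (⊤ : Subgroup G)⁆, inferInstance, fun e => hS (le_top.trans e.ge), ?_⟩
    have := inv_mem (commutator_mem_commutator (mem_top y) (mem_top x))
    rwa [commutatorElement_def, h.inverts, mul_inv_rev, inv_inv, ← sq, h.x_sq] at this
  obtain ⟨c1, c2⟩ := h.isConj_of_le hS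
  have hsyl := h.sylow_cent
  rw [pow_one] at hsyl
  obtain ⟨O, hO, hreg, hcompl, hodd⟩ := exists_compl_of_isCyclic hsyl inferInstance
  refine Q8Hyp.exists_normal (u := x) (O := O) ⟨h.uniq, by simpa using h.ord, h.x_sq,
    fun w k h1 h2 => ?_, hO, hreg, by
      rw [IsComplIn_relIndex hcompl, Nat.card_zpowers, h.ord], hodd⟩
  obtain ⟨j, -, hj⟩ := (Nat.dvd_prime_pow Nat.prime_two).mp (orderOf_dvd_of_pow_eq_one h1)
  obtain ⟨z, -, hz⟩ := h.sylow.exists_conj_le (isPGroup_zpowers_iff.mpr ⟨j, hj⟩) le_top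
  have h3 : IsConj w (z * w * z⁻¹) := isConj_iff.mpr ⟨z, rfl⟩
  have h4 : (z * w * z⁻¹) ^ 2 ≠ 1 := by rw [conj_pow]; simpa using h2
  refine isConj_iff.mp ?_
  rcases h.tri (hz (conj_mem_map_conj (mem_zpowers w))) with e | e | e | e | e
  · exact (h4 (by simp [e])).elim
  · exact (h4 (by rw [e, sq_eq_one_of_orderOf h.uniq.1])).elim
  · exact e.2.trans h3.symm
  · exact c1.trans (e.2.trans h3.symm)
  · exact c2.trans (e.2.trans h3.symm)

end QSetup

end Q8

variable {G : Type u} [Group G]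

theorem exists_sylowIn_mem [Finite G] {t : G} {K : Subgroup G} (ht : orderOf t = 2) (hK : t ∈ K) :
    ∃ S : Subgroup G, t ∈ S ∧ IsSylowIn 2 S K := by
  obtain ⟨S, h1, h2⟩ := IsSylowIn.exists_ge (p := 2)
    (isPGroup_zpowers_iff.mpr ⟨1, by simpa using ht⟩) (zpowers_le.mpr hK)
  exact ⟨S, h1 (mem_zpowers t), h2⟩

/-- An isolated involution has no other conjugate in a `2`-subgroup containing it. -/
theorem conj_eq_of_isIsolated [Finite G] {t : G} (ho : orderOf t = 2) (h : IsIsolated t)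
    {S : Subgroup G} (hS : IsPGroup 2 S) (ht : t ∈ S) {g : G} (hg : g * t * g⁻¹ ∈ S) :
    g * t * g⁻¹ = t := by
  obtain ⟨k, hk⟩ := orderOf_eq_pow_of_mem_isPGroup hS (S.mul_mem ht hg)
  have h1 := odd_orderOf_mul_conj ho h g
  have h2 : orderOf (t * (g * t * g⁻¹)) = 1 :=
    Nat.Coprime.eq_one_of_dvd (h1.pow_right k) (hk ▸ dvd_rfl)
  rw [orderOf_eq_one_iff, ← mul_self_of_orderOf ho] at h2
  exact mul_left_cancel h2

theorem inZStar_of_normal [Finite G] {t : G} (ht : orderOf t = 2) (h : IsIsolated t)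
    {N : Subgroup G} [hN : N.Normal] (htN : t ∈ N) (hZ : InZStar 2 (⟨t, htN⟩ : N)) :
    InZStar 2 t := by
  intro g
  obtain ⟨S, htS, hS⟩ := exists_sylowIn_mem ht htN
  obtain ⟨z, hz, hle⟩ := hS.exists_conj_le (Q := zpowers (g * t * g⁻¹))
    (isPGroup_zpowers_iff.mpr ⟨1, by rw [orderOf_conj']; simpa using ht⟩)
    (zpowers_le.mpr (hN.conj_mem t htN g))
  have h1 := conj_eq_of_isIsolated ht h hS.isPGroup htS (g := z * g) (by
    have := hle (conj_mem_map_conj (mem_zpowers _))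
    simpa [mul_assoc] using this)
  have h2 : g * t * g⁻¹ = z⁻¹ * t * z⁻¹⁻¹ := by
    conv_rhs => rw [← h1]
    group
  rw [h2]
  exact map_pPrimeCore_le_of_isSubnormal 2 hN.isSubnormal ⟨_, hZ ⟨z⁻¹, inv_mem hz⟩, rfl⟩

theorem inZStar_of_isCyclic [Finite G] {S : Subgroup G} (hS : IsSylowIn 2 S ⊤) (hc : IsCyclic S)
    (t : G) : InZStar 2 t := by
  have := Fintype.ofFinite G
  obtain ⟨O, hO, -, hcompl, hodd⟩ := exists_compl_of_isCyclic hS hc
  have hn : O.Normal := normal_of_le_normalizer_top hO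
  intro g
  refine le_pPrimeCore hodd ?_
  obtain ⟨a, ha, b, hb, rfl⟩ := hcompl.2.2.2 g (mem_top g)
  obtain ⟨c, hc', d, hd, rfl⟩ := hcompl.2.2.2 t (mem_top t)
  rw [← QuotientGroup.eq_one_iff]
  simp only [QuotientGroup.mk_mul, QuotientGroup.mk_inv, (QuotientGroup.eq_one_iff a).mpr ha,
    (QuotientGroup.eq_one_iff c).mpr hc', one_mul]
  rw [← QuotientGroup.mk_mul, comm_of_isCyclic hc b hb d hd]
  simp

/-- **Brauer-Suzuki theorem**: an involution which is the only involution of its centralizer is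
central modulo the largest normal subgroup of odd order. -/
theorem brauer_suzuki (G : Type u) [Group G] [Finite G] : ∀ t : G, UniqInv t → InZStar 2 t := by
  refine card_induction (P := fun X _ _ => ∀ t : X, UniqInv t → InZStar 2 t) ?_ G
  intro X _ _ ih t h
  have := Fintype.ofFinite X
  obtain ⟨S, htS, hS⟩ := exists_sylowIn_mem h.1 (mem_top t)
  by_cases hc : IsCyclic S
  · exact inZStar_of_isCyclic hS hc t
  obtain ⟨x, y, k, hq⟩ := exists_qsetup h hS htS hc
  obtain ⟨N, hN, hne, htN⟩ : ∃ N : Subgroup X, N.Normal ∧ N ≠ ⊤ ∧ t ∈ N := by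
    rcases k with _ | k
    · exact QSetup.exists_normal_of_one hq
    · exact hq.exists_normal_of_two_le (Nat.le_self_pow (Nat.succ_ne_zero k) 2)
  refine inZStar_of_normal h.1 h.isIsolated htN (ih N (card_lt_of_ne_top hne) _
    ⟨by rw [← h.1, ← Subgroup.orderOf_coe], fun s h1 h2 => ?_⟩)
  exact (h.2 s (congrArg Subtype.val h1) (congrArg Subtype.val h2)).imp Subtype.ext Subtype.ext

end CfsgLib.Blk
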