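import Cfsg.Agent.Lib.Blk.BrauerInd
import Cfsg.Agent.Lib.H5Involutions
import Cfsg.Agent.Lib.SylowIn
import Cfsg.Agent.Lib.PComplement
import Cfsg.Agent.Lib.FusionControl
import Cfsg.Agent.Lib.PGroupRankOne
import Cfsg.Agent.Lib.TwoGroupMaxClass
import Cfsg.Prelude.Def_IsolatedElements

/-!
# The Brauer-Suzuki theorem, part 1: common lemmas and Sylow subgroups of order at least 16
-/

set_option autoImplicit false

namespace CfsgLib.Blk

open Cfsg Subgroup CfsgLib.FT
open scoped ComplexConjugate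

variable {G : Type*} [Group G]

/-- `t` is the only involution of its centralizer. -/
def UniqInv (t : G) : Prop := orderOf t = 2 ∧ ∀ s : G, s ^ 2 = 1 → s * t = t * s → s = 1 ∨ s = t

theorem sq_eq_one_of_orderOf {t : G} (h : orderOf t = 2) : t ^ 2 = 1 := by
  rw [← h, pow_orderOf_eq_one]

theorem ne_one_of_orderOf {t : G} (h : orderOf t = 2) : t ≠ 1 := by
  rintro rfl
  simp at h

theorem UniqInv.isIsolated {t : G} (h : UniqInv t) : IsIsolated t := by
  intro g hg
  refine (h.2 _ ?_ hg.symm.eq).resolve_left ?_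
  · rw [conj_pow, sq_eq_one_of_orderOf h.1]; simp
  · simpa using ne_one_of_orderOf h.1

theorem odd_orderOf_mul_conj [Finite G] {t : G} (ht : orderOf t = 2) (h : IsIsolated t) (g : G) :
    (orderOf (t * (g * t * g⁻¹))).Coprime 2 := by
  refine ((Nat.Prime.coprime_iff_not_dvd Nat.prime_two).mpr fun hd => ?_).symm
  have ht2 := sq_eq_one_of_orderOf ht
  set s := g * t * g⁻¹ with hs
  have hs2 : s ^ 2 = 1 := by rw [hs, conj_pow, ht2]; simp
  obtain ⟨w, hw, hw2, -, -, htw, -⟩ := H5.exists_common_involution_of_even ht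
    (show orderOf s = 2 by rw [hs, orderOf_conj', ht]) hd
  have hinv : ∀ y ∈ zpowers (t * s), t * y * t⁻¹ = y⁻¹ := fun y hy =>
    H5.inverts_of_mem_zpowers (H5.inverts_mul_left ht2 hs2) hy
  have key : ∀ y ∈ zpowers (t * s), y⁻¹ * t * y = t * (y * y) := fun y hy => by
    rw [← hinv y hy]; group
  obtain ⟨k, hk⟩ := hw
  simp only at hk
  have hc : Commute t (t * w) := (Commute.refl t).mul_right htw
  have hne : t * w ≠ t := by simpa using ne_one_of_orderOf hw2
  obtain ⟨j, rfl | rfl⟩ := Int.even_or_odd' k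
  · have e : t * w = ((t * s) ^ j)⁻¹ * t * ((t * s) ^ j)⁻¹⁻¹ := by
      rw [inv_inv, key _ (zpow_mem_zpowers _ _), ← hk, ← zpow_add, two_mul]
    rw [e] at hc hne
    exact hne (h _ hc)
  · have e : t * w = (((t * s) ^ j)⁻¹ * g) * t * (((t * s) ^ j)⁻¹ * g)⁻¹ := by
      have e1 : s = t * (t * s) := by rw [← mul_assoc, ← sq, ht2, one_mul]
      have e2 := key _ (zpow_mem_zpowers (t * s) j)
      have e3 : ∀ d : G, d ^ (2 * j + 1) = w → (d ^ j)⁻¹ * t * d ^ j = t * (d ^ j * d ^ j) →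
          t * w = (d ^ j)⁻¹ * (t * d) * d ^ j := fun d hd e2 => by
        calc t * w = t * (d ^ j * d ^ j) * d := by rw [← hd]; group
          _ = _ := by rw [← e2]; group
      calc t * w = ((t * s) ^ j)⁻¹ * (t * (t * s)) * (t * s) ^ j := e3 _ hk e2
        _ = _ := by rw [← e1, hs]; group
    rw [e] at hc hne
    exact hne (h _ hc)

variable [Fintype G] {L : Subgroup G}

theorem sum_dirr_conj {α : G → ℂ} (h : IsDirr ⊤ α) (t : G) :
    ∑ z, α (t * (z * t * z⁻¹)) = Nat.card G * α t ^ 2 / α 1 := by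
  have key : ∀ χ : G → ℂ, IsIrr ⊤ χ →
      ∑ z, χ (t * (z * t * z⁻¹)) = Nat.card G * χ t ^ 2 / χ 1 := fun χ hχ => by
    have := sum_conj_mul hχ t (mem_top t)
    rw [elems_top, card_top] at this
    rw [this]; ring
  rcases h with h | h
  · exact key α h
  · have := key _ h
    simp only [Pi.neg_apply, Finset.sum_neg_distrib] at this
    rw [neg_eq_iff_eq_neg] at this
    rw [this]; ring

/-- The final computation of Brauer and Suzuki. -/
theorem apply_eq_of_norm_three {t : G} (ht : orderOf t = 2) (h : IsIsolated t) {α β : G → ℂ}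
    (hα : IsDirr ⊤ α) (hβ : IsDirr ⊤ β)
    (h0 : ∀ g, (orderOf g).Coprime 2 → α g = 1 + β g) (h1 : α t ^ 2 = (1 + β t) ^ 2) :
    β t = β 1 := by
  have h2 : ∑ z, α (t * (z * t * z⁻¹)) = ∑ z, (1 + β (t * (z * t * z⁻¹))) :=
    Finset.sum_congr rfl fun z _ => h0 _ (odd_orderOf_mul_conj ht h z)
  rw [Finset.sum_add_distrib, sum_dirr_conj hα, sum_dirr_conj hβ, h1, h0 1 (by simp)] at h2
  simp only [Finset.sum_const, Finset.card_univ, nsmul_eq_mul, mul_one,
    ← Nat.card_eq_fintype_card] at h2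
  have h3 := hα.one_ne_zero
  rw [h0 1 (by simp)] at h3
  have h4 := hβ.one_ne_zero
  have h5 : (Nat.card G : ℂ) ≠ 0 := by exact_mod_cast Nat.card_pos.ne'
  field_simp at h2
  have h6 : (β t - β 1) ^ 2 = 0 := by linear_combination -h2
  exact sub_eq_zero.mp (pow_eq_zero_iff two_ne_zero |>.mp h6)

theorem exists_normal_of_dirr {t : G} {β : G → ℂ} (hβ : IsDirr ⊤ β)
    (h1 : cfdot ⊤ β (cf1 ⊤) = 0) (ht : β t = β 1) : ∃ N : Subgroup G, N.Normal ∧ N ≠ ⊤ ∧ t ∈ N := by
  obtain ⟨ε, χ, hε, hχ, rfl⟩ := hβ.exists_sign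
  have hε0 : (ε : ℂ) ≠ 0 := by rcases hε with rfl | rfl <;> simp
  refine ⟨cfker ⊤ χ, normal_of_le_normalizer_top (cfker_normal hχ.mem_CF), fun e => ?_,
    hχ.isChar.mem_cfker.mpr ⟨mem_top t, mul_left_cancel₀ hε0 ht⟩⟩
  rw [hχ.eq_cf1_iff.mpr e.ge, cfdot_smul_left, cfdot_cf1] at h1
  exact hε0 (by simpa using h1)

theorem exists_dirr_of_norm_two {φ a : G → ℂ} (hφ : φ ∈ ZIrr L) (hn : cfnorm L φ = 2)
    (ha : IsDirr L a) (h0 : cfdot L φ a = 0) : ∃ b c, IsDirr L b ∧ IsDirr L c ∧ φ = b + c ∧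
      cfdot L b a = 0 ∧ cfdot L c a = 0 := by
  classical
  obtain ⟨E, hE, hd, hon, hφE⟩ := zchar_small_norm (n := 2) hφ (by simpa using hn) (by norm_num)
  obtain ⟨b, c, hne, rfl⟩ := Finset.card_eq_two.mp hE
  rw [Finset.sum_pair hne] at hφE
  have hb := hd b (by simp)
  have hc := hd c (by simp)
  have ho : cfdot L b c = 0 := hon.ne (by simp) (by simp) hne
  rw [hφE, cfdot_add_left] at h0
  have hb0 : cfdot L b a = 0 := by
    by_contra hb0
    have hc0 : cfdot L c a ≠ 0 := fun e => hb0 (by simpa [e] using h0)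
    rcases hb.eq_or_neg_of_cfdot_ne ha hb0 with rfl | rfl <;>
      rcases hc.eq_or_neg_of_cfdot_ne ha hc0 with rfl | rfl <;>
      simp [cfdot_neg_left, cfdot_neg_right, ha.cfdot_self] at ho
  exact ⟨b, c, hb, hc, hφE, hb0, by simpa [hb0] using h0⟩

theorem exists_compl_of_isCyclic {A C : Subgroup G} (hA : IsSylowIn 2 A C) (hc : IsCyclic A) :
    ∃ O : Subgroup G, C ≤ normalizer (O : Set G) ∧ regSet 2 C = O ∧ IsComplIn O A C ∧
      (Nat.card O).Coprime 2 := by
  obtain ⟨P, hP⟩ := hA.exists_sylow_map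
  have hcP : IsCyclic (P : Subgroup C) := by
    rw [← hP] at hc
    exact isCyclic_of_surjective ((P : Subgroup C).equivMapOfInjective C.subtype
      C.subtype_injective).symm.toMonoidHom (MulEquiv.surjective _)
  have hn := PCompl.hnpc_two_of_isCyclic P hcP
  have hnorm := PRes.pResidual_normal (p := 2) (G := C)
  have hsub : ((pResidual 2 C).map C.subtype).subgroupOf C = pResidual 2 C :=
    comap_map_eq_self_of_injective C.subtype_injective _
  refine ⟨(pResidual 2 C).map C.subtype, ?_, ?_, ?_, ?_⟩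
  · have := PRes.pResidual_characteristic (p := 2) (G := C)
    exact le_normalizer.trans (normalizer_le_normalizer_map_subtype_of_characteristic C _)
  · ext g
    constructor
    · rintro ⟨hg, ho⟩
      exact ⟨⟨g, hg⟩, (PCompl.hnpc_mem_pResidual_iff hn).mpr (by simpa using ho), rfl⟩
    · rintro ⟨g, hg, rfl⟩
      exact ⟨g.2, by simpa using (PCompl.hnpc_mem_pResidual_iff hn).mp hg⟩
  · rw [← hP]
    refine isComplIn_of_isComplement' (map_subtype_le _) ?_
    rw [hsub]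
    exact PCompl.hnpc_isComplement' hn P
  · rw [card_map_subtype]
    exact PCompl.hnpc_iff_coprime_pResidual.mp hn

/-- A generalized quaternion Sylow `2`-subgroup of order `8 n` with its standard generators. -/
structure QSetup (S : Subgroup G) (t x y : G) (n : ℕ) : Prop where
  uniq : UniqInv t
  sylow : IsSylowIn 2 S ⊤
  x_mem : x ∈ S
  y_mem : y ∈ S
  n_pos : 0 < n
  ord : orderOf x = 4 * n
  pow_eq : x ^ (2 * n) = t
  sq_eq : y ^ 2 = t
  inverts : y * x * y⁻¹ = x⁻¹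
  card_eq : Nat.card S = 8 * n
  mem_cases : ∀ s ∈ S, s ∈ zpowers x ∨ s * y ∈ zpowers x

theorem exists_qsetup {t : G} (h : UniqInv t) {S : Subgroup G} (hS : IsSylowIn 2 S ⊤)
    (ht : t ∈ S) (hc : ¬ IsCyclic S) : ∃ (x y : G) (k : ℕ), QSetup S t x y (2 ^ k) := by
  obtain ⟨m, hm⟩ := IsPGroup.iff_card.mp hS.isPGroup
  have hcent : ∀ s ∈ S, s * t = t * s := by
    have hnt : Nontrivial S := ⟨⟨⟨t, ht⟩, 1, fun e => ne_one_of_orderOf h.1 (congrArg Subtype.val e)⟩⟩
    have := hS.isPGroup.center_nontrivial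
    obtain ⟨z, hz⟩ := exists_prime_orderOf_dvd_card' (G := center S) 2 (by
      obtain ⟨j, hj⟩ := IsPGroup.iff_card.mp (hS.isPGroup.to_subgroup (center S))
      rw [hj]
      refine dvd_pow_self 2 fun e => ?_
      rw [e, pow_zero] at hj
      exact (Finite.one_lt_card (α := center S)).ne' hj)
    have hz' : orderOf ((z : S) : G) = 2 := by rw [Subgroup.orderOf_coe, Subgroup.orderOf_coe, hz]
    have hzc : ∀ s ∈ S, s * ((z : S) : G) = ((z : S) : G) * s := fun s hs =>
      congrArg Subtype.val (mem_center_iff.mp z.2 ⟨s, hs⟩)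
    have := (h.2 _ (sq_eq_one_of_orderOf hz') (hzc t ht).symm).resolve_left (ne_one_of_orderOf hz')
    rwa [this] at hzc
  have hinv : ∀ s ∈ S, orderOf s = 2 → s = t := fun s hs ho =>
    (h.2 s (sq_eq_one_of_orderOf ho) (hcent s hs)).resolve_left (ne_one_of_orderOf ho)
  obtain ⟨k, hk, ⟨e⟩⟩ := (PGrp.isCyclic_or_quaternion_of_unique_involution hS.isPGroup
    fun a b ha hb => Subtype.ext ((hinv a a.2 (by simpa using ha)).trans
      (hinv b b.2 (by simpa using hb)).symm)).resolve_left hc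
  obtain ⟨x, y, h1, h2, h3, h4, h5⟩ := PGrp.exists_gens_of_mulEquiv_quaternionGroup e
  obtain ⟨k, rfl⟩ : ∃ j, k = j + 1 := ⟨k - 1, by omega⟩
  have h6 : (x : G) ^ (2 * 2 ^ k) = t := by
    refine hinv _ (S.pow_mem x.2 _) ?_
    rw [orderOf_pow' _ (by positivity), Subgroup.orderOf_coe, h1, pow_succ', Nat.gcd_eq_right
      (Dvd.intro_left _ rfl), Nat.mul_div_cancel _ (by positivity)]
  refine ⟨x, y, k, h, hS, x.2, y.2, by positivity, by rw [Subgroup.orderOf_coe, h1]; ring, h6,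
    ?_, congrArg Subtype.val h4, by rw [h5]; ring, fun s hs => ?_⟩
  · rw [← h6, ← pow_succ']; exact congrArg Subtype.val h3
  · have hi : (zpowers x).index = 2 := by
      have := (zpowers x).card_mul_index
      rw [Nat.card_zpowers, h1, h5] at this
      exact Nat.eq_of_mul_eq_mul_left (by positivity : 0 < 2 * 2 ^ (k + 1)) (by omega)
    have hm : ∀ a : S, a ∈ zpowers x → (a : G) ∈ zpowers (x : G) := by
      rintro _ ⟨j, rfl⟩
      exact ⟨j, by simp⟩
    by_cases hx : (⟨s, hs⟩ : S) ∈ zpowers x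
    · exact Or.inl (hm _ hx)
    · exact Or.inr (hm (⟨s, hs⟩ * y) ((mul_mem_iff_of_index_two hi).mpr (by simp [hx, h2])))

namespace QSetup

variable {S : Subgroup G} {t x y : G} {n : ℕ} (h : QSetup S t x y n)
include h

omit [Fintype G] in
theorem ord_u : orderOf (x ^ n) = 4 := by
  rw [orderOf_pow' _ h.n_pos.ne', h.ord, Nat.gcd_eq_right (Dvd.intro_left _ rfl),
    Nat.mul_div_cancel _ h.n_pos]

omit [Fintype G] in
theorem sq_u : (x ^ n) ^ 2 = t := by rw [← pow_mul, mul_comm, h.pow_eq]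

omit [Fintype G] in
theorem conj_zpowers {a : G} (ha : a ∈ zpowers x) : y * a * y⁻¹ = a⁻¹ :=
  H5.inverts_of_mem_zpowers h.inverts ha

omit [Fintype G] in
theorem y_notMem : y ∉ centralizer ({x ^ n} : Set G) := by
  intro hy
  have h1 := h.conj_zpowers (npow_mem_zpowers x n)
  rw [mem_centralizer_singleton_iff.mp hy, mul_inv_cancel_right, eq_inv_iff_mul_eq_one, ← sq,
    h.sq_u] at h1
  exact ne_one_of_orderOf h.uniq.1 h1

omit [Fintype G] h in
theorem zpowers_le_cent : zpowers x ≤ centralizer ({x ^ n} : Set G) := by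
  rintro _ ⟨j, rfl⟩
  exact mem_centralizer_singleton_iff.mpr ((Commute.refl x).zpow_left j |>.pow_right n).eq

theorem le_norm : S ≤ normalizer ((zpowers (x ^ n) : Subgroup G) : Set G) := by
  have hC : centralizer ({x ^ n} : Set G) ≤ normalizer ((zpowers (x ^ n) : Subgroup G) : Set G) := by
    refine le_normalizer_of_conj ?_
    rintro c hc _ ⟨j, rfl⟩
    have : Commute c ((x ^ n) ^ j) :=
      Commute.zpow_right (mem_centralizer_singleton_iff.mp hc) j
    rw [this.eq, mul_inv_cancel_right]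
    exact zpow_mem_zpowers _ _
  have hy : y ∈ normalizer ((zpowers (x ^ n) : Subgroup G) : Set G) :=
    mem_normalizer_of_conj_mem fun a ha => by
      rw [h.conj_zpowers (zpowers_le.mpr (npow_mem_zpowers x n) ha)]
      exact inv_mem ha
  intro s hs
  rcases h.mem_cases s hs with h1 | h1
  · exact hC (zpowers_le_cent h1)
  · simpa using mul_mem (hC (zpowers_le_cent h1)) (inv_mem hy)

omit h in
theorem norm_le_norm_cent (u : G) : normalizer ((zpowers u : Subgroup G) : Set G) ≤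
    normalizer ((centralizer ({u} : Set G) : Subgroup G) : Set G) := by
  refine le_normalizer_of_conj fun g hg c hc => mem_centralizer_singleton_iff.mpr ?_
  obtain ⟨j, hj⟩ := conj_mem_of_mem_normalizer' hg (mem_zpowers u)
  have h1 : Commute c (g⁻¹ * u * g) := by
    rw [← hj]; exact Commute.zpow_right (mem_centralizer_singleton_iff.mp hc) j
  calc g * c * g⁻¹ * u = g * (c * (g⁻¹ * u * g)) * g⁻¹ := by group
    _ = u * (g * c * g⁻¹) := by rw [h1.eq]; group

theorem sylow_cent : IsSylowIn 2 (zpowers x) (centralizer ({x ^ n} : Set G)) := by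
  have h1 := h.sylow.inf_of_le_normalizer le_top (h.le_norm.trans (norm_le_norm_cent _))
  have h2 : S ⊓ centralizer ({x ^ n} : Set G) = zpowers x := by
    refine le_antisymm (fun s hs => (h.mem_cases s hs.1).resolve_right fun h2 => h.y_notMem ?_)
      (le_inf (zpowers_le.mpr h.x_mem) zpowers_le_cent)
    simpa using mul_mem (Subgroup.inv_mem _ hs.2) (zpowers_le_cent (n := n) h2)
  rwa [h2] at h1

theorem mem_zpowers_of_pow_four {w : G} (hw : w ∈ centralizer ({x ^ n} : Set G))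
    (h4 : w ^ 4 = 1) : w ∈ zpowers (x ^ n) := by
  have hp : IsPGroup 2 (zpowers w) := by
    obtain ⟨j, -, hj⟩ := (Nat.dvd_prime_pow Nat.prime_two (m := 2)).mp
      (orderOf_dvd_of_pow_eq_one h4)
    exact isPGroup_zpowers_iff.mpr ⟨j, hj⟩
  obtain ⟨z, hz, hle⟩ := h.sylow_cent.exists_conj_le hp (zpowers_le.mpr hw)
  obtain ⟨j, hj⟩ := hle (conj_mem_map_conj (g := z) (mem_zpowers w))
  simp only at hj
  have h1 : x ^ (j * 4) = 1 := by
    rw [zpow_mul, hj, zpow_ofNat, conj_pow, h4]; simp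
  have h2 : ((4 * n : ℕ) : ℤ) ∣ j * 4 := by rw [← h.ord]; exact orderOf_dvd_iff_zpow_eq_one.mpr h1
  obtain ⟨i, hi⟩ : (n : ℤ) ∣ j := by
    obtain ⟨c, hc⟩ := h2
    exact ⟨c, by push_cast at hc; linarith⟩
  refine ⟨i, ?_⟩
  have h3 : Commute z ((x ^ n) ^ i) := Commute.zpow_right (mem_centralizer_singleton_iff.mp hz) i
  simp only
  rw [hi, zpow_mul, zpow_natCast] at hj
  calc (x ^ n) ^ i = z⁻¹ * (z * (x ^ n) ^ i) := by group
    _ = w := by rw [h3.eq, hj]; group

theorem relIndex_cent : (centralizer ({x ^ n} : Set G)).relIndex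
    (normalizer ((zpowers (x ^ n) : Subgroup G) : Set G)) = 2 := by
  classical
  refine relIndex_eq_two_iff.mpr ⟨y, h.le_norm h.y_mem, fun b hb => ?_⟩
  by_cases hc : b ∈ centralizer ({x ^ n} : Set G)
  · exact Or.inr ⟨hc, fun h1 => h.y_notMem (by simpa using mul_mem (inv_mem hc) h1)⟩
  refine Or.inl ⟨mem_centralizer_singleton_iff.mpr ?_, hc⟩
  set u := x ^ n with hu
  have h4 : u ^ 4 = 1 := by rw [← h.ord_u, pow_orderOf_eq_one]
  have h1 := conj_mem_of_mem_normalizer hb (mem_zpowers u)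
  rw [mem_zpowers_iff_mem_range_orderOf, h.ord_u] at h1
  obtain ⟨j, hj, e⟩ := Finset.mem_image.mp h1
  have ho : orderOf (u ^ j) = 4 := by rw [e, orderOf_conj', h.ord_u]
  have hyu : y * u * y⁻¹ = u⁻¹ := h.conj_zpowers (npow_mem_zpowers x n)
  have hj' : j < 4 := Finset.mem_range.mp hj
  interval_cases j
  · simp at ho
  · exact (hc (mem_centralizer_singleton_iff.mpr (by
      rw [← mul_inv_eq_iff_eq_mul, ← e, pow_one]))).elim
  · rw [h.sq_u, h.uniq.1] at ho; omega
  · rw [← mul_inv_eq_iff_eq_mul]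
    calc b * y * u * (b * y)⁻¹ = b * (y * u * y⁻¹) * b⁻¹ := by group
      _ = (b * u * b⁻¹)⁻¹ := by rw [hyu]; group
      _ = u := by rw [← e, inv_eq_iff_mul_eq_one, ← pow_succ, h4]

omit h in
theorem exists_order_four {c : G} (hc : 4 ∣ orderOf c) : ∃ w ∈ zpowers c, orderOf w = 4 :=
  ⟨c ^ (orderOf c / 4), npow_mem_zpowers _ _, orderOf_pow_orderOf_div (orderOf_pos c).ne' hc⟩

theorem normedTI : NormedTI {c | c ∈ centralizer ({x ^ n} : Set G) ∧ 4 ∣ orderOf c} ⊤
    (normalizer ((zpowers (x ^ n) : Subgroup G) : Set G)) := by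
  refine ⟨⟨x ^ n, mem_centralizer_singleton_iff.mpr rfl, by rw [h.ord_u]⟩, le_top,
    fun g hg a ha => ⟨conj_mem_of_mem_normalizer (norm_le_norm_cent _ hg) ha.1, by
      rw [orderOf_conj']; exact ha.2⟩, fun g _ a ha hga => ?_⟩
  obtain ⟨w, hw, hw4⟩ := exists_order_four ha.2
  have h4 : w ^ 4 = 1 := by rw [← hw4, pow_orderOf_eq_one]
  have h1 := h.mem_zpowers_of_pow_four (zpowers_le.mpr ha.1 hw) h4
  have h2 : g * w * g⁻¹ ∈ zpowers (x ^ n) := by
    refine h.mem_zpowers_of_pow_four ?_ (by rw [conj_pow, h4]; simp)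
    obtain ⟨j, rfl⟩ := hw
    simp only
    rw [← conj_zpow]
    exact zpow_mem hga.1 j
  have h3 : zpowers w = zpowers (x ^ n) :=
    eq_of_le_of_card_le (zpowers_le.mpr h1) (by rw [Nat.card_zpowers, Nat.card_zpowers, hw4, h.ord_u])
  refine mem_normalizer_of_conj_mem fun z hz => ?_
  rw [← h3] at hz
  obtain ⟨j, rfl⟩ := hz
  simp only
  rw [← conj_zpow]
  exact zpow_mem h2 j

/-- Brauer-Suzuki for generalized quaternion Sylow subgroups of order at least 16. -/
theorem exists_normal_of_two_le (hn : 2 ≤ n) : ∃ N : Subgroup G, N.Normal ∧ N ≠ ⊤ ∧ t ∈ N := by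
  classical
  set C := centralizer ({x ^ n} : Set G) with hC
  set N := normalizer ((zpowers (x ^ n) : Subgroup G) : Set G) with hN
  set X := {c | c ∈ C ∧ 4 ∣ orderOf c} with hX
  have hTI : NormedTI X ⊤ N := h.normedTI
  have hi : C.relIndex N = 2 := h.relIndex_cent
  have hNC : N ≤ normalizer (C : Set G) := norm_le_norm_cent _
  have hCN : C ≤ N := fun c hc => by
    by_cases h1 : c = 1
    · rw [h1]; exact one_mem _
    refine hTI.ti c (mem_top c) (x ^ n) ⟨mem_centralizer_singleton_iff.mpr rfl, by rw [h.ord_u]⟩ ?_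
    rw [mem_centralizer_singleton_iff.mp hc, mul_inv_cancel_right]
    exact ⟨mem_centralizer_singleton_iff.mpr rfl, by rw [h.ord_u]⟩
  have hyN : y ∈ N := h.le_norm h.y_mem
  have hxC : x ∈ C := zpowers_le_cent (mem_zpowers x)
  have htx : t ∈ zpowers x := h.pow_eq ▸ npow_mem_zpowers _ _
  obtain ⟨O, hO, hreg, hcompl, -⟩ := exists_compl_of_isCyclic h.sylow_cent inferInstance
  obtain ⟨μ, hμ, hker⟩ := exists_lin_faithful (L := zpowers x) inferInstance
  have hμ2 := hμ.pow two_ne_zero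
  set l := cfProd O (zpowers x) (cf1 O) (μ ^ 2) with hl
  have hlin : IsLin C l := ⟨sdprod_isChar hcompl hO hμ2.isChar, by
    rw [hl, cfProd_one hcompl.2.2.1, cf1_one, hμ2.one, one_mul]⟩
  have hlA : ∀ a ∈ zpowers x, l a = μ a ^ 2 := fun a ha => by
    have := cfProd_apply (φ := cf1 O) (ψ := μ ^ 2) hcompl.2.2.1 O.one_mem ha
    simpa using this
  have hlO : O ≤ cfker C l := sdprod_le_cfker hcompl
  have hlt : l t = 1 := by
    rw [hlA t htx, ← hμ.map_pow htx, sq_eq_one_of_orderOf h.uniq.1, hμ.one]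
  have hlx : l x ^ 2 ≠ 1 := by
    rw [hlA x (mem_zpowers x), ← pow_mul, ← hμ.map_pow (mem_zpowers x)]
    intro e
    have : x ^ (2 * 2) ∈ cfker (zpowers x) μ :=
      hμ.isChar.mem_cfker.mpr ⟨npow_mem_zpowers _ _, by rw [e, hμ.one]⟩
    rw [hker, mem_bot] at this
    have := Nat.le_of_dvd (by norm_num) (orderOf_dvd_of_pow_eq_one this)
    rw [h.ord] at this
    omega
  have hsupp : ∀ c, c ∉ X → (l - cf1 C) c = 0 := by
    intro c hc
    by_cases hcC : c ∈ C
    swap
    · simp [hlin.mem_CF.1 c hcC, cf1_apply_of_notMem hcC]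
    obtain ⟨a, ha, b, hb, rfl, -, ⟨k, hk⟩, hbo⟩ := exists_p_part Nat.prime_two c
    have haC : a ∈ C := zpowers_le.mpr hcC ha
    have hbO : b ∈ O := hreg.le ⟨zpowers_le.mpr hcC hb, hbo⟩
    have ha2 : a ^ 2 = 1 := by
      have hk1 : k ≤ 1 := by
        by_contra hk1
        refine hc ⟨hcC, Dvd.dvd.trans ?_ (orderOf_dvd_of_mem_zpowers ha)⟩
        rw [hk]
        exact pow_dvd_pow 2 (show 2 ≤ k by omega)
      exact orderOf_dvd_iff_pow_eq_one.mp (hk ▸ pow_dvd_pow 2 hk1)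
    have hat : a * t = t * a := by
      rw [← h.sq_u]
      exact Commute.pow_right (mem_centralizer_singleton_iff.mp haC) 2
    rw [Pi.sub_apply, cf1_apply hcC, cfker_mul_right hlin.mem_CF (hlO hbO), sub_eq_zero]
    rcases h.uniq.2 a ha2 hat with rfl | rfl
    exacts [hlin.one, hlt]
  have hI : N ⊓ inertia l ≤ C := by
    rintro g ⟨hg, hgI⟩
    by_contra hgC
    have h1 : g * y ∈ C := by
      have := mul_mem_iff_of_index_two (H := C.subgroupOf N) hi (a := ⟨g, hg⟩) (b := ⟨y, hyN⟩)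
      simp only [mem_subgroupOf, coe_mul] at this
      exact this.mpr (iff_of_false hgC h.y_notMem)
    have hyI : y ∈ inertia l := by
      simpa using (inertia l).mul_mem ((inertia l).inv_mem hgI) (le_inertia hlin.mem_CF h1)
    have h2 := hyI x
    rw [h.inverts, hlin.isChar.inv] at h2
    exact hlx (by rw [sq]; nth_rewrite 2 [← h2]; exact hlin.mul_conj hxC)
  have hl1 : l ≠ cf1 C := fun e => hlx (by rw [e, cf1_apply hxC, one_pow])
  have hθ : cfInd C N (l - cf1 C) ∈ CFon N X :=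
    cfInd_mem_CFon hTI.conj_mem hsupp
  have hnorm : cfnorm N (cfInd C N (l - cf1 C)) = 3 := by
    have h1 := (inertia_Ind_irr hCN hNC hlin.isIrr hI).cfnorm
    have h2 := cfnorm_Ind_irr hCN hNC (isIrr_cf1 C)
    rw [inf_eq_left.mpr fun g hg => mem_inertia_cf1 (hNC hg), hi] at h2
    have h3 := cfInd_irr_ortho hCN hNC hlin.isIrr (isIrr_cf1 C)
      fun e => hl1 ((cfInd_irr_eq1 hCN hNC hlin.isIrr).mp e)
    rw [map_sub, cfnorm_sub_of_ortho h3, h1, h2]
    norm_num
  set Ξ := cfInd N ⊤ (cfInd C N (l - cf1 C)) with hΞ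
  have hΞZ : Ξ ∈ ZIrr ⊤ := ZIrr_cfInd le_top (ZIrr_cfInd hCN
    (sub_mem hlin.isChar.mem_ZIrr cf1_mem_ZIrr))
  have hΞn : cfnorm ⊤ Ξ = 3 := by
    rw [← hnorm]; exact cfnorm_eq_of_cfdot (normedTI_isometry hTI hθ hθ)
  have hΞ1 : cfdot ⊤ Ξ (cf1 ⊤) = -1 := by
    rw [hΞ, cfInd_cfInd hCN le_top, cfdot_cfInd_cfRes le_top cf1_mem_CF, cfRes_cf1 le_top,
      cfdot_sub_left, cfdot_cf1, hlin.isIrr.cfdot_ne (isIrr_cf1 C) hl1, zero_sub]
  have hΞ0 : ∀ g, ¬ 4 ∣ orderOf g → Ξ g = 0 := fun g hg =>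
    cfInd_eq_zero fun z _ _ => hθ.2 _ fun hz => hg (by simpa [orderOf_conj'] using hz.2)
  obtain ⟨α, γ, hα, hγ, e, -, hγ1⟩ := exists_dirr_of_norm_two (φ := Ξ + cf1 ⊤)
    (add_mem hΞZ cf1_mem_ZIrr) (by
      rw [cfnorm_add, hΞn, hΞ1, (isIrr_cf1 ⊤).cfnorm]; norm_num) (isIrr_cf1 ⊤).isDirr
    (by rw [cfdot_add_left, hΞ1, cfdot_cf1]; norm_num)
  have key : ∀ g, ¬ 4 ∣ orderOf g → α g = 1 + (-γ) g := fun g hg => by
    have := congrFun e g
    rw [Pi.add_apply, Pi.add_apply, hΞ0 g hg, cf1_apply (mem_top g)] at this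
    rw [Pi.neg_apply]
    linear_combination -this
  refine exists_normal_of_dirr hγ.neg (by rw [cfdot_neg_left, hγ1, neg_zero])
    (apply_eq_of_norm_three h.uniq.1 h.uniq.isIsolated hα hγ.neg (fun g hg => key g fun hd => ?_)
      (by rw [key t (by rw [h.uniq.1]; norm_num)]))
  have := Nat.Coprime.eq_one_of_dvd hg.symm ((by norm_num : 2 ∣ 4).trans hd)
  omega

end QSetup

end CfsgLib.Blk
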