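import Cfsg.Agent.Lib.Blk.Basic

/-!
# Block theory kit, part 2: the group algebra as convolution of functions
-/

set_option autoImplicit false

namespace CfsgLib.Blk

open Cfsg Subgroup CfsgLib.FT
open scoped ComplexConjugate

variable {G : Type*} [Group G] [Fintype G]
variable {L C : Subgroup G} {a b c φ χ ψ : G → ℂ}

/-- Convolution of functions: the product of the group algebra. -/
noncomputable def conv (a b : G → ℂ) : G → ℂ := fun g => ∑ h, a (g * h⁻¹) * b h

/-- The regular representation. -/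
def lm (a : G → ℂ) : Matrix G G ℂ := Matrix.of fun x y => a (x * y⁻¹)

open Classical in
/-- The basis element of the group algebra attached to `g`. -/
noncomputable def delta (g : G) : G → ℂ := fun x => if x = g then 1 else 0

/-- `act a φ g` is the value of `φ` at the element `g * a` of the group algebra. -/
noncomputable def act (a φ : G → ℂ) : G → ℂ := fun g => ∑ h, a h * φ (g * h)

/-- The central character. -/
noncomputable def om (χ f : G → ℂ) : ℂ := (∑ x, f x * χ x) / χ 1

/-- The central element of `ℂ L` acting as `s χ` on the module affording `χ`. -/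
noncomputable def idem (L : Subgroup G) (s : Irr L → ℂ) : G → ℂ :=
  ∑ χ : Irr L, (s χ * χ 1 / Nat.card L) • cfConjC χ

omit [Fintype G] in
theorem lm_apply (x y : G) : lm a x y = a (x * y⁻¹) := rfl

theorem lm_mul : lm a * lm b = lm (conv a b) := by
  ext x z
  rw [Matrix.mul_apply, lm_apply, conv]
  refine Fintype.sum_equiv (Equiv.mulRight z⁻¹) _ _ fun y => ?_
  simp [lm_apply, mul_assoc]

omit [Fintype G] in
theorem lm_injective : Function.Injective (lm : (G → ℂ) → Matrix G G ℂ) := by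
  intro a b h
  ext x
  simpa [lm_apply] using congrFun (congrFun h x) 1

omit [Fintype G] in
theorem lm_sub : lm (a - b) = lm a - lm b := rfl

omit [Fintype G] in
theorem lm_smul (z : ℂ) : lm (z • a) = z • lm a := rfl

theorem trace_lm : (lm a).trace = Fintype.card G * a 1 := by
  simp [Matrix.trace, lm_apply]

theorem conv_assoc : conv (conv a b) c = conv a (conv b c) := by
  apply lm_injective
  rw [← lm_mul, ← lm_mul, ← lm_mul, ← lm_mul, Matrix.mul_assoc]

theorem conv_sub_left : conv (a - b) c = conv a c - conv b c := by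
  ext g; simp [conv, sub_mul]

theorem conv_sub_right : conv a (b - c) = conv a b - conv a c := by
  ext g; simp [conv, mul_sub]

theorem conv_smul_left (z : ℂ) : conv (z • a) b = z • conv a b := by
  ext g; simp [conv, Finset.mul_sum, mul_assoc]

theorem conv_sum_left {ι : Type*} (s : Finset ι) (f : ι → G → ℂ) :
    conv (∑ i ∈ s, f i) b = ∑ i ∈ s, conv (f i) b := by
  ext g
  simp only [conv, Finset.sum_apply, Finset.sum_mul]
  exact Finset.sum_comm

theorem conv_delta_left (g x : G) : conv (delta g) a x = a (g⁻¹ * x) := by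
  classical
  rw [conv, Finset.sum_eq_single (g⁻¹ * x)]
  · simp [delta]
  · intro h _ hh
    have : x * h⁻¹ ≠ g := fun e => hh (by rw [← e]; group)
    simp [delta, this]
  · simp

theorem conv_delta_right (g x : G) : conv a (delta g) x = a (x * g⁻¹) := by
  classical
  rw [conv, Finset.sum_eq_single g]
  · simp [delta]
  · intro h _ hh
    simp [delta, hh]
  · simp

theorem conv_delta_one : conv (delta 1) a = a := by
  ext x; simp [conv_delta_left]

theorem conv_eq' (g : G) : conv a b g = ∑ h, a h * b (h⁻¹ * g) := by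
  rw [conv]
  refine Fintype.sum_equiv ((Equiv.inv G).trans (Equiv.mulLeft g)) _ _ fun h => ?_
  simp

theorem conv_comm (ha : ∀ y ∈ C, ∀ x, a (y * x) = a (x * y)) (hb : ∀ x, x ∉ C → b x = 0) :
    conv a b = conv b a := by
  ext g
  rw [conv_eq' (a := b), conv]
  refine Finset.sum_congr rfl fun h _ => ?_
  by_cases hh : h ∈ C
  · rw [ha _ (C.inv_mem hh), mul_comm]
  · simp [hb h hh]

theorem conv_comm_CF (hCL : C ≤ L) (ha : a ∈ CF L) (hb : ∀ x, x ∉ C → b x = 0) :
    conv a b = conv b a :=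
  conv_comm (fun _ hy x => CF_mul_comm ha (hCL hy) x) hb

theorem conv_supp (ha : ∀ x, x ∉ L → a x = 0) (hb : ∀ x, x ∉ L → b x = 0) :
    ∀ x, x ∉ L → conv a b x = 0 := by
  intro x hx
  refine Finset.sum_eq_zero fun h _ => ?_
  by_cases hh : h ∈ L
  · rw [ha _ fun h' => hx (by simpa using L.mul_mem h' hh), zero_mul]
  · rw [hb h hh, mul_zero]

theorem conv_conj {y : G} (ha : ∀ x, a (y * x * y⁻¹) = a x) (hb : ∀ x, b (y * x * y⁻¹) = b x)
    (x : G) : conv a b (y * x * y⁻¹) = conv a b x := by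
  rw [conv, conv]
  refine (Fintype.sum_equiv (MulAut.conj y).toEquiv _ _ fun h => ?_).symm
  simp only [MulEquiv.toEquiv_eq_coe, MulEquiv.coe_toEquiv, MulAut.conj_apply]
  rw [hb, ← ha (x * h⁻¹)]
  congr 2
  group

theorem conv_mem_CF (ha : a ∈ CF L) (hb : b ∈ CF L) : conv a b ∈ CF L :=
  ⟨conv_supp ha.1 hb.1, fun y hy => conv_conj (ha.2 y hy) (hb.2 y hy)⟩

theorem act_sub_left : act (a - b) φ = act a φ - act b φ := by
  ext g; simp [act, sub_mul]

theorem act_conv : act (conv a b) φ = act a (act b φ) := by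
  ext g
  simp only [act, conv, Finset.sum_mul, Finset.mul_sum]
  rw [Finset.sum_comm]
  conv_rhs => rw [Finset.sum_comm]
  refine Finset.sum_congr rfl fun h _ => ?_
  refine Fintype.sum_equiv (Equiv.mulRight h⁻¹) _ _ fun k => ?_
  simp [mul_assoc]

theorem act_sum_right {ι : Type*} (s : Finset ι) (f : ι → G → ℂ) :
    act a (∑ i ∈ s, f i) = ∑ i ∈ s, act a (f i) := by
  ext g
  simp only [act, Finset.sum_apply, Finset.mul_sum]
  exact Finset.sum_comm

theorem act_smul_right (z : ℂ) : act a (z • φ) = z • act a φ := by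
  ext g; simp [act, Finset.mul_sum, mul_left_comm]

theorem act_congr {g : G} (hg : g ∈ C) (ha : ∀ x, x ∉ C → a x = 0) (h : ∀ x ∈ C, φ x = ψ x) :
    act a φ g = act a ψ g := by
  refine Finset.sum_congr rfl fun x _ => ?_
  by_cases hx : x ∈ C
  · rw [h _ (C.mul_mem hg hx)]
  · simp [ha x hx]

theorem sum_eq_sum_elems {A : Set G} {f : G → ℂ} (h : ∀ x, x ∉ A → f x = 0) :
    ∑ x, f x = ∑ x ∈ elems A, f x :=
  (Finset.sum_subset (Finset.subset_univ _) fun x _ hx => h x (by simpa using hx)).symm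

theorem om_eq (hχ : IsIrr L χ) (f : G → ℂ) :
    om χ f = (∑ x ∈ elems (L : Set G), f x * χ x) / χ 1 := by
  rw [om, sum_eq_sum_elems (A := L) fun x hx => by rw [hχ.2 x hx, mul_zero]]

theorem sum_mul_irr (hχ : IsIrr L χ) (hb : b ∈ CF L) (y : G) :
    ∑ x, b x * χ (x * y) = om χ b * χ y := by
  rw [om_eq hχ, ← hχ.sum_CF_mul hb, sum_eq_sum_elems (A := L) fun x hx => by
    rw [hb.1 x hx, zero_mul]]

theorem act_irr (hχ : IsIrr L χ) (hb : b ∈ CF L) : act b χ = om χ b • χ := by
  ext g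
  rw [Pi.smul_apply, smul_eq_mul, ← sum_mul_irr hχ hb, act]
  refine Finset.sum_congr rfl fun x _ => ?_
  by_cases hx : x ∈ L
  · rw [CF_mul_comm hχ.mem_CF hx]
  · simp [hb.1 x hx]

theorem conv_conj_irr (hχ : IsIrr L χ) (hb : b ∈ CF L) :
    conv (cfConjC χ) b = om χ b • cfConjC χ := by
  ext g
  rw [Pi.smul_apply, smul_eq_mul, cfConjC, cfAut_apply, ← hχ.isChar.inv, ← sum_mul_irr hχ hb, conv]
  refine Finset.sum_congr rfl fun x _ => ?_
  rw [cfAut_apply, ← hχ.isChar.inv, mul_comm]
  simp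

theorem om_sum {ι : Type*} (s : Finset ι) (f : ι → G → ℂ) :
    om χ (∑ i ∈ s, f i) = ∑ i ∈ s, om χ (f i) := by
  simp only [om, Finset.sum_apply, Finset.sum_mul, Finset.sum_div]
  exact Finset.sum_comm

theorem om_smul (z : ℂ) : om χ (z • a) = z * om χ a := by
  simp only [om, Pi.smul_apply, smul_eq_mul, mul_assoc, ← Finset.mul_sum, mul_div_assoc]

theorem om_conj (hχ : IsIrr L χ) : om χ (cfConjC ψ) = Nat.card L * cfdot L χ ψ / χ 1 := by
  rw [om_eq hχ, cfdot, ← mul_assoc, mul_inv_cancel₀ (card_ne_zero L), one_mul]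
  simp only [cfAut_apply, mul_comm]

theorem idem_mem_CF (s : Irr L → ℂ) : idem L s ∈ CF L :=
  Submodule.sum_mem _ fun χ _ => Submodule.smul_mem _ _ (cfAut_mem_CF _ χ.mem_CF)

theorem idem_apply (s : Irr L → ℂ) (g : G) :
    idem L s g = ∑ χ : Irr L, s χ * χ 1 / Nat.card L * conj (χ g) := by
  simp [idem]

theorem om_idem (s : Irr L → ℂ) (ψ : Irr L) : om ψ (idem L s) = s ψ := by
  rw [idem, om_sum, Finset.sum_eq_single ψ]
  · rw [om_smul, om_conj ψ.irr, ψ.irr.cfdot_self]
    have := ψ.irr.one_ne_zero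
    have := card_ne_zero L
    field_simp
  · intro χ _ h
    rw [om_smul, om_conj ψ.irr, Irr.cfdot_eq, if_neg h.symm]
    simp
  · simp

theorem conv_idem (s : Irr L → ℂ) (hb : b ∈ CF L) :
    conv (idem L s) b = idem L (s * fun χ : Irr L => om χ b) := by
  rw [idem, conv_sum_left, idem]
  refine Finset.sum_congr rfl fun χ _ => ?_
  rw [conv_smul_left, conv_conj_irr χ.irr hb, smul_smul, Pi.mul_apply]
  congr 1
  ring

theorem idem_mul (s t : Irr L → ℂ) : idem L (s * t) = conv (idem L s) (idem L t) := by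
  rw [conv_idem s (idem_mem_CF t)]
  simp only [om_idem]

theorem idem_one : idem L 1 = delta 1 := by
  ext g
  classical
  have h := congrArg conj (sum_irr_one_mul' (L := L) g)
  rw [map_sum] at h
  rw [idem_apply, delta]
  have h2 : ∑ χ : Irr L, (1 : Irr L → ℂ) χ * χ 1 / Nat.card L * conj (χ g) =
      (∑ χ : Irr L, conj (χ 1 * χ g)) / Nat.card L := by
    rw [Finset.sum_div]
    refine Finset.sum_congr rfl fun χ _ => ?_
    rw [map_mul, χ.isChar.conj_one, Pi.one_apply]
    ring
  rw [h2, h]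
  split_ifs
  · simp [card_ne_zero L]
  · simp

theorem idem_om (hb : b ∈ CF L) : idem L (fun χ : Irr L => om χ b) = b := by
  have := conv_idem 1 hb
  rw [idem_one, conv_delta_one, one_mul] at this
  exact this.symm

theorem idem_add (s t : Irr L → ℂ) : idem L (s + t) = idem L s + idem L t := by
  ext g
  simp only [idem_apply, Pi.add_apply, ← Finset.sum_add_distrib]
  exact Finset.sum_congr rfl fun χ _ => by ring

theorem idem_smul (z : ℂ) (s : Irr L → ℂ) : idem L (z • s) = z • idem L s := by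
  ext g
  simp only [idem_apply, Pi.smul_apply, smul_eq_mul, Finset.mul_sum]
  exact Finset.sum_congr rfl fun χ _ => by ring

theorem act_idem (s : Irr L → ℂ) (hφ : φ ∈ CF L) :
    act (idem L s) φ = ∑ χ : Irr L, (s χ * cfdot L φ χ) • (χ : G → ℂ) := by
  conv_lhs => rw [cfun_sum_cfdot hφ]
  rw [act_sum_right]
  refine Finset.sum_congr rfl fun χ _ => ?_
  rw [act_smul_right, act_irr χ.irr (idem_mem_CF s), om_idem, smul_smul, mul_comm]

theorem act_mem_CF (ha : a ∈ CF L) (hφ : φ ∈ CF L) : act a φ ∈ CF L := by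
  rw [← idem_om ha, act_idem _ hφ]
  exact sum_smul_irr_mem_CF _ _

theorem sum_conj_mul (hχ : IsIrr L χ) (x : G) {y : G} (hy : y ∈ L) :
    ∑ z ∈ elems (L : Set G), χ (x * (z * y * z⁻¹)) = Nat.card L * χ x * χ y / χ 1 := by
  classical
  let f : G → ℂ := ∑ z ∈ elems (L : Set G), delta (z * y * z⁻¹)
  have hsum : ∀ F : G → ℂ, ∑ w, f w * F w = ∑ z ∈ elems (L : Set G), F (z * y * z⁻¹) := by
    intro F
    simp only [f, Finset.sum_apply, Finset.sum_mul]
    rw [Finset.sum_comm]
    exact Finset.sum_congr rfl fun z _ => by simp [delta]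
  have hf : f ∈ CF L := by
    refine ⟨fun w hw => ?_, fun g hg w => ?_⟩
    · simp only [f, Finset.sum_apply]
      refine Finset.sum_eq_zero fun z hz => ?_
      have hz' : z ∈ L := by simpa using hz
      have : w ≠ z * y * z⁻¹ := fun e => hw (e ▸ L.mul_mem (L.mul_mem hz' hy) (L.inv_mem hz'))
      simp [delta, this]
    · simp only [f, Finset.sum_apply]
      rw [← sum_elems_mul_left hg]
      refine Finset.sum_congr rfl fun z _ => ?_
      have : g * w * g⁻¹ = g * z * y * (g * z)⁻¹ ↔ w = z * y * z⁻¹ := by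
        constructor
        · intro h
          calc w = g⁻¹ * (g * w * g⁻¹) * g := by group
            _ = z * y * z⁻¹ := by rw [h]; group
        · rintro rfl; group
      simp only [delta, this]
  have h1 := congrFun (act_irr hχ hf) x
  rw [act, hsum (fun w => χ (x * w)), Pi.smul_apply, om, hsum, smul_eq_mul] at h1
  rw [h1, Finset.sum_congr rfl fun z hz => CF_conj hχ.mem_CF (by simpa using hz) y,
    sum_elems_const, nsmul_eq_mul]
  ring

section Val

variable {Γ : Type*} [LinearOrderedCommGroupWithZero Γ] {v : Valuation ℂ Γ}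

theorem val_conv_le (ha : ∀ g, v (a g) ≤ 1) (hb : ∀ g, v (b g) ≤ 1) (g : G) :
    v (conv a b g) ≤ 1 :=
  v.map_sum_le fun _ _ => val_mul_le (ha _) (hb _)

theorem val_conv_lt_left (ha : ∀ g, v (a g) < 1) (hb : ∀ g, v (b g) ≤ 1) (g : G) :
    v (conv a b g) < 1 :=
  v.map_sum_lt one_ne_zero fun _ _ => val_mul_lt_left (ha _) (hb _)

theorem val_conv_lt_right (ha : ∀ g, v (a g) ≤ 1) (hb : ∀ g, v (b g) < 1) (g : G) :
    v (conv a b g) < 1 :=
  v.map_sum_lt one_ne_zero fun _ _ => val_mul_lt_right (ha _) (hb _)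

omit [Group G] [Fintype G] in
theorem val_delta_le (g x : G) : v (delta g x) ≤ 1 := by
  unfold delta
  split_ifs <;> simp

theorem val_om_le (hχ : IsIrr L χ) (hb : b ∈ CF L) (hv : ∀ g, v (b g) ≤ 1) : v (om χ b) ≤ 1 := by
  obtain ⟨g, hg0, hg⟩ := exists_max_val (v := v) χ hχ.ne_zero
  have h1 := congrFun (act_irr hχ hb) g
  rw [Pi.smul_apply, smul_eq_mul] at h1
  have h2 : v (act b χ g) ≤ v (χ g) := by
    refine v.map_sum_le fun h _ => ?_
    rw [map_mul]
    exact (mul_le_mul' (hv h) (hg _)).trans (one_mul _).le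
  rw [h1, map_mul] at h2
  have hv0 : 0 < v (χ g) := zero_lt_iff.mpr ((Valuation.ne_zero_iff v).mpr hg0)
  exact (mul_le_iff_le_one_left hv0).mp h2

/-- The centre of the integral group algebra, as a ring of functions on the characters. -/
def Zr (v : Valuation ℂ Γ) (L : Subgroup G) : Subring (Irr L → ℂ) where
  carrier := {s | ∀ g, v (idem L s g) ≤ 1}
  mul_mem' := fun {s t} hs ht g => by
    rw [idem_mul]; exact val_conv_le hs ht g
  one_mem' := fun g => by
    rw [idem_one]; exact val_delta_le _ _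
  add_mem' := fun {s t} hs ht g => by
    rw [idem_add]; exact v.map_add_le (hs g) (ht g)
  zero_mem' := fun g => by simp [idem]
  neg_mem' := fun {s} hs g => by
    have := idem_smul (-1) s
    rw [neg_one_smul, neg_one_smul] at this
    rw [this, Pi.neg_apply, Valuation.map_neg]; exact hs g

theorem mem_Zr {s : Irr L → ℂ} : s ∈ Zr v L ↔ ∀ g, v (idem L s g) ≤ 1 := Iff.rfl

theorem Zr_smul {s : Irr L → ℂ} (hs : s ∈ Zr v L) {z : ℂ} (hz : v z ≤ 1) : z • s ∈ Zr v L :=
  fun g => by rw [idem_smul]; exact val_mul_le hz (hs g)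

theorem Zr_val_le {s : Irr L → ℂ} (hs : s ∈ Zr v L) (χ : Irr L) : v (s χ) ≤ 1 := by
  rw [← om_idem s χ]; exact val_om_le χ.irr (idem_mem_CF s) hs

theorem om_mem_Zr (hb : b ∈ CF L) (hv : ∀ g, v (b g) ≤ 1) :
    (fun χ : Irr L => om χ b) ∈ Zr v L := fun g => by rw [idem_om hb]; exact hv g

theorem exists_Zr_mul_eq {z : Irr L → ℂ} (hz : z ∈ Zr v L) (B : Finset (Irr L))
    (h1 : ∀ χ ∈ B, v (z χ) = 1) (h0 : ∀ χ ∉ B, z χ = 0) :
    ∃ y ∈ Zr v L, z * y = fun χ => if χ ∈ B then 1 else 0 := by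
  have key : ∀ T ⊆ B, ∃ y ∈ Zr v L, ∏ χ ∈ T, (1 - (z χ)⁻¹ • z) = 1 - z * y := by
    intro T
    induction T using Finset.induction_on with
    | empty => exact fun _ => ⟨0, zero_mem _, by simp⟩
    | insert χ T hχ ih =>
      intro hT
      obtain ⟨y, hy, hyT⟩ := ih ((Finset.subset_insert _ _).trans hT)
      have hu := val_inv_le (h1 χ (hT (Finset.mem_insert_self _ _)))
      refine ⟨y + (z χ)⁻¹ • (1 - z * y), add_mem hy (Zr_smul (sub_mem (one_mem _)
        (mul_mem hz hy)) hu), ?_⟩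
      rw [Finset.prod_insert hχ, hyT]
      ext ψ
      simp only [Pi.mul_apply, Pi.sub_apply, Pi.add_apply, Pi.smul_apply, Pi.one_apply,
        smul_eq_mul]
      ring
  obtain ⟨y, hy, h⟩ := key B subset_rfl
  refine ⟨y, hy, funext fun ψ => ?_⟩
  have h' := congrFun h ψ
  rw [Finset.prod_apply] at h'
  split_ifs with hψ
  · rw [Finset.prod_eq_zero hψ (by
      simp [inv_mul_cancel₀ (ne_zero_of_val_eq_one (h1 ψ hψ))])] at h'
    simp only [Pi.sub_apply, Pi.one_apply] at h'
    linear_combination h'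
  · rw [Pi.mul_apply, h0 ψ hψ, zero_mul]

open Classical in
/-- The principal block with respect to `v`. -/
noncomputable def Bv (v : Valuation ℂ Γ) (L : Subgroup G) : Finset (Irr L) :=
  Finset.univ.filter fun χ => ∀ s ∈ Zr v L, v (s χ - s 1) < 1

theorem mem_Bv {χ : Irr L} : χ ∈ Bv v L ↔ ∀ s ∈ Zr v L, v (s χ - s 1) < 1 := by
  simp [Bv]

theorem one_mem_Bv : (1 : Irr L) ∈ Bv v L := mem_Bv.mpr fun s _ => by simp

/-- Osima's theorem for the principal block. -/
theorem indicator_Bv_mem : (fun χ => if χ ∈ Bv v L then 1 else 0 : Irr L → ℂ) ∈ Zr v L := by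
  have h : ∀ χ : Irr L, ∃ t ∈ Zr v L, (∀ ψ ∈ Bv v L, v (t ψ - 1) < 1) ∧ (χ ∉ Bv v L → t χ = 0) := by
    intro χ
    by_cases hχ : χ ∈ Bv v L
    · exact ⟨1, one_mem _, fun _ _ => by simp, fun h => (h hχ).elim⟩
    rw [mem_Bv] at hχ
    push Not at hχ
    obtain ⟨s, hs, hlt⟩ := hχ
    have hu : v (s χ - s 1) = 1 :=
      le_antisymm (v.map_sub_le (Zr_val_le hs _) (Zr_val_le hs _)) hlt
    refine ⟨1 - (s χ - s 1)⁻¹ • (s - s 1 • 1), sub_mem (one_mem _) (Zr_smul (sub_mem hs
      (Zr_smul (one_mem _) (Zr_val_le hs _))) (val_inv_le hu)), fun ψ hψ => ?_, fun _ => ?_⟩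
    · have := val_mul_lt_right (val_inv_le hu) (mem_Bv.mp hψ s hs)
      simpa using this
    · simp [inv_mul_cancel₀ (ne_zero_of_val_eq_one hu)]
  choose t ht h1 h0 using h
  obtain ⟨y, hy, h⟩ := exists_Zr_mul_eq (v := v) (z := ∏ χ, t χ)
    (Subring.prod_mem _ fun χ _ => ht χ) (Bv v L) (fun ψ hψ => by
      rw [Finset.prod_apply, map_prod]
      exact Finset.prod_eq_one fun χ _ => val_eq_one_of_sub_lt (h1 χ ψ hψ) (map_one v))
    (fun ψ hψ => by
      rw [Finset.prod_apply]
      exact Finset.prod_eq_zero (Finset.mem_univ ψ) (h0 ψ hψ))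
  rw [← h]
  exact mul_mem (Subring.prod_mem _ fun χ _ => ht χ) hy

end Val

end CfsgLib.Blk
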