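import Cfsg.Agent.Lib.Blk.BSa

/-!
# The Brauer-Suzuki theorem, part 2: character combinatorics for the quaternion group of order 8
-/

set_option autoImplicit false

namespace CfsgLib.Blk

open Cfsg Subgroup CfsgLib.FT
open scoped ComplexConjugate

variable {G : Type*} [Group G] [Fintype G] {L : Subgroup G}

theorem dvd_of_val_lt {Γ : Type*} [LinearOrderedCommGroupWithZero Γ] {v : Valuation ℂ Γ} {p : ℕ}
    (hp : p.Prime) (hv : v p < 1) {n : ℤ} (h : v (n : ℂ) < 1) : (p : ℤ) ∣ n := by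
  by_contra hd
  have h1 := val_natCast_eq_one hv ((Nat.Prime.coprime_iff_not_dvd hp).mpr
    fun h => hd (Int.natCast_dvd.mpr h)).symm
  rcases Int.natAbs_eq n with e | e
  · rw [e, Int.cast_natCast, h1] at h; exact lt_irrefl _ h
  · rw [e, Int.cast_neg, Int.cast_natCast, Valuation.map_neg, h1] at h; exact lt_irrefl _ h

theorem dvd_sub_of_ZIrr {p k : ℕ} (hp : p.Prime) {φ : G → ℂ} (hφ : φ ∈ ZIrr L) {u : G} (hu : u ∈ L)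
    (ho : u ^ p ^ k = 1) {m n : ℤ} (hm : φ u = m) (hn : φ 1 = n) : (p : ℤ) ∣ m - n := by
  obtain ⟨R, hR⟩ := exists_val hp
  have := val_ZIrr_mul_sub_lt hp hR hφ hu L.one_mem ho (by simp)
  rw [mul_one, hm, hn] at this
  exact dvd_of_val_lt hp hR (by simpa using this)

theorem cfdot_theta_cases {Θ b : G → ℂ} (hΘ : Θ ∈ ZIrr L) (hn : cfdot L Θ Θ = 4)
    (h1 : cfdot L Θ (cf1 L) = 1) (hb : IsDirr L b) (hb1 : cfdot L b (cf1 L) = 0) :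
    cfdot L b Θ = -1 ∨ cfdot L b Θ = 0 ∨ cfdot L b Θ = 1 := by
  obtain ⟨m, hm⟩ := ZIrr_cfdot_int hb.mem_ZIrr hΘ
  have h2 := norm_cfdot_sq_le (L := L) (φ := b) (ψ := Θ - cf1 L)
  rw [cfdot_sub_right, hb1, sub_zero, hm, hb.cfnorm, cfnorm_sub,
    cfnorm_eq_of_cfdot_eq (r := 4) (by simpa using hn), h1, (isIrr_cf1 L).cfnorm,
    Complex.norm_intCast] at h2
  norm_num at h2
  have h3 : m ^ 2 ≤ 3 := by exact_mod_cast h2
  have h4 : m = -1 ∨ m = 0 ∨ m = 1 := by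
    have : -2 < m := by nlinarith
    have : m < 2 := by nlinarith
    omega
  rw [hm]
  rcases h4 with rfl | rfl | rfl <;> simp

theorem exists_split {Θ Ξ : G → ℂ} (hΘ : Θ ∈ ZIrr L) (hn : cfdot L Θ Θ = 4)
    (h1 : cfdot L Θ (cf1 L) = 1) (hΞ : Ξ ∈ ZIrr L) (hΞn : cfdot L Ξ Ξ = 3)
    (hΞ1 : cfdot L Ξ (cf1 L) = -1) (hΞΘ : cfdot L Ξ Θ = -2) :
    ∃ α β, IsDirr L α ∧ IsDirr L β ∧ Ξ = α - cf1 L - β ∧ cfdot L α (cf1 L) = 0 ∧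
      cfdot L β (cf1 L) = 0 ∧ cfdot L α Θ = 0 ∧ cfdot L β Θ = 1 := by
  obtain ⟨b, c, hb, hc, e, hb1, hc1⟩ := exists_dirr_of_norm_two (φ := Ξ + cf1 L)
    (add_mem hΞ cf1_mem_ZIrr) (by
      rw [cfnorm_add, cfnorm_eq_of_cfdot_eq (r := 3) (by simpa using hΞn), hΞ1,
        (isIrr_cf1 L).cfnorm]; norm_num) (isIrr_cf1 L).isDirr
    (by rw [cfdot_add_left, hΞ1, cfdot_cf1]; norm_num)
  have h2 : cfdot L b Θ + cfdot L c Θ = -1 := by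
    rw [← cfdot_add_left, ← e, cfdot_add_left, hΞΘ, ZIrr_cfdot_comm cf1_mem_ZIrr hΘ, h1]
    norm_num
  rcases cfdot_theta_cases hΘ hn h1 hb hb1 with h3 | h3 | h3
  · refine ⟨c, -b, hc, hb.neg, ?_, hc1, by rw [cfdot_neg_left, hb1, neg_zero], ?_,
      by rw [cfdot_neg_left, h3, neg_neg]⟩
    · rw [← eq_sub_iff_add_eq] at e; rw [e]; abel
    · rw [h3] at h2; linear_combination h2
  · refine ⟨b, -c, hb, hc.neg, ?_, hb1, by rw [cfdot_neg_left, hc1, neg_zero], h3, ?_⟩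
    · rw [← eq_sub_iff_add_eq] at e; rw [e]; abel
    · rw [h3] at h2; rw [cfdot_neg_left]; linear_combination -h2
  · exfalso
    rw [h3] at h2
    rcases cfdot_theta_cases hΘ hn h1 hc hc1 with h4 | h4 | h4 <;> rw [h4] at h2 <;> norm_num at h2

/-- The data used in the quaternion case of the Brauer-Suzuki theorem. -/
structure Q8Data (Θ a b c : G → ℂ) : Prop where
  Θ_mem : Θ ∈ ZIrr ⊤
  a_mem : a ∈ ZIrr ⊤
  b_mem : b ∈ ZIrr ⊤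
  c_mem : c ∈ ZIrr ⊤
  ΘΘ : cfdot ⊤ Θ Θ = 4
  Θ1 : cfdot ⊤ Θ (cf1 ⊤) = 1
  aa : cfdot ⊤ a a = 4
  bb : cfdot ⊤ b b = 4
  cc : cfdot ⊤ c c = 4
  ab : cfdot ⊤ a b = 2
  ac : cfdot ⊤ a c = 2
  bc : cfdot ⊤ b c = 2
  aΘ : cfdot ⊤ a Θ = 0
  bΘ : cfdot ⊤ b Θ = 0
  cΘ : cfdot ⊤ c Θ = 0
  a1 : cfdot ⊤ a (cf1 ⊤) = -1
  b1 : cfdot ⊤ b (cf1 ⊤) = -1
  c1 : cfdot ⊤ c (cf1 ⊤) = -1
  parity : ∀ χ, IsIrr ⊤ χ → ∃ m : ℤ,
    cfdot ⊤ a χ + cfdot ⊤ b χ + cfdot ⊤ c χ - cfdot ⊤ Θ χ = 2 * m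

namespace Q8Data

variable {Θ a b c : G → ℂ} (h : Q8Data Θ a b c)
include h

theorem ba : cfdot ⊤ b a = 2 := by rw [ZIrr_cfdot_comm h.b_mem h.a_mem, h.ab]
theorem ca : cfdot ⊤ c a = 2 := by rw [ZIrr_cfdot_comm h.c_mem h.a_mem, h.ac]
theorem cb : cfdot ⊤ c b = 2 := by rw [ZIrr_cfdot_comm h.c_mem h.b_mem, h.bc]
theorem Θa : cfdot ⊤ Θ a = 0 := cfdot_symm_zero h.aΘ
theorem Θb : cfdot ⊤ Θ b = 0 := cfdot_symm_zero h.bΘ
theorem Θc : cfdot ⊤ Θ c = 0 := cfdot_symm_zero h.cΘ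

theorem swap : Q8Data Θ b a c :=
  ⟨h.Θ_mem, h.b_mem, h.a_mem, h.c_mem, h.ΘΘ, h.Θ1, h.bb, h.aa, h.cc, h.ba, h.bc, h.ac, h.bΘ, h.aΘ,
    h.cΘ, h.b1, h.a1, h.c1, fun χ hχ => by rw [add_comm (cfdot ⊤ b χ)]; exact h.parity χ hχ⟩

theorem swap' : Q8Data Θ a c b :=
  ⟨h.Θ_mem, h.a_mem, h.c_mem, h.b_mem, h.ΘΘ, h.Θ1, h.aa, h.cc, h.bb, h.ac, h.ab, h.cb, h.aΘ, h.cΘ,
    h.bΘ, h.a1, h.c1, h.b1, fun χ hχ => by rw [add_right_comm]; exact h.parity χ hχ⟩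

theorem split : ∃ α β, IsDirr ⊤ α ∧ IsDirr ⊤ β ∧
    (2⁻¹ : ℂ) • (b + c - a - Θ) = α - cf1 ⊤ - β ∧ cfdot ⊤ α (cf1 ⊤) = 0 ∧
      cfdot ⊤ β (cf1 ⊤) = 0 ∧ cfdot ⊤ α Θ = 0 ∧ cfdot ⊤ β Θ = 1 := by
  refine exists_split h.Θ_mem h.ΘΘ h.Θ1 (mem_ZIrr_of_cfdot_int (Submodule.smul_mem _ _
    (ZIrr_mem_CF (sub_mem (sub_mem (add_mem h.b_mem h.c_mem) h.a_mem) h.Θ_mem))) fun χ hχ => ?_)
    ?_ ?_ ?_
  · obtain ⟨m, hm⟩ := h.parity χ hχ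
    obtain ⟨k, hk⟩ := ZIrr_cfdot_int h.a_mem hχ.mem_ZIrr
    refine ⟨m - k, ?_⟩
    simp only [cfdot_smul_left, cfdot_sub_left, cfdot_add_left]
    push_cast
    linear_combination hm / 2 - hk
  · simp only [cfdot_smul_left, cfdot_smul_right, cfdot_sub_left, cfdot_add_left, cfdot_sub_right,
      cfdot_add_right, h.aa, h.bb, h.cc, h.ab, h.ac, h.bc, h.ba, h.ca, h.cb, h.ΘΘ, h.aΘ, h.bΘ,
      h.cΘ, h.Θa, h.Θb, h.Θc, map_inv₀, Complex.conj_ofNat]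
    norm_num
  · simp only [cfdot_smul_left, cfdot_sub_left, cfdot_add_left, h.a1, h.b1, h.c1, h.Θ1]
    norm_num
  · simp only [cfdot_smul_left, cfdot_sub_left, cfdot_add_left, h.aΘ, h.bΘ, h.cΘ, h.ΘΘ]
    norm_num

theorem dot_xi : cfdot ⊤ ((2⁻¹ : ℂ) • (b + c - a - Θ)) ((2⁻¹ : ℂ) • (a + c - b - Θ)) = 1 := by
  simp only [cfdot_smul_left, cfdot_smul_right, cfdot_sub_left, cfdot_add_left, cfdot_sub_right,
    cfdot_add_right, h.aa, h.bb, h.cc, h.ab, h.ac, h.bc, h.ba, h.ca, h.cb, h.ΘΘ, h.aΘ, h.bΘ,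
    h.cΘ, h.Θa, h.Θb, h.Θc, map_inv₀, Complex.conj_ofNat]
  norm_num

end Q8Data

theorem cfdot_eq_zero_of_theta {Θ α β : G → ℂ} (hα : IsDirr L α) (hβ : IsDirr L β)
    (h0 : cfdot L α Θ = 0) (h1 : cfdot L β Θ = 1) : cfdot L α β = 0 := by
  by_contra hne
  rcases hα.eq_or_neg_of_cfdot_ne hβ hne with rfl | rfl
  · rw [h0] at h1; exact zero_ne_one h1
  · rw [cfdot_neg_left, h1] at h0; norm_num at h0

theorem pair_cases {Θ α β α' β' : G → ℂ} (hα : IsDirr L α) (hβ : IsDirr L β) (hα' : IsDirr L α')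
    (hβ' : IsDirr L β') (hα1 : cfdot L α (cf1 L) = 0) (hβ1 : cfdot L β (cf1 L) = 0)
    (hα1' : cfdot L α' (cf1 L) = 0) (hβ1' : cfdot L β' (cf1 L) = 0)
    (h0 : cfdot L α Θ = 0) (h1 : cfdot L β Θ = 1) (h0' : cfdot L α' Θ = 0)
    (h1' : cfdot L β' Θ = 1) (hd : cfdot L (α - cf1 L - β) (α' - cf1 L - β') = 1)
    (e : α 1 = 1 + β 1) (e' : α' 1 = 1 + β' 1) :
    β 1 = -1 ∨ (cfdot L β' β = 0 ∧ cfdot L α' α = 0) := by
  simp only [cfdot_sub_left, cfdot_sub_right, hα1, hβ1, cfdot_symm_zero hα1', cfdot_symm_zero hβ1',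
    cfdot_cf1, cfdot_eq_zero_of_theta hα hβ' h0 h1',
    cfdot_symm_zero (cfdot_eq_zero_of_theta hα' hβ h0' h1)] at hd
  rcases hβ.cfdot_cases hβ' with ⟨rfl, h2⟩ | ⟨rfl, -⟩ | ⟨-, -, h2⟩
  · left
    have h3 : cfdot L α α' = -1 := by rw [h2] at hd; linear_combination hd
    have h4 : α = -α' := hα.eq_of_cfdot_eq_one hα'.neg (by rw [cfdot_neg_right, h3, neg_neg])
    rw [h4, Pi.neg_apply] at e
    linear_combination -(e + e') / 2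
  · rw [cfdot_neg_left, h1'] at h1
    norm_num at h1
  · right
    refine ⟨cfdot_symm_zero h2, cfdot_symm_zero ?_⟩
    rw [h2] at hd
    linear_combination hd

theorem exists_normal_of_q8Data {t : G} (ht : orderOf t = 2) (hi : IsIsolated t)
    (htc : t ∈ ⁅(⊤ : Subgroup G), (⊤ : Subgroup G)⁆) {Θ a b c : G → ℂ} (h : Q8Data Θ a b c)
    (h0 : ∀ g, (orderOf g).Coprime 2 → Θ g = 0 ∧ a g = 0 ∧ b g = 0 ∧ c g = 0)
    {z1 z2 z3 : ℂ} (hz : z1 + z2 + z3 = -1)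
    (hval : ∀ χ, IsIrr ⊤ χ → χ t = cfdot ⊤ a χ * z1 + cfdot ⊤ b χ * z2 + cfdot ⊤ c χ * z3 ∨
      (cfdot ⊤ Θ χ = 0 ∧ cfdot ⊤ a χ = 0 ∧ cfdot ⊤ b χ = 0 ∧ cfdot ⊤ c χ = 0)) :
    ∃ N : Subgroup G, N.Normal ∧ N ≠ ⊤ ∧ t ∈ N := by
  have hval' : ∀ χ, IsDirr ⊤ χ →
      χ t = cfdot ⊤ a χ * z1 + cfdot ⊤ b χ * z2 + cfdot ⊤ c χ * z3 ∨
      (cfdot ⊤ Θ χ = 0 ∧ cfdot ⊤ a χ = 0 ∧ cfdot ⊤ b χ = 0 ∧ cfdot ⊤ c χ = 0) := by
    rintro χ (hχ | hχ)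
    · exact hval χ hχ
    · have := hval _ hχ
      simp only [cfdot_neg_right, neg_eq_zero, Pi.neg_apply] at this
      exact this.imp_left fun e => by linear_combination -e
  obtain ⟨α1, β1, hα1, hβ1, e1, p1, q1, r1, s1⟩ := h.split
  obtain ⟨α2, β2, hα2, hβ2, e2, p2, q2, r2, s2⟩ := h.swap.split
  obtain ⟨α3, β3, hα3, hβ3, e3, p3, q3, r3, s3⟩ := h.swap'.swap.split
  have odd : ∀ {a b c α β : G → ℂ}, (2⁻¹ : ℂ) • (b + c - a - Θ) = α - cf1 ⊤ - β → ∀ g, Θ g = 0 →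
      a g = 0 → b g = 0 → c g = 0 → α g = 1 + β g := fun e g g0 g1 g2 g3 => by
    have := congrFun e g
    simp only [Pi.smul_apply, Pi.sub_apply, Pi.add_apply, g0, g1, g2, g3,
      cf1_apply (mem_top g)] at this
    simp only [add_zero, sub_self, smul_zero] at this
    linear_combination -this
  obtain ⟨o0, o1, o2, o3⟩ := h0 1 (by simp)
  by_cases hlin : β1 1 = -1
  · have hχ : IsIrr ⊤ (-β1) := hβ1.resolve_left fun hβ => by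
      have := hβ.one_re_pos
      rw [hlin] at this
      norm_num at this
    have := cfker_apply ((hχ.isLin (by simp [hlin])).commutator_le_cfker htc)
    exact exists_normal_of_dirr hβ1 q1 (by simpa using this)
  obtain ⟨u2, v2⟩ := (pair_cases hα1 hβ1 hα2 hβ2 p1 q1 p2 q2 r1 s1 r2 s2 (by
    rw [← e1, ← e2]; exact h.dot_xi) (odd e1 1 o0 o1 o2 o3) (odd e2 1 o0 o2 o1 o3)).resolve_left hlin
  obtain ⟨u3, v3⟩ := (pair_cases hα1 hβ1 hα3 hβ3 p1 q1 p3 q3 r1 s1 r3 s3 (by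
    rw [← e1, ← e3, add_comm b c]; exact h.swap'.dot_xi) (odd e1 1 o0 o1 o2 o3)
    (odd e3 1 o0 o3 o1 o2)).resolve_left hlin
  have ea : a = (α2 - cf1 ⊤ - β2) + (α3 - cf1 ⊤ - β3) + Θ := by
    rw [← e2, ← e3]; ext g; simp; ring
  have eb : b = (α1 - cf1 ⊤ - β1) + (α3 - cf1 ⊤ - β3) + Θ := by
    rw [← e1, ← e3]; ext g; simp; ring
  have ec : c = (α1 - cf1 ⊤ - β1) + (α2 - cf1 ⊤ - β2) + Θ := by
    rw [← e1, ← e2]; ext g; simp; ring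
  have w1 := cfdot_eq_zero_of_theta hα1 hβ1 r1 s1
  have w2 := cfdot_eq_zero_of_theta hα2 hβ1 r2 s1
  have w3 := cfdot_eq_zero_of_theta hα3 hβ1 r3 s1
  have w2' := cfdot_symm_zero (cfdot_eq_zero_of_theta hα1 hβ2 r1 s2)
  have w3' := cfdot_symm_zero (cfdot_eq_zero_of_theta hα1 hβ3 r1 s3)
  have s1' : cfdot ⊤ Θ β1 = 1 := by rw [ZIrr_cfdot_comm h.Θ_mem hβ1.mem_ZIrr, s1]
  have x1 : β1 t = z1 := by
    rcases hval' β1 hβ1 with e | e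
    · rw [e, ea, eb, ec]
      simp only [cfdot_add_left, cfdot_sub_left, w1, w2, w3, u2, u3, s1', cfdot_symm_zero q1,
        hβ1.cfdot_self]
      ring
    · rw [s1'] at e; exact absurd e.1 one_ne_zero
  have x2 : α1 t = z2 + z3 := by
    have hb : cfdot ⊤ b α1 = 1 := by
      rw [eb]
      simp only [cfdot_add_left, cfdot_sub_left, cfdot_symm_zero w1, w3', v3, cfdot_symm_zero r1,
        cfdot_symm_zero p1, hα1.cfdot_self]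
      ring
    rcases hval' α1 hα1 with e | e
    · rw [e, hb, ea, ec]
      simp only [cfdot_add_left, cfdot_sub_left, cfdot_symm_zero w1, w2', w3', v2, v3,
        cfdot_symm_zero r1, cfdot_symm_zero p1, hα1.cfdot_self]
      ring
    · rw [hb] at e; exact absurd e.2.2.1 one_ne_zero
  refine exists_normal_of_dirr hβ1 q1 (apply_eq_of_norm_three ht hi hα1 hβ1 (fun g hg => ?_) ?_)
  · obtain ⟨g0, g1, g2, g3⟩ := h0 g hg
    exact odd e1 g g0 g1 g2 g3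
  · rw [x1, x2, show z2 + z3 = -(1 + z1) by linear_combination hz]; ring

end CfsgLib.Blk
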