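import Cfsg.Agent.Lib.Blk.BSb

/-!
# The Brauer-Suzuki theorem, part 3: the quaternion group of order 8
-/

set_option autoImplicit false

namespace CfsgLib.Blk

open Cfsg Subgroup CfsgLib.FT
open scoped ComplexConjugate

variable {G : Type*} [Group G]

/-- The `2`-section of the involution `t` in its centralizer. -/
def secT (t : G) : Set G := {g | g * t = t * g ∧ (orderOf (t * g)).Coprime 2}

/-- Translation by `t`. -/
def tr (t : G) (φ : G → ℂ) : G → ℂ := fun g => φ (t * g)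

theorem mul_self_of_orderOf {t : G} (h : orderOf t = 2) : t * t = 1 := by
  rw [← sq, sq_eq_one_of_orderOf h]

theorem orderOf_of_mem_secT {t g : G} (h : orderOf t = 2) (hg : g ∈ secT t) :
    orderOf g = 2 * orderOf (t * g) := by
  have hc : Commute t (t * g) := (Commute.refl t).mul_right hg.1.symm
  have := hc.orderOf_mul_eq_mul_orderOf_of_coprime (by rw [h]; exact hg.2.symm)
  rwa [← mul_assoc, mul_self_of_orderOf h, one_mul, h] at this

theorem not_four_dvd_of_mem_secT {t g : G} (h : orderOf t = 2) (hg : g ∈ secT t) :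
    ¬ 4 ∣ orderOf g := by
  rw [orderOf_of_mem_secT h hg]
  intro hd
  have h2 : 2 ∣ orderOf (t * g) := Nat.dvd_of_mul_dvd_mul_left (by norm_num : 0 < 2) hd
  have := Nat.Coprime.eq_one_of_dvd hg.2.symm h2
  omega

theorem not_odd_of_mem_secT {t g : G} (h : orderOf t = 2) (hg : g ∈ secT t) :
    ¬ (orderOf g).Coprime 2 := by
  rw [orderOf_of_mem_secT h hg]
  intro hd
  have := Nat.Coprime.eq_one_of_dvd hd.symm (Dvd.intro _ rfl)
  omega

theorem mul_mem_secT_iff {t g : G} (h : orderOf t = 2) (hg : g * t = t * g) :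
    t * g ∈ secT t ↔ (orderOf g).Coprime 2 := by
  rw [secT, Set.mem_ofPred_eq, ← mul_assoc t t, mul_self_of_orderOf h, one_mul, mul_assoc, hg,
    ← mul_assoc, mul_self_of_orderOf h, one_mul]
  simp

theorem not_four_dvd_of_odd {g : G} (hg : (orderOf g).Coprime 2) : ¬ 4 ∣ orderOf g := fun hd => by
  have := Nat.Coprime.eq_one_of_dvd hg.symm ((by norm_num : 2 ∣ 4).trans hd)
  omega

theorem sq_eq_one_of_not_four_dvd {a g : G} {k : ℕ} (ha : a ∈ zpowers g) (hk : orderOf a = 2 ^ k)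
    (h : ¬ 4 ∣ orderOf g) : a ^ 2 = 1 := by
  have hk1 : k ≤ 1 := by
    by_contra hk1
    refine h (Dvd.dvd.trans ?_ (orderOf_dvd_of_mem_zpowers ha))
    rw [hk]
    exact pow_dvd_pow 2 (show 2 ≤ k by omega)
  exact orderOf_dvd_iff_pow_eq_one.mp (hk ▸ pow_dvd_pow 2 hk1)

theorem UniqInv.cases [Finite G] {t g : G} (h : UniqInv t) (hg : g * t = t * g) :
    g ∈ secT t ∨ (orderOf g).Coprime 2 ∨ 4 ∣ orderOf g := by
  by_cases h4 : 4 ∣ orderOf g
  · exact Or.inr (Or.inr h4)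
  obtain ⟨a, ha, b, hb, rfl, -, ⟨k, hk⟩, hbo⟩ := exists_p_part Nat.prime_two g
  have hat : a * t = t * a := mem_centralizer_singleton_iff.mp
    (zpowers_le.mpr (mem_centralizer_singleton_iff.mpr hg) ha)
  rcases h.2 a (sq_eq_one_of_not_four_dvd ha hk h4) hat with rfl | rfl
  · exact Or.inr (Or.inl (by simpa using hbo))
  · exact Or.inl ⟨hg, by rwa [← mul_assoc, mul_self_of_orderOf h.1, one_mul]⟩

theorem secT_conj {t : G} : ∀ x ∈ centralizer ({t} : Set G), ∀ a ∈ secT t, x * a * x⁻¹ ∈ secT t := by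
  intro x hx a ha
  have hx' : Commute x t := mem_centralizer_singleton_iff.mp hx
  refine ⟨((hx'.mul_left ha.1).mul_left hx'.inv_left).eq, ?_⟩
  have : t * (x * a * x⁻¹) = x * (t * a) * x⁻¹ := by
    rw [← mul_assoc, ← mul_assoc, ← hx'.eq]; group
  rw [this, orderOf_conj']
  exact ha.2

theorem secT_subset {t : G} : secT t ⊆ centralizer ({t} : Set G) := fun _ h =>
  mem_centralizer_singleton_iff.mpr h.1

variable [Fintype G] {L : Subgroup G} {t : G} {φ ψ : G → ℂ}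

theorem normedTI_secT (h : orderOf t = 2) : NormedTI (secT t) ⊤ (centralizer ({t} : Set G)) := by
  refine ⟨⟨t, rfl, by simp [mul_self_of_orderOf h]⟩, le_top, secT_conj, fun g _ a ha hga => ?_⟩
  have e : ∀ b : G, t * (t * b) = b := fun b => by rw [← mul_assoc, mul_self_of_orderOf h, one_mul]
  have := conj_eq_of_conj_mul_eq (a := 2) (b := orderOf (t * a) * orderOf (t * (g * a * g⁻¹)))
    (x := t) (y := t * a) (x' := t) (y' := t * (g * a * g⁻¹)) (g := g)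
    (Nat.Coprime.mul_right ha.2.symm hga.2.symm) h.dvd (Dvd.intro _ rfl) h.dvd
    (Dvd.intro_left _ rfl) ((Commute.refl t).mul_right ha.1.symm).eq
    ((Commute.refl t).mul_right hga.1.symm).eq (by rw [e, e])
  exact mem_centralizer_singleton_iff.mpr (by rw [← mul_inv_eq_iff_eq_mul]; exact this)

theorem cfdot_tr (ht : t ∈ L) : cfdot L (tr t φ) (tr t ψ) = cfdot L φ ψ := by
  rw [cfdot, cfdot, ← sum_elems_mul_left ht fun x => φ x * conj (ψ x)]
  rfl

theorem projB_tr {B : Finset (Irr L)} (ht : t ∈ L) (hc : ∀ y ∈ L, y * t = t * y) :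
    projB B (tr t φ) = tr t (projB B φ) := by
  ext x
  rw [tr, projB_eq_sum, projB_eq_sum, ← sum_elems_mul_left ht fun g => φ g * kerB B (t * x) g]
  simp only [kerB_central ht hc, tr]

theorem cfdot_half (h : UniqInv t) (ht : t ∈ L) (hc : ∀ y ∈ L, y * t = t * y)
    (hφ : ∀ g, φ (t * g) = φ g) (hψ : ∀ g, ψ (t * g) = ψ g)
    (h4 : ∀ g ∈ L, 4 ∣ orderOf g → φ g = 0) :
    cfdot L φ ψ = 2 * cfdot L (cfInd1 (secT t) * φ) ψ := by
  have h1 : cfdot L (tr t (cfInd1 (secT t) * φ)) ψ = cfdot L (cfInd1 (secT t) * φ) ψ := by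
    rw [← cfdot_tr (φ := cfInd1 (secT t) * φ) ht]
    exact cfdot_congr (fun _ _ => rfl) fun x _ => (hψ x).symm
  rw [two_mul]
  nth_rewrite 1 [← h1]
  rw [← cfdot_add_left]
  refine cfdot_congr (fun g hg => ?_) fun _ _ => rfl
  simp only [Pi.add_apply, tr, Pi.mul_apply, hφ]
  rcases h.cases (hc g hg) with h2 | h2 | h2
  · rw [cfInd1_apply h2, cfInd1_apply_of_notMem fun h3 =>
      not_odd_of_mem_secT h.1 h2 ((mul_mem_secT_iff h.1 (hc g hg)).mp h3)]
    ring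
  · rw [cfInd1_apply ((mul_mem_secT_iff h.1 (hc g hg)).mpr h2),
      cfInd1_apply_of_notMem fun h3 => not_odd_of_mem_secT h.1 h3 h2]
    ring
  · simp [h4 g hg h2]

theorem irr_central_inv {χ : G → ℂ} (hχ : IsIrr L χ) (h : orderOf t = 2) (ht : t ∈ L)
    (hc : ∀ y ∈ L, y * t = t * y) :
    ∃ ε : ℤ, ε * ε = 1 ∧ ∀ g, χ (t * g) = ε * χ g := by
  have hn : ‖χ t‖ = ‖χ 1‖ := hχ.norm_eq_of_center ht fun y hy => by rw [hc y hy]; simp
  have h1 : ∀ g, χ (t * g) = χ t / χ 1 * χ g := fun g => by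
    rw [CF_mul_comm hχ.mem_CF ht, hχ.isChar.mul_of_norm_eq ht hn]
  have h2 : (χ t / χ 1) ^ 2 = 1 := by
    have := h1 t
    rw [mul_self_of_orderOf h] at this
    have h0 := hχ.one_ne_zero
    field_simp at this ⊢
    linear_combination -this
  rcases sq_eq_one_iff.mp h2 with e | e
  · exact ⟨1, by simp, fun g => by rw [h1, e]; simp⟩
  · exact ⟨-1, by simp, fun g => by rw [h1, e]; simp⟩

/-- Doubling the restriction to the section of `t` gives a virtual character. -/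
theorem two_smul_secT_mem_ZIrr (h : UniqInv t) (hφ : φ ∈ ZIrr (centralizer ({t} : Set G)))
    (hφt : ∀ g, φ (t * g) = φ g) (h4 : ∀ g, 4 ∣ orderOf g → φ g = 0) :
    (2 : ℂ) • (cfInd1 (secT t) * φ) ∈ ZIrr (centralizer ({t} : Set G)) := by
  have hCF : (2 : ℂ) • (cfInd1 (secT t) * φ) ∈ CF (centralizer ({t} : Set G)) :=
    Submodule.smul_mem _ _ (CF_mul (cfInd1_mem_CFon secT_subset secT_conj).1 (ZIrr_mem_CF hφ))
  refine mem_ZIrr_of_dprod Nat.prime_two hCF fun T O E hE hD hT hO => ?_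
  have hc : ∀ y ∈ E, y * t = t * y := fun y hy => mem_centralizer_singleton_iff.mp (hE hy)
  have hsec : ∀ a ∈ T, ∀ b ∈ O, a * b ∈ secT t → a = t := fun a ha b hb hab => by
    obtain ⟨k, hk⟩ := orderOf_eq_pow_of_mem_isPGroup hT ha
    have := conj_eq_of_conj_mul_eq (a := 2 ^ (k + 1)) (b := Nat.card O * orderOf (t * (a * b)))
      (x := a) (y := b) (x' := t) (y' := t * (a * b)) (g := 1)
      (Nat.Coprime.pow_left _ (Nat.Coprime.mul_right hO.symm hab.2.symm))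
      (hk ▸ pow_dvd_pow _ (Nat.le_succ k)) ((orderOf_dvd_card_of_mem hb).mul_right _)
      (h.1 ▸ dvd_pow_self _ (Nat.succ_ne_zero k)) (Dvd.intro_left _ rfl) (hD.comm a ha b hb)
      ((Commute.refl t).mul_right hab.1.symm).eq
      (by rw [← mul_assoc t, mul_self_of_orderOf h.1]; simp)
    simpa using this
  by_cases htT : t ∈ T
  swap
  · have : cfRes E ((2 : ℂ) • (cfInd1 (secT t) * φ)) = 0 := by
      ext g
      by_cases hg : g ∈ E
      · obtain ⟨a, ha, b, hb, rfl⟩ := hD.compl.2.2.2 g hg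
        rw [cfRes_apply hg]
        simp [cfInd1_apply_of_notMem fun h1 => htT (hsec a ha b hb h1 ▸ ha)]
      · rw [cfRes_apply_of_notMem hg, Pi.zero_apply]
    rw [this]; exact zero_mem _
  have htE : t ∈ E := hD.compl.1 htT
  refine mem_ZIrr_of_cfdot_int (cfRes_mem_CF hE hCF) fun ξ hξ => ?_
  obtain ⟨ε, -, hε⟩ := irr_central_inv hξ h.1 htE hc
  set ξ' := cfProd T O (cf1 T) (cfRes O ξ) with hξ'
  have h1 : IsChar E ξ' := hD.isChar isChar_cf1 (hξ.isChar.cfRes hD.compl.2.1)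
  have h2 : T ≤ cfker E ξ' := sdprod_le_cfker hD.compl
  obtain ⟨m, hm⟩ := ZIrr_cfdot_int (ZIrr_cfRes hE hφ) h1.mem_ZIrr
  rw [cfdot_cfRes_left, cfdot_half h htE hc hφt (cfker_mul_left (h2 htT)) fun g _ => h4 g] at hm
  refine ⟨ε * m, ?_⟩
  rw [cfdot_cfRes_left, cfdot_smul_left, Int.cast_mul, ← hm, mul_left_comm,
    ← cfdot_intCast_smul_right]
  congr 1
  rw [cfdot, cfdot]
  congr 1
  refine Finset.sum_congr rfl fun g hg => ?_
  by_cases hs : g ∈ secT t
  · obtain ⟨a, ha, b, hb, rfl⟩ := hD.compl.2.2.2 g (by simpa using hg)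
    obtain rfl := hsec a ha b hb hs
    rw [hε, Pi.smul_apply, hξ', cfProd_apply hD.compl.2.2.1 ha hb, cf1_apply ha, cfRes_apply hb]
    simp
  · simp [cfInd1_apply_of_notMem hs]

/-- The hypotheses in the case of a quaternion Sylow subgroup of order 8 with one class of
elements of order 4. -/
structure Q8Hyp (t u : G) (O : Subgroup G) : Prop where
  uniq : UniqInv t
  ord : orderOf u = 4
  sq_eq : u ^ 2 = t
  fuse : ∀ (w : G) (k : ℕ), w ^ 2 ^ k = 1 → w ^ 2 ≠ 1 → ∃ g, g * u * g⁻¹ = w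
  norm : centralizer ({u} : Set G) ≤ normalizer (O : Set G)
  reg : regSet 2 (centralizer ({u} : Set G)) = O
  index : O.relIndex (centralizer ({u} : Set G)) = 4
  odd : (Nat.card O).Coprime 2

/-- Subgroups containing `C(u)` in which the elements of order 4 are conjugate. -/
def Good (u : G) (L : Subgroup G) : Prop := centralizer ({u} : Set G) ≤ L ∧
  ∀ w ∈ L, ∀ k : ℕ, w ^ 2 ^ k = 1 → w ^ 2 ≠ 1 → ∃ g ∈ L, g * u * g⁻¹ = w

namespace Q8Hyp

variable {u : G} {O : Subgroup G} (h : Q8Hyp t u O)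
include h

omit [Fintype G] in
theorem pow_four : u ^ 2 ^ 2 = 1 := by
  have := pow_orderOf_eq_one u
  rwa [h.ord] at this

omit [Fintype G] in
theorem good_top : Good u ⊤ := ⟨le_top, fun w _ k h1 h2 => by simpa using h.fuse w k h1 h2⟩

omit [Fintype G] in
theorem good_cent : Good u (centralizer ({t} : Set G)) := by
  refine ⟨fun c hc => mem_centralizer_singleton_iff.mpr ?_, fun w hw k h1 h2 => ?_⟩
  · rw [← h.sq_eq]; exact Commute.pow_right (mem_centralizer_singleton_iff.mp hc) 2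
  · obtain ⟨g, rfl⟩ := h.fuse w k h1 h2
    refine ⟨g, mem_centralizer_singleton_iff.mpr ?_, rfl⟩
    have h3 := h.uniq.isIsolated g (by
      have : Commute (g * u * g⁻¹) t := mem_centralizer_singleton_iff.mp hw
      have := this.pow_left 2
      rw [conj_pow, h.sq_eq] at this
      exact this.symm)
    rwa [mul_inv_eq_iff_eq_mul] at h3

omit [Fintype G] h in
theorem _root_.CfsgLib.Blk.Good.mem (hL : Good u L) : u ∈ L :=
  hL.1 (mem_centralizer_singleton_iff.mpr rfl)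

omit [Fintype G] in
theorem O_le : O ≤ centralizer ({u} : Set G) := fun _ hx => (h.reg.ge hx).1

theorem kerB_self (hL : Good u L) : kerB (B0 2 L) u u = 4 := by
  classical
  have := K0_cent (L := L) (y := 1) (y' := 1) Nat.prime_two h.pow_four hL.mem L.one_mem (by simp)
    (by simp) L.one_mem (by simp) (by simp)
  rw [mul_one, inf_eq_right.mpr hL.1] at this
  have h2 := sum_irr_ker_sq h.O_le h.norm
  rw [h.index, Nat.cast_ofNat] at h2
  rw [this, kerB, ← h2]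
  refine Finset.sum_congr ?_ fun χ _ => by rw [χ.isChar.conj_one, sq]
  ext χ
  simp [mem_B0_iff_of_regSet_eq h.norm h.reg]

theorem exists_int (hL : Good u L) (hφ : φ ∈ ZIrr L) : ∃ n : ℤ, φ u = n := by
  refine ZIrr_int_of_pow_eq hφ fun k hk => ?_
  obtain ⟨g, hg, e⟩ := hL.2 (u ^ k) (L.pow_mem hL.mem k) 2
    (by rw [← pow_mul, mul_comm, pow_mul, h.pow_four, one_pow]) (fun e => by
      have := orderOf_dvd_of_pow_eq_one e
      rw [hk.symm.orderOf_pow, h.ord] at this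
      omega)
  rw [← e, CF_conj (ZIrr_mem_CF hφ) hg]

theorem apply_eq (hL : Good u L) {χ : Irr L} (hχ : χ ∈ B0 2 L) {g : G} (hg : g ∈ L)
    (h4 : 4 ∣ orderOf g) : χ g = χ u := by
  obtain ⟨a, ha, b, hb, rfl, hab, ⟨k, hk⟩, hbo⟩ := exists_p_part Nat.prime_two g
  obtain ⟨z, hz, rfl⟩ := hL.2 a (zpowers_le.mpr hg ha) k (by rw [← hk, pow_orderOf_eq_one])
    (fun e => by
      have h1 := hab.orderOf_mul_dvd_mul_orderOf
      have h2 : 4 ∣ 2 * orderOf b :=
        h4.trans (h1.trans (mul_dvd_mul_right (orderOf_dvd_of_pow_eq_one e) _))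
      have h3 : 2 ∣ orderOf b := Nat.dvd_of_mul_dvd_mul_left (by norm_num : 0 < 2) h2
      have := Nat.Coprime.eq_one_of_dvd hbo.symm h3
      omega)
  have h1 : z⁻¹ * b * z ∈ O := by
    refine h.reg.le ⟨mem_centralizer_singleton_iff.mpr ?_, by
      rw [H5.orderOf_conj'']; exact hbo⟩
    calc z⁻¹ * b * z * u = z⁻¹ * (b * (z * u * z⁻¹)) * z := by group
      _ = u * (z⁻¹ * b * z) := by rw [← hab.eq]; group
  have h2 := apply_mul_of_mem_B0 Nat.prime_two h.pow_four hL.mem (N := O)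
    (le_inf (h.O_le.trans hL.1) h.O_le) (inf_le_right.trans h.norm) h.odd h1 hχ
  rw [← h2, ← CF_conj χ.mem_CF hz (u * _)]
  group

theorem kerB_eq_zero {g : G} (h4 : ¬ 4 ∣ orderOf g) : kerB (B0 2 L) g u = 0 := by
  by_cases hg : g ∈ L
  swap
  · exact kerB_eq_zero_comm (kerB_of_notMem u hg)
  obtain ⟨a, ha, b, hb, rfl, hab, ⟨k, hk⟩, hbo⟩ := exists_p_part Nat.prime_two g
  have := K0_eq_zero_of_not_conj (L := L) (u' := u) (y' := 1) (k := k) Nat.prime_two
    (by rw [← hk, pow_orderOf_eq_one]) (zpowers_le.mpr hg ha) (zpowers_le.mpr hg hb) hbo hab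
    h.pow_four (by simp) (by simp) fun z _ e => h4 (by
      rw [← h.ord, ← orderOf_conj' z u, e]; exact orderOf_dvd_of_mem_zpowers ha)
  rwa [mul_one] at this

theorem exists_three (hL : Good u L) : ∃ χ1 χ2 χ3 : Irr L, χ1 ≠ χ2 ∧ χ1 ≠ χ3 ∧ χ2 ≠ χ3 ∧
    χ1 ≠ 1 ∧ χ2 ≠ 1 ∧ χ3 ≠ 1 ∧
    (∀ χ, χ ∈ B0 2 L ∧ χ u ≠ 0 ↔ χ = 1 ∨ χ = χ1 ∨ χ = χ2 ∨ χ = χ3) ∧
    ∀ χ ∈ B0 2 L, χ u ≠ 0 → ∃ ε : ℤ, (ε = 1 ∨ ε = -1) ∧ χ u = ε := by
  classical
  choose d hd using fun χ : Irr L => h.exists_int hL χ.mem_ZIrr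
  have h1 : d 1 = 1 := by
    have := hd 1
    rw [Irr.coe_one, cf1_apply hL.mem] at this
    exact_mod_cast this.symm
  have h4 : ∑ χ ∈ B0 2 L, d χ ^ 2 = 4 := by
    have := h.kerB_self hL
    simp only [kerB, hd, map_intCast, ← sq] at this
    exact_mod_cast this
  rw [← Finset.add_sum_erase _ _ (one_mem_B0 Nat.prime_two), h1] at h4
  have h3 : ∑ χ ∈ (B0 2 L).erase 1, d χ ^ 2 = 3 := by omega
  have hs : ∀ χ ∈ (B0 2 L).erase 1, d χ ≠ 0 → d χ = 1 ∨ d χ = -1 := fun χ hχ h0 => by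
    have := Finset.single_le_sum (f := fun χ => d χ ^ 2) (fun _ _ => sq_nonneg _) hχ
    rw [h3] at this
    have : -2 < d χ := by nlinarith
    have : d χ < 2 := by nlinarith
    omega
  have hc : (((B0 2 L).erase 1).filter fun χ => d χ ≠ 0).card = 3 := by
    rw [← Finset.sum_filter_ne_zero, Finset.sum_congr (s₂ := ((B0 2 L).erase 1).filter
      fun χ => d χ ≠ 0) (g := fun _ => 1) (by simp) fun χ hχ => by
        rcases hs χ (Finset.mem_filter.mp hχ).1 (Finset.mem_filter.mp hχ).2 with e | e <;>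
          simp [e]] at h3
    rw [Finset.sum_const, nsmul_eq_mul, mul_one] at h3
    exact_mod_cast h3
  obtain ⟨χ1, χ2, χ3, n12, n13, n23, e⟩ := Finset.card_eq_three.mp hc
  have hm : ∀ χ, (χ ≠ 1 ∧ χ ∈ B0 2 L) ∧ d χ ≠ 0 ↔ χ = χ1 ∨ χ = χ2 ∨ χ = χ3 := fun χ => by
    have := Finset.ext_iff.mp e χ
    simpa using this
  refine ⟨χ1, χ2, χ3, n12, n13, n23, ((hm _).mpr (by simp)).1.1, ((hm _).mpr (by simp)).1.1,
    ((hm _).mpr (by simp)).1.1, fun χ => ?_, fun χ hχ h0 => ?_⟩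
  · rw [← hm, hd, Int.cast_ne_zero]
    by_cases e1 : χ = 1
    · simp [e1, h1, one_mem_B0 Nat.prime_two]
    · simp [e1]
  · by_cases e1 : χ = 1
    · exact ⟨1, Or.inl rfl, by rw [hd, e1, h1]⟩
    · exact ⟨d χ, hs χ (Finset.mem_erase.mpr ⟨e1, hχ⟩) (by rwa [hd, Int.cast_ne_zero] at h0), hd χ⟩

theorem tr_eq_of_ne_zero {χ : Irr (centralizer ({t} : Set G))} (h0 : χ u ≠ 0) (g : G) :
    χ (t * g) = χ g := by
  obtain ⟨ε, -, hε⟩ := irr_central_inv χ.irr h.uniq.1 (mem_centralizer_singleton_iff.mpr rfl)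
    fun y hy => mem_centralizer_singleton_iff.mp hy
  obtain ⟨z, hz, e⟩ := h.good_cent.2 (t * u) (mul_mem (mem_centralizer_singleton_iff.mpr rfl)
    h.good_cent.mem) 2 (by rw [← h.sq_eq, ← pow_succ, ← pow_mul, mul_comm, pow_mul, h.pow_four,
      one_pow]) (fun e => by
        rw [← h.sq_eq, ← pow_succ, ← pow_mul] at e
        have := orderOf_dvd_of_pow_eq_one e
        rw [h.ord] at this
        omega)
  have h1 := hε u
  rw [← e, CF_conj χ.mem_CF hz] at h1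
  have h2 : (ε : ℂ) = 1 := by
    have : (ε - 1) * χ u = 0 := by linear_combination -h1
    exact sub_eq_zero.mp ((mul_eq_zero.mp this).resolve_right h0)
  rw [hε, h2, one_mul]

theorem ne_zero_of_tr_eq {H : Subgroup G} (hH : H = centralizer ({t} : Set G)) {χ : Irr H}
    (hχ : χ ∈ B0 2 H) (ht : ∀ g, χ (t * g) = χ g) : χ u ≠ 0 := by
  intro h0
  have hg : Good u H := hH ▸ h.good_cent
  have htH : t ∈ H := hH ▸ mem_centralizer_singleton_iff.mpr rfl
  have hc : ∀ y ∈ H, y * t = t * y := fun y hy => mem_centralizer_singleton_iff.mp (hH ▸ hy)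
  have hne : (χ : G → ℂ) ≠ cf1 H := fun e => by
    rw [e, cf1_apply hg.mem] at h0; exact one_ne_zero h0
  have h1 := cfdot_half h.uniq htH hc ht (ψ := cf1 H)
    (cfker_mul_left (by rw [cfker_cf1]; exact htH)) fun g hg' h4 => by
      rw [h.apply_eq hg hχ hg' h4, h0]
  rw [χ.irr.cfdot_ne (isIrr_cf1 H) hne, cfdot_cf1_right, ← sum_elems_mul_left htH] at h1
  refine mem_B0.mp hχ ?_
  have h2 : ∑ x ∈ elems (H : Set G), (cfInd1 (secT t) * (χ : G → ℂ)) (t * x) =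
      ∑ x ∈ elems (regSet 2 H), χ x := by
    rw [← sum_cfInd1_mul (regSet 2 H), sum_eq_sum_elems (A := H) fun x hx => by rw [χ.irr.2 x hx, mul_zero]]
    refine Finset.sum_congr rfl fun x hx => ?_
    have hx' : x ∈ H := by simpa using hx
    rw [Pi.mul_apply, ht]
    by_cases ho : (orderOf x).Coprime 2
    · rw [cfInd1_apply ((mul_mem_secT_iff h.uniq.1 (hc x hx')).mpr ho),
        cfInd1_apply (show x ∈ regSet 2 H from ⟨hx', ho⟩)]
    · rw [cfInd1_apply_of_notMem fun e => ho ((mul_mem_secT_iff h.uniq.1 (hc x hx')).mp e),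
        cfInd1_apply_of_notMem fun e => ho e.2]
  rw [h2] at h1
  simpa [card_ne_zero H] using h1

omit h in
theorem proj0_secT : projB (B0 2 (centralizer ({t} : Set G)))
    (cfInd1 (secT t) * φ) = cfInd1 (secT t) * projB (B0 2 (centralizer ({t} : Set G))) φ := by
  refine projB_indicator_mul fun x _ g hg hx hgA => ?_
  rw [← kerB_central (mem_centralizer_singleton_iff.mpr rfl)
    fun y hy => mem_centralizer_singleton_iff.mp hy]
  refine K0_eq_zero_of_reg Nat.prime_two hx.2 (by_contra fun hd => hgA ?_)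
  exact ⟨mem_centralizer_singleton_iff.mp hg,
    ((Nat.Prime.coprime_iff_not_dvd Nat.prime_two).mpr hd).symm⟩

omit h in
theorem proj0_eq_on_secT (ht : orderOf t = 2) (hφ : φ ∈ CF ⊤) {g : G} (hg : g ∈ secT t) :
    projB (B0 2 (centralizer ({t} : Set G))) φ g = projB (B0 2 ⊤) φ g := by
  have := proj0_eq_of_cent_le (k := 1) (u := t) (y := t * g) (H := centralizer ({t} : Set G))
    Nat.prime_two (by simpa using sq_eq_one_of_orderOf ht) le_top
    (mem_centralizer_singleton_iff.mpr rfl)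
    (mul_mem (mem_centralizer_singleton_iff.mpr rfl) (secT_subset hg)) hg.2
    ((Commute.refl t).mul_right hg.1.symm).eq inf_le_right hφ
  rwa [← mul_assoc, mul_self_of_orderOf ht, one_mul] at this

omit h in
/-- The signed characters of the principal block of `C(t)` not vanishing at `u`. -/
structure IsGam (t : G) (γ : G → ℂ) : Prop where
  dirr : IsDirr (centralizer ({t} : Set G)) γ
  tr_eq : ∀ g, γ (t * g) = γ g
  four : ∀ g ∈ centralizer ({t} : Set G), 4 ∣ orderOf g → γ g = 1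
  proj : projB (B0 2 (centralizer ({t} : Set G))) γ = γ
  dot_one : cfdot (centralizer ({t} : Set G)) γ (cf1 (centralizer ({t} : Set G))) = 0
  odd : ∃ m : ℤ, γ 1 = 2 * m + 1

theorem isGam {χ : Irr (centralizer ({t} : Set G))} (hχ : χ ∈ B0 2 _) (h1 : χ ≠ 1) {ε : ℤ}
    (hε : ε = 1 ∨ ε = -1) (hu : χ u = ε) : IsGam t ((ε : ℂ) • (χ : G → ℂ)) := by
  have h2 : (ε : ℂ) * ε = 1 := by rcases hε with rfl | rfl <;> simp
  have h0 : χ u ≠ 0 := by rw [hu]; rcases hε with rfl | rfl <;> simp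
  have hd := isDirr_sign_smul χ.irr.isDirr hε
  refine ⟨hd, fun g => by simp [h.tr_eq_of_ne_zero h0], fun g hg h4 => ?_, ?_, ?_, ?_⟩
  · rw [Pi.smul_apply, h.apply_eq h.good_cent hχ hg h4, hu, smul_eq_mul, h2]
  · rw [projB_smul, projB_irr, if_pos hχ]
  · rw [cfdot_smul_left, ← Irr.coe_one, Irr.cfdot_eq, if_neg h1, mul_zero]
  · obtain ⟨n, hn⟩ := ZIrr_one_int hd.mem_ZIrr
    obtain ⟨m, hm⟩ := dvd_sub_of_ZIrr Nat.prime_two hd.mem_ZIrr h.good_cent.mem h.pow_four (m := 1)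
      (by rw [Pi.smul_apply, hu, smul_eq_mul, h2]; simp) hn
    refine ⟨-m, ?_⟩
    rw [hn, show n = 2 * -m + 1 by push_cast at hm; omega]
    simp

omit h in
/-- The induced virtual character attached to `γ`. -/
noncomputable def indG (t : G) (γ : G → ℂ) : G → ℂ := cfInd (centralizer ({t} : Set G)) ⊤
  ((2 : ℂ) • (cfInd1 (secT t) * (γ - cf1 (centralizer ({t} : Set G)))))

section Gam

variable {γ γ' : G → ℂ}

omit [Fintype G] h in
theorem cf1_tr (g : G) :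
    cf1 (centralizer ({t} : Set G)) (t * g) = cf1 (centralizer ({t} : Set G)) g :=
  cfker_mul_left (by rw [cfker_cf1]; exact mem_centralizer_singleton_iff.mpr rfl) g

omit h in
theorem IsGam.sub_tr (hγ : IsGam t γ) (g : G) : (γ - cf1 (centralizer ({t} : Set G))) (t * g) =
    (γ - cf1 (centralizer ({t} : Set G))) g := by
  rw [Pi.sub_apply, Pi.sub_apply, hγ.tr_eq, cf1_tr]

omit h in
theorem IsGam.sub_four (hγ : IsGam t γ) (g : G) (h4 : 4 ∣ orderOf g) :
    (γ - cf1 (centralizer ({t} : Set G))) g = 0 := by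
  by_cases hg : g ∈ centralizer ({t} : Set G)
  · rw [Pi.sub_apply, hγ.four g hg h4, cf1_apply hg, sub_self]
  · rw [Pi.sub_apply, hγ.dirr.mem_CF.1 g hg, cf1_apply_of_notMem hg, sub_self]

theorem psi_mem (hγ : IsGam t γ) : (2 : ℂ) • (cfInd1 (secT t) *
    (γ - cf1 (centralizer ({t} : Set G)))) ∈ ZIrr (centralizer ({t} : Set G)) :=
  two_smul_secT_mem_ZIrr h.uniq (sub_mem hγ.dirr.mem_ZIrr cf1_mem_ZIrr) hγ.sub_tr hγ.sub_four

theorem indG_mem (hγ : IsGam t γ) : indG t γ ∈ ZIrr ⊤ := ZIrr_cfInd le_top (h.psi_mem hγ)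

theorem cfdot_indG (hγ : IsGam t γ) (hφ : φ ∈ CF ⊤) (hψ : ∀ g, ψ (t * g) = ψ g)
    (he : ∀ g ∈ secT t, φ g = ψ g) : cfdot ⊤ (indG t γ) φ =
      cfdot (centralizer ({t} : Set G)) (γ - cf1 (centralizer ({t} : Set G))) ψ := by
  rw [indG, cfdot_cfInd_left le_top hφ, cfdot_half h.uniq (mem_centralizer_singleton_iff.mpr rfl)
    (fun y hy => mem_centralizer_singleton_iff.mp hy) hγ.sub_tr hψ fun g _ => hγ.sub_four g,
    cfdot_smul_left, cfdot_congr_of_supp (fun g hg => by simp [cfInd1_apply_of_notMem hg]) he]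

theorem indG_one (hγ : IsGam t γ) : cfdot ⊤ (indG t γ) (cf1 ⊤) = -1 := by
  rw [h.cfdot_indG hγ cf1_mem_CF cf1_tr fun g hg => by
    rw [cf1_apply (mem_top g), cf1_apply (secT_subset hg)], cfdot_sub_left, hγ.dot_one, cfdot_cf1,
    zero_sub]

theorem indG_indG (hγ : IsGam t γ) (hγ' : IsGam t γ') : cfdot ⊤ (indG t γ) (indG t γ') =
    2 * (cfdot (centralizer ({t} : Set G)) γ γ' + 1) := by
  rw [h.cfdot_indG hγ (ZIrr_mem_CF (h.indG_mem hγ')) (ψ := (2 : ℂ) • (γ' - cf1 (centralizer ({t} : Set G))))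
    (fun g => by rw [Pi.smul_apply, Pi.smul_apply, hγ'.sub_tr]) fun g hg => by
      rw [indG, normedTI_Ind_id (normedTI_secT h.uniq.1) ⟨ZIrr_mem_CF (h.psi_mem hγ'),
        fun g hg => by simp [cfInd1_apply_of_notMem hg]⟩ hg (mem_top g)]
      simp [cfInd1_apply hg]]
  simp only [cfdot_smul_right, cfdot_sub_left, cfdot_sub_right, hγ.dot_one,
    cfdot_symm_zero hγ'.dot_one, cfdot_cf1, Complex.conj_ofNat]
  ring

theorem indG_eq_zero {g : G} (hg : (orderOf g).Coprime 2 ∨ 4 ∣ orderOf g) : indG t γ g = 0 :=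
  cfInd_eq_zero fun z _ _ => by
    have : z * g * z⁻¹ ∉ secT t := fun hs => by
      rw [← orderOf_conj' z g] at hg
      exact hg.elim (not_odd_of_mem_secT h.uniq.1 hs) (not_four_dvd_of_mem_secT h.uniq.1 hs)
    simp [cfInd1_apply_of_notMem this]

theorem indG_of_notMem (hγ : IsGam t γ) {χ : Irr (⊤ : Subgroup G)} (hχ : χ ∉ B0 2 ⊤) :
    cfdot ⊤ (indG t γ) χ = 0 := by
  have h1 : projB (B0 2 (centralizer ({t} : Set G))) ((2 : ℂ) • (cfInd1 (secT t) *
      (γ - cf1 (centralizer ({t} : Set G))))) =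
      (2 : ℂ) • (cfInd1 (secT t) * (γ - cf1 (centralizer ({t} : Set G)))) := by
    rw [projB_smul, proj0_secT, projB_sub, hγ.proj, ← Irr.coe_one, projB_irr,
      if_pos (one_mem_B0 Nat.prime_two)]
  rw [indG, cfdot_cfInd_left le_top χ.mem_CF, ← h1, cfdot_projB_comm]
  refine cfdot_eq_zero_of_supp fun g _ => ?_
  by_cases hg : g ∈ secT t
  · right
    rw [proj0_eq_on_secT h.uniq.1 χ.mem_CF hg, projB_irr, if_neg hχ, Pi.zero_apply]
  · left
    simp [cfInd1_apply_of_notMem hg]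

end Gam

theorem exists_sym {χ : Irr (⊤ : Subgroup G)} (hχ : χ ∈ B0 2 ⊤) :
    ∃ f ∈ CF (centralizer ({t} : Set G)), projB (B0 2 (centralizer ({t} : Set G))) f = f ∧
      (∀ g, f (t * g) = f g) ∧ (∀ g ∈ secT t, χ g = f g) ∧ f 1 = χ t := by
  have ht : t ∈ centralizer ({t} : Set G) := mem_centralizer_singleton_iff.mpr rfl
  have hc : ∀ y ∈ centralizer ({t} : Set G), y * t = t * y :=
    fun y hy => mem_centralizer_singleton_iff.mp hy
  set f0 := cfInd1 (secT t) * (χ : G → ℂ) with hf0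
  have h1 : projB (B0 2 (centralizer ({t} : Set G))) f0 = f0 := by
    rw [hf0, proj0_secT]
    ext g
    by_cases hg : g ∈ secT t
    · rw [Pi.mul_apply, proj0_eq_on_secT h.uniq.1 χ.mem_CF hg, projB_irr, if_pos hχ, Pi.mul_apply]
    · simp [cfInd1_apply_of_notMem hg]
  have h2 : projB (B0 2 (centralizer ({t} : Set G))) (f0 + tr t f0) = f0 + tr t f0 := by
    rw [projB_add, projB_tr ht hc, h1]
  have hts : t ∈ secT t := ⟨rfl, by simp [mul_self_of_orderOf h.uniq.1]⟩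
  have key : ∀ g ∈ secT t, χ g = (f0 + tr t f0) g := fun g hg => by
    simp [hf0, tr, cfInd1_apply hg, cfInd1_apply_of_notMem fun h3 =>
      not_odd_of_mem_secT h.uniq.1 hg ((mul_mem_secT_iff h.uniq.1 hg.1).mp h3)]
  have htr : ∀ g, (f0 + tr t f0) (t * g) = (f0 + tr t f0) g := fun g => by
    simp only [Pi.add_apply, tr, ← mul_assoc, mul_self_of_orderOf h.uniq.1, one_mul, add_comm]
  exact ⟨_, h2 ▸ projB_mem_CF, h2, htr, key, by rw [key t hts, ← htr 1, mul_one]⟩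

/-- Brauer-Suzuki for the quaternion group of order 8. -/
theorem exists_normal : ∃ N : Subgroup G, N.Normal ∧ N ≠ ⊤ ∧ t ∈ N := by
  classical
  obtain ⟨χ1, χ2, χ3, n12, n13, n23, n1, n2, n3, hm, hε⟩ := h.exists_three h.good_cent
  have m1 := (hm χ1).mpr (by simp)
  have m2 := (hm χ2).mpr (by simp)
  have m3 := (hm χ3).mpr (by simp)
  obtain ⟨ε1, hε1, e1⟩ := hε χ1 m1.1 m1.2
  obtain ⟨ε2, hε2, e2⟩ := hε χ2 m2.1 m2.2
  obtain ⟨ε3, hε3, e3⟩ := hε χ3 m3.1 m3.2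
  have g1 := h.isGam m1.1 n1 hε1 e1
  have g2 := h.isGam m2.1 n2 hε2 e2
  have g3 := h.isGam m3.1 n3 hε3 e3
  have hsum : ∀ F : Irr (centralizer ({t} : Set G)) → ℂ, (∀ χ ∈ B0 2 _, χ u = 0 → F χ = 0) →
      ∑ χ ∈ B0 2 _, F χ = F 1 + F χ1 + F χ2 + F χ3 := fun F hF => by
    rw [← Finset.sum_subset (s₁ := {1, χ1, χ2, χ3}) (fun χ hχ => ((hm χ).mpr (by simpa using hχ)).1)
      fun χ hχ hn => hF χ hχ (by_contra fun h0 => hn (by simpa using (hm χ).mp ⟨hχ, h0⟩)),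
      Finset.sum_insert (by simp [n1.symm, n2.symm, n3.symm]), Finset.sum_insert (by simp [n12, n13]),
      Finset.sum_pair n23]
    ring
  have hdot : ∀ {χ χ' : Irr (centralizer ({t} : Set G))} (ε ε' : ℤ), χ ≠ χ' →
      cfdot (centralizer ({t} : Set G)) ((ε : ℂ) • (χ : G → ℂ)) ((ε' : ℂ) • (χ' : G → ℂ)) = 0 :=
    fun ε ε' hne => by
      rw [cfdot_smul_left, cfdot_smul_right, Irr.cfdot_eq, if_neg hne, mul_zero, mul_zero]
  set γ1 := (ε1 : ℂ) • (χ1 : G → ℂ) with hγ1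
  set γ2 := (ε2 : ℂ) • (χ2 : G → ℂ) with hγ2
  set γ3 := (ε3 : ℂ) • (χ3 : G → ℂ) with hγ3
  have hz : γ1 1 + γ2 1 + γ3 1 = -1 := by
    have := h.kerB_eq_zero (L := centralizer ({t} : Set G)) (g := 1) (by simp)
    rw [kerB, hsum _ fun χ _ h0 => by simp [h0], e1, e2, e3, Irr.coe_one,
      cf1_apply h.good_cent.mem] at this
    simp only [cf1_one, map_one, map_intCast] at this
    simp only [hγ1, hγ2, hγ3, Pi.smul_apply, smul_eq_mul]
    linear_combination this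
  let Θ : G → ℂ := ∑ χ ∈ B0 2 (⊤ : Subgroup G), conj (χ u) • (χ : G → ℂ)
  have hΘa : ∀ g, Θ g = kerB (B0 2 ⊤) g u := fun g => by
    simp [Θ, kerB, mul_comm]
  have hΘd : ∀ χ : Irr (⊤ : Subgroup G), cfdot ⊤ Θ χ = if χ ∈ B0 2 ⊤ then conj (χ u) else 0 :=
    fun χ => by
      simp only [Θ, cfdot_sum_left, cfdot_smul_left, Irr.cfdot_eq, mul_ite, mul_one, mul_zero]
      rw [Finset.sum_ite_eq']
  have hΘ : Θ ∈ ZIrr ⊤ := Submodule.sum_mem _ fun χ _ => by
    obtain ⟨n, hn⟩ := h.exists_int h.good_top χ.mem_ZIrr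
    rw [hn, map_intCast]
    exact intCast_smul_mem χ.mem_ZIrr n
  have haΘ : ∀ γ, cfdot ⊤ (indG t γ) Θ = 0 := fun γ => cfdot_eq_zero_of_supp fun g _ => by
    by_cases h4 : 4 ∣ orderOf g
    · exact Or.inl (h.indG_eq_zero (Or.inr h4))
    · exact Or.inr (by rw [hΘa, h.kerB_eq_zero h4])
  have hval : ∀ χ : Irr (⊤ : Subgroup G), χ ∈ B0 2 ⊤ → χ t = cfdot ⊤ (indG t γ1) χ * γ1 1 +
      cfdot ⊤ (indG t γ2) χ * γ2 1 + cfdot ⊤ (indG t γ3) χ * γ3 1 := fun χ hχ => by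
    obtain ⟨f, hf, hp, htr, hs, hf1⟩ := h.exists_sym hχ
    have key : ∀ γ, IsGam t γ → cfdot ⊤ (indG t γ) χ = cfdot (centralizer ({t} : Set G)) f γ -
        cfdot (centralizer ({t} : Set G)) f (cf1 (centralizer ({t} : Set G))) := fun γ hγ => by
      rw [ZIrr_cfdot_comm (h.indG_mem hγ) χ.mem_ZIrr, ← cfdot_conj, h.cfdot_indG hγ χ.mem_CF htr hs,
        cfdot_conj, cfdot_sub_right]
    have h1 := congrFun hp 1
    rw [projB_apply, hsum _ fun ψ hψ h0 => by
      by_contra hne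
      exact h.ne_zero_of_tr_eq rfl hψ (cfker_mul_left (cfker_constt hf ψ.irr
        (left_ne_zero_of_mul hne) ⟨mem_centralizer_singleton_iff.mpr rfl, htr⟩)) h0] at h1
    have q1 : (ε1 : ℂ) * ε1 = 1 := by rcases hε1 with rfl | rfl <;> simp
    have q2 : (ε2 : ℂ) * ε2 = 1 := by rcases hε2 with rfl | rfl <;> simp
    have q3 : (ε3 : ℂ) * ε3 = 1 := by rcases hε3 with rfl | rfl <;> simp
    rw [key _ g1, key _ g2, key _ g3, ← hf1, ← h1]
    simp only [hγ1, hγ2, hγ3, Pi.smul_apply, smul_eq_mul, cfdot_intCast_smul_right, Irr.coe_one,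
      cf1_one] at hz ⊢
    linear_combination (cfdot _ f (cf1 _)) * hz - (cfdot _ f χ1 * χ1 1) * q1
      - (cfdot _ f χ2 * χ2 1) * q2 - (cfdot _ f χ3 * χ3 1) * q3
  refine exists_normal_of_q8Data h.uniq.1 h.uniq.isIsolated ?_
    (Θ := Θ) (a := indG t γ1) (b := indG t γ2) (c := indG t γ3)
    ⟨hΘ, h.indG_mem g1, h.indG_mem g2, h.indG_mem g3, ?_, ?_, ?_, ?_, ?_, ?_, ?_, ?_, haΘ _, haΘ _,
      haΘ _, h.indG_one g1, h.indG_one g2, h.indG_one g3, fun χ hχ => ?_⟩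
    (fun g hg => ⟨by rw [hΘa, h.kerB_eq_zero (not_four_dvd_of_odd hg)], h.indG_eq_zero (Or.inl hg),
      h.indG_eq_zero (Or.inl hg), h.indG_eq_zero (Or.inl hg)⟩) hz fun χ hχ => ?_
  · obtain ⟨g, hg⟩ := h.fuse (u ^ 3) 2 (by rw [← pow_mul, mul_comm, pow_mul, h.pow_four, one_pow])
      (fun e => by
        rw [← pow_mul] at e
        have := orderOf_dvd_of_pow_eq_one e
        rw [h.ord] at this
        omega)
    have := commutator_mem_commutator (mem_top g) (mem_top u)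
    rwa [commutatorElement_def, hg, pow_succ, mul_inv_cancel_right, h.sq_eq] at this
  · rw [← h.kerB_self h.good_top, kerB]
    change cfdot ⊤ Θ (∑ χ ∈ B0 2 (⊤ : Subgroup G), conj (χ u) • (χ : G → ℂ)) = _
    rw [cfdot_sum_right]
    exact Finset.sum_congr rfl fun χ hχ => by
      rw [cfdot_smul_right, hΘd, if_pos hχ, Complex.conj_conj]
  · rw [← Irr.coe_one, hΘd, if_pos (one_mem_B0 Nat.prime_two), Irr.coe_one, cf1_apply (mem_top u),
      map_one]
  · rw [h.indG_indG g1 g1, g1.dirr.cfdot_self]; norm_num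
  · rw [h.indG_indG g2 g2, g2.dirr.cfdot_self]; norm_num
  · rw [h.indG_indG g3 g3, g3.dirr.cfdot_self]; norm_num
  · rw [h.indG_indG g1 g2, hdot _ _ n12]; norm_num
  · rw [h.indG_indG g1 g3, hdot _ _ n13]; norm_num
  · rw [h.indG_indG g2 g3, hdot _ _ n23]; norm_num
  · obtain ⟨i, rfl⟩ : ∃ i : Irr (⊤ : Subgroup G), (i : G → ℂ) = χ := ⟨⟨χ, hχ⟩, rfl⟩
    by_cases hi : i ∈ B0 2 ⊤
    swap
    · exact ⟨0, by simp [h.indG_of_notMem g1 hi, h.indG_of_notMem g2 hi, h.indG_of_notMem g3 hi,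
        hΘd, hi]⟩
    obtain ⟨a1, ha1⟩ := ZIrr_cfdot_int (h.indG_mem g1) i.mem_ZIrr
    obtain ⟨a2, ha2⟩ := ZIrr_cfdot_int (h.indG_mem g2) i.mem_ZIrr
    obtain ⟨a3, ha3⟩ := ZIrr_cfdot_int (h.indG_mem g3) i.mem_ZIrr
    obtain ⟨z1, hz1⟩ := g1.odd
    obtain ⟨z2, hz2⟩ := g2.odd
    obtain ⟨z3, hz3⟩ := g3.odd
    obtain ⟨d, hd⟩ := h.exists_int h.good_top i.mem_ZIrr
    obtain ⟨n, hn⟩ := ZIrr_one_int i.mem_ZIrr
    have hv := hval i hi
    rw [ha1, ha2, ha3, hz1, hz2, hz3] at hv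
    obtain ⟨k1, hk1⟩ := dvd_sub_of_ZIrr Nat.prime_two i.mem_ZIrr (mem_top u) h.pow_four hd hn
    obtain ⟨k2, hk2⟩ := dvd_sub_of_ZIrr (k := 1) Nat.prime_two i.mem_ZIrr (mem_top t)
      (by simpa using sq_eq_one_of_orderOf h.uniq.1)
      (m := a1 * (2 * z1 + 1) + a2 * (2 * z2 + 1) + a3 * (2 * z3 + 1)) (by rw [hv]; simp) hn
    refine ⟨k2 - k1 - a1 * z1 - a2 * z2 - a3 * z3, ?_⟩
    rw [ha1, ha2, ha3, hΘd, if_pos hi, hd, map_intCast]
    have : a1 + a2 + a3 - d = 2 * (k2 - k1 - a1 * z1 - a2 * z2 - a3 * z3) := by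
      push_cast at hk1 hk2
      linear_combination hk2 - hk1
    exact_mod_cast this
  · obtain ⟨i, rfl⟩ : ∃ i : Irr (⊤ : Subgroup G), (i : G → ℂ) = χ := ⟨⟨χ, hχ⟩, rfl⟩
    by_cases hi : i ∈ B0 2 ⊤
    · exact Or.inl (hval i hi)
    · exact Or.inr ⟨by rw [hΘd, if_neg hi], h.indG_of_notMem g1 hi, h.indG_of_notMem g2 hi,
        h.indG_of_notMem g3 hi⟩

end Q8Hyp

end CfsgLib.Blk
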