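import Mathlib
import Cfsg.Agent.Lib.FT.CFClifford
import Cfsg.Agent.Lib.FT.CFAut
import Cfsg.Agent.Lib.CoreElements

/-!
# Block theory kit, part 1: valuations and two elementary lemmas

`v` is a valuation of `ℂ` with `v p < 1`.  The two lemmas `exists_twist` and `trace_eq_zero`
replace the theory of vertices and sources in the proofs of Brauer's main theorems.
-/

set_option autoImplicit false

namespace CfsgLib.Blk

open Cfsg Subgroup CfsgLib.FT
open scoped ComplexConjugate

section Val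

variable {Γ : Type*} [LinearOrderedCommGroupWithZero Γ] (v : Valuation ℂ Γ)

theorem val_le_one_of_isIntegral {x : ℂ} (h : IsIntegral ℤ x) : v x ≤ 1 := by
  have h' : IsIntegral v.integer x := h.tower_top
  exact (Valuation.integer.integers v).isIntegral_iff_v_le_one.mp h'

theorem val_intCast_le (n : ℤ) : v (n : ℂ) ≤ 1 :=
  val_le_one_of_isIntegral v (isIntegral_algebraMap (x := n))

theorem val_natCast_le (n : ℕ) : v (n : ℂ) ≤ 1 := by
  simpa using val_intCast_le v (n : ℤ)

variable {v}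

theorem val_mul_le {x y : ℂ} (hx : v x ≤ 1) (hy : v y ≤ 1) : v (x * y) ≤ 1 := by
  rw [map_mul]; exact mul_le_one' hx hy

theorem val_mul_lt_left {x y : ℂ} (hx : v x < 1) (hy : v y ≤ 1) : v (x * y) < 1 := by
  rw [map_mul]; exact mul_lt_one_of_lt_of_le hx hy

theorem val_mul_lt_right {x y : ℂ} (hx : v x ≤ 1) (hy : v y < 1) : v (x * y) < 1 := by
  rw [mul_comm]; exact val_mul_lt_left hy hx

theorem val_eq_one_of_sub_lt {x y : ℂ} (h : v (x - y) < 1) (hy : v y = 1) : v x = 1 := by
  rw [← hy] at h ⊢; exact v.map_eq_of_sub_lt h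

theorem val_sub_trans {x y z : ℂ} (h : v (x - y) < 1) (h' : v (y - z) < 1) : v (x - z) < 1 := by
  have := v.map_add_lt h h'
  rwa [sub_add_sub_cancel] at this

theorem val_sub_symm {x y : ℂ} (h : v (x - y) < 1) : v (y - x) < 1 := by
  rwa [v.map_sub_swap]

theorem val_inv_le {x : ℂ} (h : v x = 1) : v x⁻¹ ≤ 1 := by
  rw [map_inv₀, h, inv_one]

theorem ne_zero_of_val_eq_one {x : ℂ} (h : v x = 1) : x ≠ 0 := by
  rintro rfl
  simp at h

theorem val_natCast_eq_one {p n : ℕ} (hp : v p < 1) (hn : n.Coprime p) : v (n : ℂ) = 1 := by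
  refine le_antisymm (val_natCast_le v n) (not_lt.mp fun hlt => ?_)
  have h := Nat.gcd_eq_gcd_ab n p
  rw [hn.gcd_eq_one] at h
  have h' : (1 : ℂ) = n * (Nat.gcdA n p : ℤ) + p * (Nat.gcdB n p : ℤ) := by exact_mod_cast h
  have := v.map_add_lt (val_mul_lt_left hlt (val_intCast_le v (Nat.gcdA n p)))
    (val_mul_lt_left hp (val_intCast_le v (Nat.gcdB n p)))
  rw [← h'] at this
  simp at this

theorem val_natCast_lt_one {p n : ℕ} (hp : v p < 1) (hn : p ∣ n) : v (n : ℂ) < 1 := by
  obtain ⟨m, rfl⟩ := hn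
  push_cast
  exact val_mul_lt_left hp (val_natCast_le v m)

theorem val_le_one_of_pow_eq_one {ζ : ℂ} {n : ℕ} (hn : n ≠ 0) (h : ζ ^ n = 1) : v ζ ≤ 1 := by
  have : v ζ ^ n = 1 := by rw [← map_pow, h, map_one]
  exact ((pow_eq_one_iff_of_nonneg zero_le hn).mp this).le

theorem val_sub_one_lt {p k : ℕ} (hp : p.Prime) (hv : v p < 1) {ζ : ℂ} (h : ζ ^ p ^ k = 1) :
    v (ζ - 1) < 1 := by
  have hn : p ^ k ≠ 0 := pow_ne_zero _ hp.ne_zero
  have hζ : v (ζ - 1) ≤ 1 := v.map_sub_le (val_le_one_of_pow_eq_one hn h) (by simp)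
  obtain ⟨r, hr⟩ := exists_add_pow_prime_pow_eq hp (⟨ζ - 1, hζ⟩ : v.integer) 1 k
  have hr' := congrArg (fun z : v.integer => (z : ℂ)) hr
  simp only [Subring.coe_add, SubmonoidClass.coe_pow, Subring.coe_mul, Subring.coe_natCast,
    OneMemClass.coe_one, sub_add_cancel, h, one_pow, mul_one] at hr'
  have h2 : (ζ - 1) ^ p ^ k = -(p * ((ζ - 1) * r)) := by linear_combination -hr'
  have h3 : v (ζ - 1) ^ p ^ k < 1 := by
    rw [← map_pow, h2, Valuation.map_neg]
    exact val_mul_lt_left hv (val_mul_le hζ r.2)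
  exact lt_of_le_of_ne hζ fun h1 => by simp [h1] at h3

end Val

/-- Every proper ideal of the ring of algebraic integers lies over a valuation. -/
theorem exists_val_of_ideal (I : Ideal (integralClosure ℤ ℂ)) (hI : I ≠ ⊤) :
    ∃ R : ValuationSubring ℂ, ∀ a ∈ I, R.valuation (a : ℂ) < 1 := by
  obtain ⟨R, -, hR⟩ := Ideal.image_subset_nonunits_valuationSubring
    (A := (integralClosure ℤ ℂ).toSubring) I hI
  exact ⟨R, fun a ha => (ValuationSubring.mem_nonunits_iff R).mp (hR ⟨a, ha, rfl⟩)⟩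

theorem exists_val {p : ℕ} (hp : p.Prime) :
    ∃ R : ValuationSubring ℂ, R.valuation (p : ℂ) < 1 := by
  have hI : Ideal.span {(p : integralClosure ℤ ℂ)} ≠ ⊤ := by
    rw [Ne, Ideal.span_singleton_eq_top]
    intro hu
    obtain ⟨b, hb⟩ := hu.exists_right_inv
    have hb' : (p : ℂ) * b = 1 := by exact_mod_cast congrArg Subtype.val hb
    have h := (eqAmod_nat_iff (n := p) (a := 1) (b := 0)).mp ⟨b, b.2, by simp [hb']⟩
    have h1 : p ∣ 1 := Int.natCast_dvd_natCast.mp (by simpa only [sub_zero, Nat.cast_one] using h)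
    exact hp.one_lt.ne' (Nat.dvd_one.mp h1)
  obtain ⟨R, hR⟩ := exists_val_of_ideal _ hI
  exact ⟨R, by simpa using hR p (Ideal.subset_span rfl)⟩

/-- A function transforming under a permutation by the factor `ω` on the orbits whose length is
divisible by `p`. -/
theorem exists_twist {X : Type*} (σ : Equiv.Perm X) (Y : Set X) {p : ℕ} (hp : p ≠ 0)
    (h : ∀ y ∈ Y, ∀ m : ℤ, (σ ^ m) y = y → (p : ℤ) ∣ m) {ω : ℂ} (hω : ω ^ p = 1) :
    ∃ w : X → ℂ, (∀ y, w y ^ p = 1) ∧ ∀ y ∈ Y, w (σ y) = ω * w y := by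
  have hω0 : ω ≠ 0 := by
    rintro rfl
    simp [hp] at hω
  let r : X → X := fun y => (Quotient.mk (Equiv.Perm.SameCycle.setoid σ) y).out
  have hr : ∀ y, σ.SameCycle (r y) y := fun y =>
    Quotient.exact (s := Equiv.Perm.SameCycle.setoid σ) (Quotient.out_eq _)
  have hrσ : ∀ y, r (σ y) = r y := fun y => by
    have : Quotient.mk (Equiv.Perm.SameCycle.setoid σ) (σ y) =
        Quotient.mk (Equiv.Perm.SameCycle.setoid σ) y :=
      Quotient.sound (Equiv.Perm.sameCycle_apply_left.mpr (Equiv.Perm.SameCycle.refl _ _))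
    simp only [r, this]
  choose m hm using hr
  refine ⟨fun y => ω ^ m y, fun y => ?_, fun y hy => ?_⟩
  · rw [← zpow_natCast, ← zpow_mul, mul_comm, zpow_mul, zpow_natCast, hω, one_zpow]
  · have h1 : (σ ^ (m (σ y) - 1 - m y)) y = y := by
      have h2 := hm (σ y)
      rw [hrσ] at h2
      have h3 : (σ ^ (-m y)) y = r y := by
        have := congrArg (σ ^ (-m y)) (hm y)
        rw [← Equiv.Perm.mul_apply, ← zpow_add, neg_add_cancel, zpow_zero] at this
        exact this.symm
      have h4 : σ ^ (m (σ y) - 1 - m y) = σ⁻¹ * σ ^ m (σ y) * σ ^ (-m y) := by group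
      rw [h4, Equiv.Perm.mul_apply, Equiv.Perm.mul_apply, h3, h2]
      simp
    obtain ⟨c, hc⟩ := h y hy _ h1
    have : m (σ y) = m y + 1 + p * c := by omega
    simp only [this]
    rw [zpow_add₀ hω0, zpow_add₀ hω0, zpow_mul, zpow_natCast, hω, one_zpow]
    simp [mul_comm]

section Mat

variable {X : Type*} [Fintype X] [DecidableEq X]
variable {Γ : Type*} [LinearOrderedCommGroupWithZero Γ] {v : Valuation ℂ Γ}

omit [DecidableEq X] in
theorem exists_max_val (a : X → ℂ) (ha : a ≠ 0) : ∃ i, a i ≠ 0 ∧ ∀ j, v (a j) ≤ v (a i) := by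
  obtain ⟨i0, hi0⟩ := Function.ne_iff.mp ha
  obtain ⟨i, -, hi⟩ := Finset.exists_max_image Finset.univ (fun j => v (a j)) ⟨i0, Finset.mem_univ _⟩
  refine ⟨i, fun h0 => hi0 ?_, fun j => hi j (Finset.mem_univ _)⟩
  have := hi i0 (Finset.mem_univ _)
  rw [h0, map_zero, le_zero_iff] at this
  exact (Valuation.zero_iff v).mp this

theorem isUnit_one_add {S : Matrix X X ℂ} (hS : ∀ i j, v (S i j) < 1) : IsUnit (1 + S) := by
  rw [← Matrix.mulVec_injective_iff_isUnit]
  have key : ∀ a, (1 + S).mulVec a = 0 → a = 0 := by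
    intro a ha
    by_contra h0
    obtain ⟨i, hi0, hi⟩ := exists_max_val (v := v) a h0
    have h1 := congrFun ha i
    rw [Matrix.add_mulVec, Matrix.one_mulVec] at h1
    have h2 : a i = -∑ j, S i j * a j := by
      simp only [Pi.add_apply, Pi.zero_apply, Matrix.mulVec, dotProduct] at h1
      linear_combination h1
    have hv0 : v (a i) ≠ 0 := (Valuation.ne_zero_iff v).mpr hi0
    have h3 : v (∑ j, S i j * a j) < v (a i) := by
      refine v.map_sum_lt hv0 fun j _ => ?_
      rw [map_mul]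
      calc v (S i j) * v (a j) ≤ v (S i j) * v (a i) := by gcongr; exact hi j
        _ < 1 * v (a i) := by
          gcongr
          · exact zero_lt_iff.mpr hv0
          · exact hS i j
        _ = v (a i) := one_mul _
    rw [← Valuation.map_neg, ← h2] at h3
    exact lt_irrefl _ h3
  intro a b hab
  have := key (a - b) (by rw [Matrix.mulVec_sub]; exact sub_eq_zero.mpr hab)
  exact sub_eq_zero.mp this

/-- The vanishing lemma behind block orthogonality and Brauer's second main theorem. -/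
theorem trace_eq_zero {P x D N : Matrix X X ℂ} {ω : ℂ} (hω : ω ≠ 1) (hx : x * x = x)
    (hPx : P * x = x * P) (hPD : P * D = ω • (D * P)) (hNx : N * x = x * N) (hND : N * D = D * N)
    (hS : ∀ i j, v ((x * D * x - x) i j) < 1) : (P * x * N).trace = 0 := by
  obtain ⟨ψ, hψ⟩ := isUnit_one_add hS
  set y := x * D * x with hy
  have h1 : x * ψ = y := by
    rw [hψ, mul_add, mul_sub, mul_one, hy, ← mul_assoc, ← mul_assoc, hx]; abel
  have h2 : ψ * x = y := by
    rw [hψ, add_mul, sub_mul, one_mul, hy, mul_assoc _ x x, hx]; abel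
  obtain ⟨ψ', hψ1, hψ2⟩ : ∃ ψ' : Matrix X X ℂ, ψ.1 * ψ' = 1 ∧ ψ' * ψ.1 = 1 :=
    ⟨ψ.2, ψ.3, ψ.4⟩
  have h3 : y * ψ' = x := by rw [← h1, mul_assoc, hψ1, mul_one]
  have h4 : ψ' * y = x := by rw [← h2, ← mul_assoc, hψ2, one_mul]
  have h5 : P * y = ω • (y * P) := by
    rw [hy, ← mul_assoc, ← mul_assoc, hPx, mul_assoc x P D, hPD, mul_smul_comm, smul_mul_assoc]
    congr 1
    simp only [mul_assoc, hPx]
  have h6 : N * y = y * N := by
    rw [hy, ← mul_assoc, ← mul_assoc, hNx, mul_assoc x N D, hND]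
    simp only [mul_assoc, hNx]
  have h7 : (P * x * N).trace = ω * (P * x * N).trace := by
    calc (P * x * N).trace = (P * y * (ψ' * N)).trace := by
          rw [← h3]; simp only [mul_assoc]
      _ = ω * (y * (P * ψ' * N)).trace := by
          rw [h5, smul_mul_assoc, Matrix.trace_smul, smul_eq_mul]; simp only [mul_assoc]
      _ = ω * (P * (ψ' * y) * N).trace := by
          rw [Matrix.trace_mul_comm y, mul_assoc _ N y, h6]; simp only [mul_assoc]
      _ = ω * (P * x * N).trace := by rw [h4]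
  have h8 : (1 - ω) * (P * x * N).trace = 0 := by linear_combination h7
  exact (mul_eq_zero.mp h8).resolve_left (sub_ne_zero.mpr hω.symm)

end Mat

end CfsgLib.Blk
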