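import Cfsg.Agent.Lib.Blk.Main

/-!
# Block theory kit, part 4: the principal block

`B0 p L` is the set of irreducible characters of `L` in the principal `p`-block, defined
intrinsically by `∑_{x p-regular} χ x ≠ 0`.  Main results: block orthogonality
(`K0_eq_zero_of_reg`, `K0_eq_zero_of_not_conj`), Brauer's second and third main theorems
(`proj0_cent`, `K0_cent`), and kernels (`le_cfker_of_mem_B0`, `eq_one_of_forall_mem_cfker`).
-/

set_option autoImplicit false

namespace CfsgLib.Blk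

open Cfsg Subgroup CfsgLib.FT
open scoped ComplexConjugate

variable {G : Type*} [Group G]

/-- The `p`-regular elements of `L`. -/
def regSet (p : ℕ) (L : Subgroup G) : Set G := {x | x ∈ L ∧ (orderOf x).Coprime p}

theorem mem_regSet {p : ℕ} {L : Subgroup G} {x : G} :
    x ∈ regSet p L ↔ x ∈ L ∧ (orderOf x).Coprime p := Iff.rfl

theorem orderOf_conj' (y x : G) : orderOf (y * x * y⁻¹) = orderOf x :=
  (MulAut.conj y).orderOf_eq x

theorem regSet_conj {p : ℕ} {L : Subgroup G} :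
    ∀ x ∈ L, ∀ a ∈ regSet p L, x * a * x⁻¹ ∈ regSet p L := fun x hx a ha =>
  ⟨L.mul_mem (L.mul_mem hx ha.1) (L.inv_mem hx), by rw [orderOf_conj']; exact ha.2⟩

theorem one_mem_regSet {p : ℕ} {L : Subgroup G} : (1 : G) ∈ regSet p L := ⟨L.one_mem, by simp⟩

variable [Fintype G] {L C H N : Subgroup G} {φ ψ : G → ℂ} {p : ℕ}

open Classical in
/-- The irreducible characters in the principal `p`-block of `L`. -/
noncomputable def B0 (p : ℕ) (L : Subgroup G) : Finset (Irr L) :=
  Finset.univ.filter fun χ => ∑ x ∈ elems (regSet p L), χ x ≠ 0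

theorem mem_B0 {χ : Irr L} : χ ∈ B0 p L ↔ ∑ x ∈ elems (regSet p L), χ x ≠ 0 := by
  simp [B0]

/-- Projection onto the span of a set of irreducible characters. -/
noncomputable def projB (B : Finset (Irr L)) (φ : G → ℂ) : G → ℂ :=
  ∑ χ ∈ B, cfdot L φ χ • (χ : G → ℂ)

/-- The kernel of the projection. -/
noncomputable def kerB (B : Finset (Irr L)) (x g : G) : ℂ := ∑ χ ∈ B, χ x * conj (χ g)

section ProjB

variable {B : Finset (Irr L)}

theorem projB_mem_CF : projB B φ ∈ CF L := sum_smul_irr_mem_CF _ _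

theorem projB_apply (x : G) : projB B φ x = ∑ χ ∈ B, cfdot L φ χ * χ x := by
  simp [projB]

theorem projB_eq_sum (x : G) :
    projB B φ x = (Nat.card L : ℂ)⁻¹ * ∑ g ∈ elems (L : Set G), φ g * kerB B x g := by
  simp only [projB_apply, cfdot, kerB, Finset.mul_sum, Finset.sum_mul]
  rw [Finset.sum_comm]
  exact Finset.sum_congr rfl fun g _ => Finset.sum_congr rfl fun χ _ => by ring

theorem cfdot_projB (χ : Irr L) : cfdot L (projB B φ) χ = if χ ∈ B then cfdot L φ χ else 0 := by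
  rw [projB, cfdot_sum_left]
  simp only [cfdot_smul_left, Irr.cfdot_eq, mul_ite, mul_one, mul_zero]
  rw [Finset.sum_ite_eq']

theorem projB_irr (χ : Irr L) : projB B χ = if χ ∈ B then (χ : G → ℂ) else 0 := by
  rw [projB]
  simp only [Irr.cfdot_eq, ite_smul, one_smul, zero_smul]
  rw [Finset.sum_ite_eq]

theorem projB_congr (h : ∀ x ∈ L, φ x = ψ x) : projB B φ = projB B ψ :=
  Finset.sum_congr rfl fun _ _ => by rw [cfdot_congr h fun _ _ => rfl]

theorem projB_cfRes : projB B (cfRes L φ) = projB B φ :=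
  projB_congr fun _ hx => cfRes_apply hx

theorem cfdot_projB_comm : cfdot L (projB B φ) ψ = cfdot L φ (projB B ψ) := by
  rw [projB, projB, cfdot_sum_left, cfdot_sum_right]
  refine Finset.sum_congr rfl fun χ _ => ?_
  rw [cfdot_smul_left, cfdot_smul_right, cfdot_conj, mul_comm]

theorem projB_add : projB B (φ + ψ) = projB B φ + projB B ψ := by
  simp only [projB, cfdot_add_left, add_smul, Finset.sum_add_distrib]

theorem projB_sub : projB B (φ - ψ) = projB B φ - projB B ψ := by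
  simp only [projB, cfdot_sub_left, sub_smul, Finset.sum_sub_distrib]

theorem projB_smul (c : ℂ) : projB B (c • φ) = c • projB B φ := by
  simp only [projB, cfdot_smul_left, mul_smul, Finset.smul_sum]

omit [Fintype G] in
theorem conj_kerB (x g : G) : conj (kerB B x g) = kerB B g x := by
  simp [kerB, mul_comm]

omit [Fintype G] in
theorem kerB_eq_zero_comm {x g : G} (h : kerB B x g = 0) : kerB B g x = 0 := by
  rw [← conj_kerB, h, map_zero]

omit [Fintype G] in
theorem kerB_of_notMem (x : G) {g : G} (hg : g ∉ L) : kerB B x g = 0 :=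
  Finset.sum_eq_zero fun χ _ => by simp [χ.irr.2 g hg]

theorem kerB_conj_right (x g : G) {z : G} (hz : z ∈ L) : kerB B x (z * g * z⁻¹) = kerB B x g :=
  Finset.sum_congr rfl fun χ _ => by rw [CF_conj χ.mem_CF hz]

theorem kerB_conj_left (x g : G) {z : G} (hz : z ∈ L) : kerB B (z * x * z⁻¹) g = kerB B x g :=
  Finset.sum_congr rfl fun χ _ => by rw [CF_conj χ.mem_CF hz]

theorem kerB_central {u : G} (hu : u ∈ L) (hc : ∀ y ∈ L, y * u = u * y) (x g : G) :
    kerB B (u * x) (u * g) = kerB B x g := by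
  refine Finset.sum_congr rfl fun χ _ => ?_
  have hn : ‖χ u‖ = ‖χ 1‖ := χ.irr.norm_eq_of_center hu fun y hy => by
    rw [hc y hy]; simp
  have h1 := χ.irr.one_ne_zero
  rw [CF_mul_comm χ.mem_CF hu, CF_mul_comm χ.mem_CF hu, χ.isChar.mul_of_norm_eq hu hn,
    χ.isChar.mul_of_norm_eq hu hn, map_mul]
  have h2 : χ u / χ 1 * conj (χ u / χ 1) = 1 := by
    rw [Complex.mul_conj', norm_div, hn, div_self (norm_ne_zero_iff.mpr h1)]
    simp
  linear_combination (χ x * conj (χ g)) * h2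

theorem projB_indicator_mul {A : Set G} (hA : ∀ x ∈ L, ∀ g ∈ L, x ∈ A → g ∉ A → kerB B x g = 0) :
    projB B (cfInd1 A * φ) = cfInd1 A * projB B φ := by
  ext x
  by_cases hx : x ∈ L
  swap
  · simp [projB_mem_CF.1 x hx]
  rw [Pi.mul_apply, projB_eq_sum, projB_eq_sum]
  by_cases hxA : x ∈ A
  · rw [cfInd1_apply hxA, one_mul]
    congr 1
    refine Finset.sum_congr rfl fun g hg => ?_
    by_cases hgA : g ∈ A
    · rw [Pi.mul_apply, cfInd1_apply hgA, one_mul]
    · rw [hA x hx g (by simpa using hg) hxA hgA, mul_zero, mul_zero]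
  · rw [cfInd1_apply_of_notMem hxA, zero_mul, Finset.sum_eq_zero, mul_zero]
    intro g hg
    by_cases hgA : g ∈ A
    · rw [kerB_eq_zero_comm (hA g (by simpa using hg) x hx hgA hxA), mul_zero]
    · rw [Pi.mul_apply, cfInd1_apply_of_notMem hgA, zero_mul, zero_mul]

theorem cfdot_indicator_mul_eq_zero {A : Set G}
    (hA : ∀ x ∈ L, ∀ g ∈ L, x ∈ A → g ∉ A → kerB B x g = 0) {χ ψ : Irr L} (hχ : χ ∈ B)
    (hψ : ψ ∉ B) : cfdot L (cfInd1 A * (ψ : G → ℂ)) χ = 0 := by
  have h := cfdot_projB (B := B) (φ := cfInd1 A * (ψ : G → ℂ)) χ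
  rw [if_pos hχ, projB_indicator_mul hA, projB_irr, if_neg hψ, mul_zero] at h
  rw [← h]
  simp [cfdot]

theorem act_idem_indicator (hφ : φ ∈ CF L) :
    act (idem L fun χ => if χ ∈ B then 1 else 0) φ = projB B φ := by
  rw [act_idem _ hφ, projB]
  simp only [ite_mul, one_mul, zero_mul, ite_smul, zero_smul]
  rw [Finset.sum_ite_mem, Finset.univ_inter]

theorem conv_idem_indicator :
    conv (idem L fun χ => if χ ∈ B then 1 else 0) (idem L fun χ => if χ ∈ B then 1 else 0) =
      idem L fun χ => if χ ∈ B then 1 else 0 := by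
  rw [← idem_mul]
  congr 1
  ext χ
  simp only [Pi.mul_apply]
  split_ifs <;> simp

theorem sum_idem_indicator (x : G) {g : G} (hg : g ∈ L) :
    ∑ z ∈ elems (L : Set G), idem L (fun χ => if χ ∈ B then 1 else 0) (x * (z * g⁻¹ * z⁻¹)) =
      kerB B g x := by
  simp only [idem_apply]
  rw [Finset.sum_comm, kerB, ← Finset.univ_inter B, ← Finset.sum_ite_mem, Finset.univ_inter]
  refine Finset.sum_congr rfl fun χ _ => ?_
  rw [← Finset.mul_sum, ← map_sum, sum_conj_mul χ.irr x (L.inv_mem hg), χ.isChar.inv]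
  split_ifs
  · have := χ.irr.one_ne_zero
    have := card_ne_zero L
    simp only [map_div₀, map_mul, χ.isChar.conj_one, map_natCast, Complex.conj_conj]
    field_simp
  · simp

end ProjB

section Val

variable {Γ : Type*} [LinearOrderedCommGroupWithZero Γ] {v : Valuation ℂ Γ}

omit [Fintype G] in
theorem val_cfInd1_le (A : Set G) (g : G) : v (cfInd1 A g) ≤ 1 := by
  by_cases h : g ∈ A
  · simp [cfInd1_apply h]
  · simp [cfInd1_apply_of_notMem h]

theorem sum_cfInd1_mul (A : Set G) (f : G → ℂ) : ∑ x, cfInd1 A x * f x = ∑ x ∈ elems A, f x := by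
  rw [sum_eq_sum_elems (A := A) fun x hx => by rw [cfInd1_apply_of_notMem hx, zero_mul]]
  exact Finset.sum_congr rfl fun x hx => by rw [cfInd1_apply (by simpa using hx), one_mul]

theorem kerB_Bv_eq_zero (hp : p.Prime) (hv : v p < 1) {x g : G} (hx : x ∈ L) (hg : g ∈ L)
    (hxp : (orderOf x).Coprime p) (hgp : p ∣ orderOf g) : kerB (Bv v L) x g = 0 := by
  apply kerB_eq_zero_comm
  rw [← sum_idem_indicator x hg]
  exact sum_idempotent_eq_zero hp hv (idem_mem_CF _) indicator_Bv_mem conv_idem_indicator hx hxp hgp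

theorem not_dvd_card_regSet_of_central (hp : p.Prime)
    (hc : ∀ u ∈ L, ∀ k, u ^ p ^ k = 1 → ∀ y ∈ L, y * u = u * y) :
    ¬ p ∣ (regSet p L).ncard := by
  have := Fact.mk hp
  let P : Subgroup G :=
    { carrier := {u | u ∈ L ∧ ∃ k, u ^ p ^ k = 1}
      one_mem' := ⟨L.one_mem, 0, by simp⟩
      mul_mem' := fun {a b} ⟨ha, k, hk⟩ ⟨hb, l, hl⟩ => ⟨L.mul_mem ha hb, k + l, by
        have hab : Commute a b := hc b hb l hl a ha
        rw [hab.mul_pow, pow_add, pow_mul, hk, one_pow, mul_comm (p ^ k), pow_mul, hl, one_pow,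
          one_mul]⟩
      inv_mem' := fun {a} ⟨ha, k, hk⟩ => ⟨L.inv_mem ha, k, by rw [inv_pow, hk, inv_one]⟩ }
  have hbij : Function.Bijective fun q : P × regSet p L =>
      (⟨q.1 * q.2, L.mul_mem q.1.2.1 q.2.2.1⟩ : L) := by
    constructor
    · rintro ⟨⟨u, hu, k, hk⟩, y, hy⟩ ⟨⟨u', hu', k', hk'⟩, y', hy'⟩ h
      have h' : u * y = u' * y' := congrArg Subtype.val h
      have e : u = u' := by
        have := conj_eq_of_conj_mul_eq (a := p ^ (k + k')) (b := orderOf y * orderOf y') (g := 1)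
          (Nat.Coprime.pow_left _ (Nat.Coprime.mul_right hy.2.symm hy'.2.symm))
          ((orderOf_dvd_of_pow_eq_one hk).trans (pow_dvd_pow _ (Nat.le_add_right _ _)))
          (Dvd.intro _ rfl)
          ((orderOf_dvd_of_pow_eq_one hk').trans (pow_dvd_pow _ (Nat.le_add_left _ _)))
          (Dvd.intro_left _ rfl) (hc u hu k hk y hy.1).symm (hc u' hu' k' hk' y' hy'.1).symm
          (by simpa using h')
        simpa using this
      subst e
      have e' : y = y' := mul_left_cancel h'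
      subst e'
      rfl
    · rintro ⟨x, hx⟩
      obtain ⟨u, hu, y, hy, rfl, -, ⟨k, hk⟩, hyp⟩ := exists_p_part hp x
      have hle : zpowers (u * y) ≤ L := zpowers_le.mpr hx
      exact ⟨(⟨u, hle hu, k, by rw [← hk, pow_orderOf_eq_one]⟩, ⟨y, hle hy, hyp⟩), rfl⟩
  have hcard := Nat.card_eq_of_bijective _ hbij
  rw [Nat.card_prod, Nat.card_coe_set_eq] at hcard
  obtain ⟨Q⟩ : Nonempty (Sylow p L) := inferInstance
  have hQ : (Q : Subgroup L).map L.subtype ≤ P := by
    rintro _ ⟨x, hx, rfl⟩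
    obtain ⟨k, hk⟩ := Q.isPGroup' ⟨x, hx⟩
    exact ⟨x.2, k, by simpa using congrArg (fun z : (Q : Subgroup L) => ((z : L) : G)) hk⟩
  have hdvd := card_dvd_of_le hQ
  rw [card_map_of_injective L.subtype_injective, Q.card_eq_multiplicity] at hdvd
  intro hd
  have h1 : p ^ ((Nat.card L).factorization p + 1) ∣ Nat.card L := by
    rw [pow_succ]
    conv_rhs => rw [← hcard]
    exact mul_dvd_mul hdvd hd
  exact Nat.pow_succ_factorization_not_dvd Nat.card_pos.ne' hp h1

theorem val_card_regSet (hp : p.Prime) (hv : v p < 1) (L : Subgroup G) :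
    v ((regSet p L).ncard : ℂ) = 1 := by
  induction h : Nat.card L using Nat.strong_induction_on generalizing L with
  | _ n ih =>
  by_cases hc : ∀ u ∈ L, ∀ k, u ^ p ^ k = 1 → ∀ y ∈ L, y * u = u * y
  · exact val_natCast_eq_one hv ((Nat.Prime.coprime_iff_not_dvd hp).mpr
      (not_dvd_card_regSet_of_central hp hc)).symm
  push Not at hc
  obtain ⟨u, hu, k, hk, y, hy, hyu⟩ := hc
  have hlt : L ⊓ centralizer ({u} : Set G) < L :=
    lt_of_le_of_ne inf_le_left fun e => hyu (mem_centralizer_singleton_iff.mp (e.ge hy).2)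
  have h1 := ih _ (h ▸ card_lt_card_of_lt hlt) _ rfl
  have h2 := val_sum_sub_lt (f := cfInd1 (regSet p L)) hp hv hk (val_cfInd1_le _)
    ((cfInd1_mem_CFon (fun _ h => h.1) regSet_conj).1.2 u hu)
  have h3 : ∑ x, cfInd1 (regSet p L) x = ((regSet p L).ncard : ℂ) := by
    simpa [card_elems_set] using sum_cfInd1_mul (regSet p L) 1
  have h4 : ∑ x ∈ elems (centralizer ({u} : Set G) : Set G), cfInd1 (regSet p L) x =
      ((regSet p (L ⊓ centralizer ({u} : Set G))).ncard : ℂ) := by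
    have := sum_cfInd1_mul (regSet p (L ⊓ centralizer ({u} : Set G))) 1
    simp only [Pi.one_apply, mul_one, Finset.sum_const, card_elems_set, nsmul_eq_mul] at this
    rw [← this, sum_eq_sum_elems (A := centralizer ({u} : Set G)) fun x hx =>
      cfInd1_apply_of_notMem fun h => hx h.1.2]
    refine Finset.sum_congr rfl fun x hx => ?_
    have hx' : x ∈ centralizer ({u} : Set G) := by simpa using hx
    by_cases hr : x ∈ regSet p L
    · rw [cfInd1_apply hr, cfInd1_apply
        (show x ∈ regSet p (L ⊓ centralizer ({u} : Set G)) from ⟨⟨hr.1, hx'⟩, hr.2⟩)]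
    · rw [cfInd1_apply_of_notMem hr, cfInd1_apply_of_notMem fun h => hr ⟨h.1.1, h.2⟩]
  rw [h3, h4] at h2
  exact val_eq_one_of_sub_lt h2 h1

omit [Fintype G] in
theorem regInd_mem_CF : cfInd1 (regSet p L) ∈ CF L :=
  (cfInd1_mem_CFon (fun _ h => h.1) regSet_conj).1

theorem om_cfInd1 (A : Set G) (χ : G → ℂ) : om χ (cfInd1 A) = (∑ x ∈ elems A, χ x) / χ 1 := by
  rw [om, sum_cfInd1_mul]

theorem om_one_cfInd1 {A : Set G} (hA : A ⊆ L) : om (1 : Irr L) (cfInd1 A) = A.ncard := by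
  rw [om_cfInd1, Irr.coe_one, cf1_one, div_one, Finset.sum_congr rfl fun x hx =>
    cf1_apply (hA (by simpa using hx))]
  simp [card_elems_set]

theorem val_om_reg_of_mem (hp : p.Prime) (hv : v p < 1) {χ : Irr L} (hχ : χ ∈ Bv v L) :
    v (om χ (cfInd1 (regSet p L))) = 1 := by
  have h := mem_Bv.mp hχ _ (om_mem_Zr (regInd_mem_CF (p := p)) (val_cfInd1_le _))
  simp only [om_one_cfInd1 (L := L) (A := regSet p L) fun _ h => h.1] at h
  exact val_eq_one_of_sub_lt h (val_card_regSet hp hv L)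

theorem sum_reg_of_notMem (hp : p.Prime) (hv : v p < 1) {χ : Irr L} (hχ : χ ∉ Bv v L) :
    ∑ x ∈ elems (regSet p L), χ x = 0 := by
  have h := cfdot_indicator_mul_eq_zero (A := regSet p L) (fun x hx g hg hxA hgA =>
    kerB_Bv_eq_zero hp hv hx hg hxA.2 (by
      by_contra hd
      exact hgA ⟨hg, ((Nat.Prime.coprime_iff_not_dvd hp).mpr hd).symm⟩)) one_mem_Bv hχ
  rw [Irr.coe_one, cfdot_cf1_right, ← sum_eq_sum_elems fun x hx => by
    rw [Pi.mul_apply, χ.irr.2 x hx, mul_zero]] at h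
  simp only [Pi.mul_apply, sum_cfInd1_mul] at h
  exact (mul_eq_zero.mp h).resolve_left (inv_ne_zero (card_ne_zero L))

theorem Bv_eq_B0 (hp : p.Prime) (hv : v p < 1) : Bv v L = B0 p L := by
  ext χ
  rw [mem_B0]
  refine ⟨fun h h0 => ?_, fun h => by_contra fun h' => h (sum_reg_of_notMem hp hv h')⟩
  have := val_om_reg_of_mem hp hv h
  rw [om_cfInd1, h0] at this
  simp at this

/-- The principal block idempotent. -/
noncomputable def e0 (p : ℕ) (L : Subgroup G) : G → ℂ :=
  idem L fun χ => if χ ∈ B0 p L then 1 else 0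

theorem e0_mem_CF : e0 p L ∈ CF L := idem_mem_CF _

theorem conv_e0 : conv (e0 p L) (e0 p L) = e0 p L := conv_idem_indicator

theorem val_e0_le (hp : p.Prime) (hv : v p < 1) (g : G) : v (e0 p L g) ≤ 1 := by
  have := indicator_Bv_mem (v := v) (L := L) g
  rwa [Bv_eq_B0 hp hv] at this

theorem conv_e0_reg : conv (e0 p L) (cfInd1 (regSet p L)) = cfInd1 (regSet p L) := by
  rw [e0, conv_idem _ regInd_mem_CF]
  conv_rhs => rw [← idem_om (regInd_mem_CF (p := p) (L := L))]
  congr 1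
  ext χ
  rw [Pi.mul_apply]
  split_ifs with h
  · rw [one_mul]
  · rw [zero_mul, om_cfInd1, not_not.mp (mt mem_B0.mpr h), zero_div]

theorem exists_e0_eq_conv (hp : p.Prime) (hv : v p < 1) (L : Subgroup G) :
    ∃ y ∈ CF L, (∀ g, v (y g) ≤ 1) ∧ e0 p L = conv (cfInd1 (regSet p L)) y := by
  obtain ⟨y, hy, h⟩ := exists_Zr_mul_eq (om_mem_Zr (v := v) (regInd_mem_CF (p := p) (L := L))
    (val_cfInd1_le _)) (B0 p L)
    (fun χ hχ => val_om_reg_of_mem hp hv (by rwa [Bv_eq_B0 hp hv]))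
    (fun χ hχ => by rw [om_cfInd1, not_not.mp (mt mem_B0.mpr hχ), zero_div])
  refine ⟨idem L y, idem_mem_CF _, hy, ?_⟩
  rw [e0, ← h, idem_mul, idem_om regInd_mem_CF]

/-- Brauer's third main theorem, algebra form. -/
theorem val_e0_sub_lt (hp : p.Prime) (hv : v p < 1) {k : ℕ} {u : G} (hu : u ^ p ^ k = 1)
    (huL : u ∈ L) {c : G} (hc : c ∈ L ⊓ centralizer ({u} : Set G)) :
    v (e0 p L c - e0 p (L ⊓ centralizer ({u} : Set G)) c) < 1 := by
  set C := L ⊓ centralizer ({u} : Set G) with hC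
  have hCL : C ≤ L := inf_le_left
  have hres : cfRes C (cfInd1 (regSet p L)) = cfInd1 (regSet p C) := by
    ext x
    by_cases hx : x ∈ C
    · rw [cfRes_apply hx]
      by_cases hr : (orderOf x).Coprime p
      · rw [cfInd1_apply (show x ∈ regSet p L from ⟨hx.1, hr⟩),
          cfInd1_apply (show x ∈ regSet p C from ⟨hx, hr⟩)]
      · rw [cfInd1_apply_of_notMem fun h => hr h.2, cfInd1_apply_of_notMem fun h => hr h.2]
    · rw [cfRes_apply_of_notMem hx, cfInd1_apply_of_notMem fun h => hx h.1]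
  have hresi : ∀ f : G → ℂ, (∀ g, v (f g) ≤ 1) → ∀ g, v (cfRes C f g) ≤ 1 := fun f hf g => by
    by_cases hg : g ∈ C
    · rw [cfRes_apply hg]; exact hf g
    · rw [cfRes_apply_of_notMem hg]; simp
  obtain ⟨y, hy, hyi, hey⟩ := exists_e0_eq_conv hp hv L
  obtain ⟨y', hy', hyi', hey'⟩ := exists_e0_eq_conv hp hv C
  set σ := cfInd1 (regSet p C) with hσ
  set e := cfRes C (e0 p L) with he
  set f := e0 p C with hf
  have heC : e ∈ CF C := cfRes_mem_CF hCL e0_mem_CF
  have hσC : σ ∈ CF C := regInd_mem_CF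
  have hyC : cfRes C y ∈ CF C := cfRes_mem_CF hCL hy
  have h1 : ∀ g, v ((e - conv σ (cfRes C y)) g) < 1 := fun g => by
    by_cases hg : g ∈ C
    · have := val_conv_sub_lt hp hv hu huL (regInd_mem_CF (p := p)) (val_cfInd1_le _) hy hyi hg
      rw [← hey, hres] at this
      rwa [Pi.sub_apply, he, cfRes_apply hg]
    · simp [heC.1 g hg, (conv_mem_CF hσC hyC).1 g hg]
  have h2 : ∀ g, v ((σ - conv e σ) g) < 1 := fun g => by
    by_cases hg : g ∈ C
    · have := val_conv_sub_lt hp hv hu huL (e0_mem_CF (p := p)) (val_e0_le hp hv)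
        (regInd_mem_CF (p := p)) (val_cfInd1_le _) hg
      rw [conv_e0_reg, hres] at this
      rwa [Pi.sub_apply, ← hres, cfRes_apply hg, hres]
    · simp [hσC.1 g hg, (conv_mem_CF heC hσC).1 g hg]
  have h3 : v (conv f e c - conv σ (cfRes C y) c) < 1 := by
    have := val_conv_lt_right (a := f) (val_e0_le hp hv) h1 c
    rwa [conv_sub_right, ← conv_assoc, hf, conv_e0_reg] at this
  have h4 : v (f c - conv e f c) < 1 := by
    have := val_conv_lt_left h2 hyi' c
    rwa [conv_sub_left, conv_assoc, ← hey'] at this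
  rw [conv_comm_CF le_rfl heC (e0_mem_CF (p := p) (L := C)).1] at h4
  have h5 := h1 c
  rw [Pi.sub_apply, he, cfRes_apply hc] at h5
  exact val_sub_trans h5 (val_sub_symm (val_sub_trans h4 h3))

end Val

theorem one_mem_B0 (hp : p.Prime) : (1 : Irr L) ∈ B0 p L := by
  obtain ⟨R, hR⟩ := exists_val hp
  rw [← Bv_eq_B0 hp hR]
  exact one_mem_Bv

/-- Block orthogonality. -/
theorem K0_eq_zero_of_reg (hp : p.Prime) {x g : G} (hxp : (orderOf x).Coprime p)
    (hgp : p ∣ orderOf g) : kerB (B0 p L) x g = 0 := by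
  by_cases hg : g ∈ L
  swap
  · exact kerB_of_notMem x hg
  by_cases hx : x ∈ L
  swap
  · exact kerB_eq_zero_comm (kerB_of_notMem g hx)
  obtain ⟨R, hR⟩ := exists_val hp
  rw [← Bv_eq_B0 hp hR]
  exact kerB_Bv_eq_zero hp hR hx hg hxp hgp

theorem proj0_reg_mul (hp : p.Prime) :
    projB (B0 p L) (cfInd1 (regSet p L) * φ) = cfInd1 (regSet p L) * projB (B0 p L) φ :=
  projB_indicator_mul fun x _ g hg hxA hgA => K0_eq_zero_of_reg hp hxA.2 (by
    by_contra hd
    exact hgA ⟨hg, ((Nat.Prime.coprime_iff_not_dvd hp).mpr hd).symm⟩)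

/-- Brauer's second and third main theorems for the principal block. -/
theorem proj0_cent (hp : p.Prime) {k : ℕ} {u y : G} (hu : u ^ p ^ k = 1) (huL : u ∈ L)
    (hyL : y ∈ L) (hy : (orderOf y).Coprime p) (huy : u * y = y * u) (hφ : φ ∈ CF L) :
    projB (B0 p L) φ (u * y) = projB (B0 p (L ⊓ centralizer ({u} : Set G))) φ (u * y) := by
  obtain ⟨R, hR⟩ := exists_val hp
  have hg : u * y ∈ L ⊓ centralizer ({u} : Set G) :=
    ⟨L.mul_mem huL hyL, mem_centralizer_singleton_iff.mpr (by rw [mul_assoc, huy])⟩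
  have h := act_eq_act hp hR hu hy huy inf_le_left hg (e0_mem_CF (p := p)) (val_e0_le hp hR) conv_e0
    (e0_mem_CF (p := p)) (val_e0_le hp hR) conv_e0
    (fun x hx hxu => ⟨hx, mem_centralizer_singleton_iff.mpr hxu⟩)
    (fun x hx => val_e0_sub_lt hp hR hu huL hx) hφ
  rw [act_congr hg e0_mem_CF.1 (ψ := cfRes _ φ) (fun x hx => (cfRes_apply hx).symm), e0, e0,
    act_idem_indicator hφ, act_idem_indicator (cfRes_mem_CF inf_le_left hφ), projB_cfRes] at h
  exact h

theorem proj0_eq_of_cent_le (hp : p.Prime) {k : ℕ} {u y : G} (hu : u ^ p ^ k = 1) (hHL : H ≤ L)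
    (huH : u ∈ H) (hyH : y ∈ H) (hy : (orderOf y).Coprime p) (huy : u * y = y * u)
    (hC : L ⊓ centralizer ({u} : Set G) ≤ H) (hφ : φ ∈ CF L) :
    projB (B0 p H) φ (u * y) = projB (B0 p L) φ (u * y) := by
  have e : H ⊓ centralizer ({u} : Set G) = L ⊓ centralizer ({u} : Set G) :=
    le_antisymm (inf_le_inf_right _ hHL) (le_inf hC inf_le_right)
  rw [proj0_cent hp hu (hHL huH) (hHL hyH) hy huy hφ, ← projB_cfRes (L := H),
    proj0_cent hp hu huH hyH hy huy (cfRes_mem_CF hHL hφ), e]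
  exact congrFun (projB_congr fun x hx => cfRes_apply (hC hx)) _

theorem K0_eq_sum_cent (hp : p.Prime) {k : ℕ} {u y : G} (hu : u ^ p ^ k = 1) (huL : u ∈ L)
    (hyL : y ∈ L) (hy : (orderOf y).Coprime p) (huy : u * y = y * u) {h : G} (hh : h ∈ L) :
    kerB (B0 p L) (u * y) h = (Nat.card ↥(L ⊓ centralizer ({u} : Set G)) : ℂ)⁻¹ *
      ∑ z ∈ elems (L : Set G), kerB (B0 p (L ⊓ centralizer ({u} : Set G))) y (u⁻¹ * (z * h * z⁻¹)) := by
  classical
  set C := L ⊓ centralizer ({u} : Set G) with hC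
  have h1 := proj0_cent (φ := ∑ χ : Irr L, conj (χ h) • (χ : G → ℂ)) hp hu huL hyL hy huy
    (sum_smul_irr_mem_CF _ _)
  rw [← hC, projB_apply, projB_eq_sum] at h1
  simp only [cfdot_sum_irr] at h1
  rw [kerB, Finset.sum_congr rfl fun χ _ => mul_comm _ _, h1]
  congr 1
  have huC : u ∈ C := ⟨huL, mem_centralizer_singleton_iff.mpr rfl⟩
  have h2 : ∀ g, kerB (B0 p C) (u * y) g = kerB (B0 p C) y (u⁻¹ * g) := fun g => by
    rw [← kerB_central huC (fun y hy => mem_centralizer_singleton_iff.mp hy.2) y (u⁻¹ * g)]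
    simp
  rw [← sum_eq_sum_elems fun g hg => by rw [kerB_of_notMem _ hg, mul_zero]]
  simp only [Finset.sum_apply, Pi.smul_apply, smul_eq_mul, sum_irr_conj_mul_card hh, h2,
    Finset.card_filter, Nat.cast_sum, Finset.sum_mul]
  rw [Finset.sum_comm]
  refine Finset.sum_congr rfl fun z _ => ?_
  simp

theorem conj_eq_of_reg (hp : p.Prime) {k k' : ℕ} {u u' y' z : G} (hu : u ^ p ^ k = 1)
    (hu' : u' ^ p ^ k' = 1) (hy' : (orderOf y').Coprime p) (huy' : u' * y' = y' * u')
    (hc : u * (z * (u' * y') * z⁻¹) = z * (u' * y') * z⁻¹ * u)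
    (hr : ¬ p ∣ orderOf (u⁻¹ * (z * (u' * y') * z⁻¹))) : z * u' * z⁻¹ = u := by
  set w := u⁻¹ * (z * (u' * y') * z⁻¹) with hw
  have hc' : Commute u (z * (u' * y') * z⁻¹) := hc
  exact conj_eq_of_conj_mul_eq (a := p ^ (k' + k)) (b := orderOf y' * orderOf w) (y' := w)
    (Nat.Coprime.pow_left _ (Nat.Coprime.mul_right hy'.symm
      ((Nat.Prime.coprime_iff_not_dvd hp).mpr hr)))
    ((orderOf_dvd_of_pow_eq_one hu').trans (pow_dvd_pow _ (Nat.le_add_right _ _)))
    (Dvd.intro _ rfl)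
    ((orderOf_dvd_of_pow_eq_one hu).trans (pow_dvd_pow _ (Nat.le_add_left _ _)))
    (Dvd.intro_left _ rfl) huy' ((Commute.refl u).inv_right.mul_right hc') (by simp [hw])

/-- Orthogonality for different sections. -/
theorem K0_eq_zero_of_not_conj (hp : p.Prime) {k k' : ℕ} {u y u' y' : G} (hu : u ^ p ^ k = 1)
    (huL : u ∈ L) (hyL : y ∈ L) (hy : (orderOf y).Coprime p) (huy : u * y = y * u)
    (hu' : u' ^ p ^ k' = 1) (hy' : (orderOf y').Coprime p) (huy' : u' * y' = y' * u')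
    (hn : ∀ z ∈ L, z * u' * z⁻¹ ≠ u) : kerB (B0 p L) (u * y) (u' * y') = 0 := by
  by_cases hh : u' * y' ∈ L
  swap
  · exact kerB_of_notMem _ hh
  rw [K0_eq_sum_cent hp hu huL hyL hy huy hh, Finset.sum_eq_zero, mul_zero]
  intro z hz
  by_cases hm : u⁻¹ * (z * (u' * y') * z⁻¹) ∈ L ⊓ centralizer ({u} : Set G)
  swap
  · exact kerB_of_notMem _ hm
  refine K0_eq_zero_of_reg hp hy (by_contra fun hr => hn z (by simpa using hz) ?_)
  refine conj_eq_of_reg hp hu hu' hy' huy' ?_ hr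
  have h1 : Commute u (u⁻¹ * (z * (u' * y') * z⁻¹)) := (mem_centralizer_singleton_iff.mp hm.2).symm
  simpa using ((Commute.refl u).mul_right h1).eq

/-- The second and third main theorems for the kernel of the principal block. -/
theorem K0_cent (hp : p.Prime) {k : ℕ} {u y y' : G} (hu : u ^ p ^ k = 1)
    (huL : u ∈ L) (hyL : y ∈ L) (hy : (orderOf y).Coprime p) (huy : u * y = y * u)
    (hyL' : y' ∈ L) (hy' : (orderOf y').Coprime p) (huy' : u * y' = y' * u) :
    kerB (B0 p L) (u * y) (u * y') = kerB (B0 p (L ⊓ centralizer ({u} : Set G))) y y' := by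
  set C := L ⊓ centralizer ({u} : Set G) with hC
  rw [K0_eq_sum_cent hp hu huL hyL hy huy (L.mul_mem huL hyL'), ← hC,
    ← Finset.sum_subset (s₁ := elems (C : Set G)) (fun z hz => by
      simpa using (show z ∈ C by simpa using hz).1)]
  · rw [Finset.sum_congr rfl (g := fun _ => kerB (B0 p C) y y'), sum_elems_const, nsmul_eq_mul,
      ← mul_assoc, inv_mul_cancel₀ (card_ne_zero C), one_mul]
    intro z hz
    have hz' : z ∈ C := by simpa using hz
    have hzu : z * u = u * z := mem_centralizer_singleton_iff.mp hz'.2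
    rw [← kerB_conj_right y y' hz', ← mul_assoc z u, hzu]
    simp [mul_assoc]
  · intro z hz hzC
    by_cases hm : u⁻¹ * (z * (u * y') * z⁻¹) ∈ C
    swap
    · exact kerB_of_notMem _ hm
    refine K0_eq_zero_of_reg hp hy (by_contra fun hr => hzC ?_)
    have h1 : Commute u (u⁻¹ * (z * (u * y') * z⁻¹)) :=
      (mem_centralizer_singleton_iff.mp hm.2).symm
    have h2 := conj_eq_of_reg hp hu hu hy' huy' (by
      simpa using ((Commute.refl u).mul_right h1).eq) hr
    rw [mem_elems]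
    exact ⟨by simpa using hz, mem_centralizer_singleton_iff.mpr (by
      rw [← mul_inv_eq_iff_eq_mul]; exact h2)⟩

/-- Normal `p'`-subgroups lie in the kernel of the principal block. -/
theorem le_cfker_of_mem_B0 (hp : p.Prime) (hNL : N ≤ L) (hN : L ≤ normalizer (N : Set G))
    (hcop : (Nat.card N).Coprime p) {χ : Irr L} (hχ : χ ∈ B0 p L) : N ≤ cfker L χ := by
  obtain ⟨R, hR⟩ := exists_val hp
  rw [← Bv_eq_B0 hp hR] at hχ
  have h := mem_Bv.mp hχ _ (om_mem_Zr (cf1_mem_CF_of_normal hNL hN) (val_cfInd1_le _))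
  simp only [cf1_eq_cfInd1, om_one_cfInd1 (L := L) (A := N) hNL] at h
  have h1 := val_eq_one_of_sub_lt h (val_natCast_eq_one hR (by
    rwa [← Nat.card_coe_set_eq]))
  by_contra hk
  rw [om_cfInd1, χ.irr.sum_normal hNL hN, if_neg hk] at h1
  simp at h1

theorem mem_B0_iff_of_regSet_eq (hN : L ≤ normalizer (N : Set G)) (h : regSet p L = N)
    {χ : Irr L} : χ ∈ B0 p L ↔ N ≤ cfker L χ := by
  have hNL : N ≤ L := fun x hx => (h.ge hx).1
  rw [mem_B0, h, χ.irr.sum_normal hNL hN]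
  split_ifs with hk
  · simp [hk, χ.irr.one_ne_zero, Nat.card_pos.ne']
  · simp [hk]

theorem not_dvd_orderOf_of_forall_mem_cfker (hp : p.Prime) {u : G}
    (h : ∀ χ ∈ B0 p L, u ∈ cfker L χ) : ¬ p ∣ orderOf u := by
  intro hd
  have h0 := K0_eq_zero_of_reg (L := L) (x := 1) hp (by simp) hd
  rw [kerB, Finset.sum_congr rfl (g := fun χ : Irr L => ((‖χ 1‖ ^ 2 : ℝ) : ℂ))
    fun χ hχ => by rw [cfker_apply (h χ hχ), Complex.mul_conj']; push_cast; rfl] at h0
  have h1 : ∑ χ ∈ B0 p L, ‖χ 1‖ ^ 2 = 0 := by exact_mod_cast h0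
  have h2 := (Finset.sum_eq_zero_iff_of_nonneg fun _ _ => by positivity).mp h1 1 (one_mem_B0 hp)
  simp at h2

/-- Characters of the principal block are constant on `u O_{p'}(C(u))`. -/
theorem apply_mul_of_mem_B0 (hp : p.Prime) {k : ℕ} {u y : G} (hu : u ^ p ^ k = 1) (huL : u ∈ L)
    (hNL : N ≤ L ⊓ centralizer ({u} : Set G))
    (hN : L ⊓ centralizer ({u} : Set G) ≤ normalizer (N : Set G))
    (hcop : (Nat.card N).Coprime p) (hy : y ∈ N) {χ : Irr L} (hχ : χ ∈ B0 p L) :
    χ (u * y) = χ u := by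
  have h1 := proj0_cent hp hu huL (hNL hy).1
    (Nat.Coprime.coprime_dvd_left (orderOf_dvd_card_of_mem hy) hcop)
    (mem_centralizer_singleton_iff.mp (hNL hy).2).symm χ.mem_CF
  have h2 := proj0_cent (y := 1) hp hu huL L.one_mem (by simp) (by simp) χ.mem_CF
  rw [projB_irr, if_pos hχ] at h1 h2
  rw [mul_one] at h2
  rw [h1, h2, projB_apply, projB_apply]
  exact Finset.sum_congr rfl fun ψ hψ => by
    rw [cfker_mul_right ψ.mem_CF (le_cfker_of_mem_B0 hp hNL hN hcop hψ hy)]

end CfsgLib.Blk
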