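import Cfsg.Agent.Lib.Blk.Block
import Cfsg.Agent.Lib.FT.PF1
import Cfsg.Agent.Lib.CoreFitting

/-!
# Brauer's characterization of characters
-/

set_option autoImplicit false

namespace CfsgLib.Blk

open Cfsg Subgroup CfsgLib.FT
open scoped ComplexConjugate

theorem exists_val_prime_of_ideal (I : Ideal (integralClosure ℤ ℂ)) (hI : I ≠ ⊤) :
    ∃ R : ValuationSubring ℂ, (∀ a ∈ I, R.valuation (a : ℂ) < 1) ∧
      ∃ q : ℕ, q.Prime ∧ R.valuation (q : ℂ) < 1 := by
  obtain ⟨M, hM, hIM⟩ := I.exists_le_maximal hI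
  obtain ⟨R, hR⟩ := exists_val_of_ideal M hM.ne_top
  refine ⟨R, fun a ha => hR a (hIM ha), ?_⟩
  have hm := Ideal.isMaximal_comap_of_isIntegral_of_isMaximal (R := ℤ) M
  have hne := Ring.ne_bot_of_isMaximal_of_not_isField hm Int.not_isField
  obtain ⟨n, hn⟩ := (IsPrincipalIdealRing.principal (M.comap (algebraMap ℤ _))).principal
  have hn' : M.comap (algebraMap ℤ _) = Ideal.span {n} := hn
  have hn0 : n ≠ 0 := by
    rintro rfl
    exact hne (by simpa using hn')
  have hp : Prime n := (Ideal.span_singleton_prime hn0).mp (hn' ▸ hm.isPrime)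
  refine ⟨n.natAbs, Int.prime_iff_natAbs_prime.mp hp, ?_⟩
  have hmem : n ∈ M.comap (algebraMap ℤ _) := hn' ▸ Ideal.subset_span rfl
  have h1 := hR _ hmem
  simp only [eq_intCast, SubringClass.coe_intCast] at h1
  rcases Int.natAbs_eq n with e | e
  · rw [e] at h1; simpa using h1
  · rw [e] at h1; simpa using h1

theorem isIntegral_fun_iff {X : Type*} [Fintype X] {f : X → ℂ} :
    IsIntegral ℤ f ↔ ∀ x, IsIntegral ℤ (f x) := by
  classical
  refine ⟨fun h x => h.map (Pi.evalAlgHom ℤ (fun _ : X => ℂ) x), fun h => ?_⟩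
  have : f = ∑ x, Pi.constAlgHom ℤ X ℂ (f x) * Pi.single x 1 := by
    ext y
    simp [Pi.single_apply]
  rw [this]
  refine IsIntegral.sum _ fun x _ => ((h x).map _).mul ?_
  refine ⟨Polynomial.X ^ 2 - Polynomial.X, by monicity!, ?_⟩
  ext y
  simp [Pi.single_apply]

variable {G : Type*} [Group G] [Fintype G] {L : Subgroup G} {φ : G → ℂ}
variable {Γ : Type*} [LinearOrderedCommGroupWithZero Γ] {v : Valuation ℂ Γ}

theorem val_ZIrr_mul_sub_lt {p k : ℕ} (hp : p.Prime) (hv : v p < 1) (hφ : φ ∈ ZIrr L) {u y : G}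
    (hu : u ∈ L) (hy : y ∈ L) (ho : u ^ p ^ k = 1) (hc : u * y = y * u) :
    v (φ (u * y) - φ y) < 1 := by
  obtain ⟨A, hA, hxA, hyA, hcA⟩ := exists_comm_subgroup hu hy hc
  have key : ∀ ψ ∈ ZIrr A, v (ψ (u * y) - ψ y) < 1 := by
    intro ψ hψ
    induction hψ using Submodule.span_induction with
    | mem ψ hψ =>
      have h1 := IsIrr.isLin_of_comm hψ hcA
      rw [h1.map_mul hxA hyA, ← sub_one_mul]
      refine val_mul_lt_left (val_sub_one_lt (k := k) hp hv ?_)
        (val_le_one_of_isIntegral v (h1.isChar.isIntegral y))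
      rw [← h1.map_pow hxA, ho, h1.one]
    | zero => simp
    | add ψ ψ' _ _ h1 h2 =>
      have := v.map_add_lt h1 h2
      rw [Pi.add_apply, Pi.add_apply]
      convert this using 2
      ring
    | smul n ψ _ h1 =>
      have := val_mul_lt_right (val_intCast_le v n) h1
      simpa [mul_sub] using this
  have := key _ (ZIrr_cfRes hA hφ)
  rwa [cfRes_apply hyA, cfRes_apply (A.mul_mem hxA hyA)] at this

/-- The key computation: characters induced from elementary subgroups are not all small. -/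
theorem exists_cfInd_val_eq_one {q : ℕ} (hq : q.Prime) (hv : v q < 1) {g : G} (hg : g ∈ L) :
    ∃ (x : G) (Q : Subgroup G), x ∈ L ∧ Q ≤ L ∧ IsPGroup q Q ∧ (orderOf x).Coprime q ∧
      (∀ y ∈ Q, y * x = x * y) ∧ ∃ η ∈ ZIrr (zpowers x ⊔ Q),
        ¬ v (cfInd (zpowers x ⊔ Q) L η g) < 1 := by
  classical
  have := Fact.mk hq
  obtain ⟨u, hu, x, hx, rfl, hux, ⟨k, hk⟩, hxq⟩ := exists_p_part hq g
  have hle : zpowers (u * x) ≤ L := zpowers_le.mpr hg
  have hxL := hle hx
  set C := L ⊓ centralizer ({x} : Set G) with hC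
  obtain ⟨P⟩ : Nonempty (Sylow q C) := inferInstance
  set Q := (P : Subgroup C).map C.subtype with hQ
  have hQC : Q ≤ C := map_subtype_le _
  have hQp : IsPGroup q Q := P.isPGroup'.map _
  have hcomm : ∀ y ∈ Q, y * x = x * y := fun y hy => mem_centralizer_singleton_iff.mp (hQC hy).2
  refine ⟨x, Q, hxL, hQC.trans inf_le_left, hQp, hxq, hcomm, ?_⟩
  by_contra! hall
  set E := zpowers x ⊔ Q with hE
  have hEL : E ≤ L := sup_le (zpowers_le.mpr hxL) (hQC.trans inf_le_left)
  obtain ⟨m, hm⟩ := IsPGroup.iff_card.mp hQp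
  have hcop : (Nat.card (zpowers x)).Coprime (Nat.card Q) := by
    rw [Nat.card_zpowers, hm]; exact hxq.pow_right _
  have hd : zpowers x ⊓ Q = ⊥ := (disjoint_of_coprime_natCard hcop).eq_bot
  have hD : DProdIn (zpowers x) Q E := dprodIn_of_sup rfl hd fun a ha y hy => by
    obtain ⟨n, rfl⟩ := ha
    exact ((show Commute y x from hcomm y hy).zpow_right n).symm.eq
  have hη : ∀ l : Irr (zpowers x), cfProd (zpowers x) Q l (cf1 Q) ∈ ZIrr E := fun l =>
    hD.mem_ZIrr l.mem_ZIrr cf1_mem_ZIrr
  have h1 : ∀ l : Irr (zpowers x), v (cfInd E L (cfProd (zpowers x) Q l (cf1 Q)) x) < 1 := by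
    intro l
    have h2 := val_ZIrr_mul_sub_lt hq hv (ZIrr_cfInd hEL (hη l)) (hle hu) hxL
      (k := k) (by rw [← hk, pow_orderOf_eq_one]) hux
    have h3 := v.map_sub_lt (hall _ (hη l)) h2
    rwa [sub_sub_cancel] at h3
  let F : G → ℂ := ∑ l : Irr (zpowers x), conj (l x) • cfProd (zpowers x) Q l (cf1 Q)
  have h2 : v (cfInd E L F x) < 1 := by
    simp only [F, map_sum, map_smul, Finset.sum_apply, Pi.smul_apply, smul_eq_mul]
    refine v.map_sum_lt one_ne_zero fun l _ => val_mul_lt_right ?_ (h1 l)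
    rw [← l.isChar.inv]
    exact val_le_one_of_isIntegral v (l.isChar.isIntegral _)
  have hF : ∀ a ∈ zpowers x, ∀ b ∈ Q, F (a * b) = if a = x then (orderOf x : ℂ) else 0 := by
    intro a ha b hb
    simp only [F, Finset.sum_apply, Pi.smul_apply, smul_eq_mul, cfProd_apply hd ha hb,
      cf1_apply hb, mul_one]
    have hc : ∀ z ∈ zpowers x, z * x * z⁻¹ = x := by
      rintro _ ⟨n, rfl⟩
      simp only
      group
    split_ifs with h
    · rw [h, sum_irr_conj_mul_self' (mem_zpowers x), inf_eq_left.mpr fun z hz =>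
        mem_centralizer_singleton_iff.mpr (by rw [← mul_inv_eq_iff_eq_mul]; exact hc z hz),
        Nat.card_zpowers]
    · exact sum_irr_conj_mul_of_not_conj (mem_zpowers x) fun z hz e => h (by rw [← e, hc z hz])
  have hF0 : ∀ h, h ∉ E → F h = 0 := fun h hh => by
    simp only [F, Finset.sum_apply, Pi.smul_apply, cfProd_apply_of_notMem hD.compl hh, smul_zero,
      Finset.sum_const_zero]
  have h3 : cfInd E L F x = Q.relIndex C := by
    rw [cfInd_apply' hF0 hxL, ← Finset.sum_subset (s₁ := elems (C : Set G)) (fun z hz => by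
      simpa using (show z ∈ C by simpa using hz).1)]
    · rw [Finset.sum_congr rfl (g := fun _ => (orderOf x : ℂ)), sum_elems_const, nsmul_eq_mul,
        IsComplIn_card hD.compl, card_cast_eq_relIndex_mul hQC, Nat.card_zpowers]
      · have := card_ne_zero Q
        have : (orderOf x : ℂ) ≠ 0 := by exact_mod_cast (orderOf_pos x).ne'
        push_cast
        field_simp
      · intro z hz
        have hz' : z * x = x * z :=
          mem_centralizer_singleton_iff.mp (show z ∈ C by simpa using hz).2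
        have := hF x (mem_zpowers x) 1 Q.one_mem
        rw [mul_one, if_pos rfl] at this
        rw [hz', mul_inv_cancel_right, this]
    · intro z hz hzC
      by_cases hm' : z * x * z⁻¹ ∈ E
      swap
      · exact hF0 _ hm'
      obtain ⟨a, ha, b, hb, hab⟩ := hD.compl.2.2.2 _ hm'
      rw [hab, hF a ha b hb, if_neg]
      rintro rfl
      refine hzC ?_
      have h4 := conj_eq_of_conj_mul_eq (a := orderOf a) (b := Nat.card Q) (x := a) (y := 1)
        (x' := a) (y' := b) (g := z) (by rwa [Nat.card_zpowers] at hcop) dvd_rfl (by simp) dvd_rfl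
        (orderOf_dvd_card_of_mem hb) (by simp) (hcomm b hb).symm (by simpa using hab)
      rw [mem_elems]
      exact ⟨by simpa using hz, mem_centralizer_singleton_iff.mpr (by
        rw [← mul_inv_eq_iff_eq_mul]; exact h4)⟩
  have h4 : (Q.relIndex C).Coprime q := by
    have : Q.relIndex C = (P : Subgroup C).index := by
      rw [relIndex, hQ, subgroupOf, comap_map_eq_self_of_injective C.subtype_injective]
    rw [this]
    exact ((Nat.Prime.coprime_iff_not_dvd hq).mpr P.not_dvd_index).symm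
  rw [h3, val_natCast_eq_one hv h4] at h2
  exact lt_irrefl _ h2

/-- Brauer's characterization of characters. -/
theorem mem_ZIrr_of_elementary (hφ : φ ∈ CF L)
    (h : ∀ (q : ℕ) (x : G) (Q : Subgroup G), q.Prime → x ∈ L → Q ≤ L → IsPGroup q Q →
      (orderOf x).Coprime q → (∀ y ∈ Q, y * x = x * y) →
      cfRes (zpowers x ⊔ Q) φ ∈ ZIrr (zpowers x ⊔ Q)) : φ ∈ ZIrr L := by
  classical
  let S := integralClosure ℤ (G → ℂ)
  let Rz : Subring S :=
    { carrier := {f | cfRes L f ∈ ZIrr L}
      mul_mem' := fun {a b} ha hb => by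
        change cfRes L ((a : G → ℂ) * b) ∈ ZIrr L
        rw [cfRes_mul]; exact ZIrr_mul ha hb
      one_mem' := cf1_mem_ZIrr
      add_mem' := fun {a b} ha hb => by
        change cfRes L ((a : G → ℂ) + b) ∈ ZIrr L
        rw [map_add]; exact add_mem ha hb
      zero_mem' := by
        change cfRes L 0 ∈ ZIrr L
        rw [map_zero]; exact zero_mem _
      neg_mem' := fun {a} ha => by
        change cfRes L (-(a : G → ℂ)) ∈ ZIrr L
        rw [map_neg]; exact neg_mem ha }
  let I : Ideal Rz :=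
    { carrier := {f | cfRes L (f : S) * φ ∈ ZIrr L}
      add_mem' := fun {a b} ha hb => by
        change cfRes L (((a : S) : G → ℂ) + (b : S)) * φ ∈ ZIrr L
        rw [map_add, add_mul]; exact add_mem ha hb
      zero_mem' := by
        change cfRes L 0 * φ ∈ ZIrr L
        rw [map_zero, zero_mul]; exact zero_mem _
      smul_mem' := fun c a ha => by
        change cfRes L (((c : S) : G → ℂ) * (a : S)) * φ ∈ ZIrr L
        rw [cfRes_mul, mul_assoc]; exact ZIrr_mul c.2 ha }
  have hint : Rz.subtype.IsIntegral := fun s =>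
    (Algebra.IsIntegral.isIntegral (R := ℤ) s).tower_top (A := Rz)
  suffices hI : I.map Rz.subtype = ⊤ by
    have h1 : (1 : Rz) ∈ I := by
      rw [(Ideal.map_eq_top_iff _ Rz.subtype_injective hint).mp hI]; trivial
    change cf1 L * φ ∈ ZIrr L at h1
    rwa [cf1_mul hφ] at h1
  have hs : ∀ (g : G) (a : ℂ), IsIntegral ℤ a → (Pi.single g a : G → ℂ) ∈ S := fun g a ha =>
    isIntegral_fun_iff.mpr fun y => by
      rw [Pi.single_apply]
      split_ifs
      exacts [ha, isIntegral_zero]
  have key : ∀ g : G, (⟨Pi.single g 1, hs g 1 isIntegral_one⟩ : S) ∈ I.map Rz.subtype := by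
    intro g
    by_cases hg : g ∈ L
    swap
    · have h0 : cfRes L (Pi.single g 1) = 0 := by
        ext y
        by_cases hy : y ∈ L
        · rw [cfRes_apply hy, Pi.single_eq_of_ne (fun e : y = g => hg (e ▸ hy)), Pi.zero_apply]
        · rw [cfRes_apply_of_notMem hy, Pi.zero_apply]
      refine Ideal.mem_map_of_mem Rz.subtype (x := ⟨⟨Pi.single g 1, hs g 1 isIntegral_one⟩, ?_⟩) ?_
      · change cfRes L (Pi.single g 1) * φ ∈ ZIrr L
        rw [h0, zero_mul]; exact zero_mem _
      · change cfRes L (Pi.single g 1) ∈ ZIrr L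
        rw [h0]; exact zero_mem _
    let J : Ideal (integralClosure ℤ ℂ) :=
      { carrier := {a | (⟨Pi.single g a, hs g a a.2⟩ : S) ∈ I.map Rz.subtype}
        add_mem' := fun {a b} ha hb => by
          have := (I.map Rz.subtype).add_mem ha hb
          change _ ∈ I.map Rz.subtype
          convert this using 1
          ext y
          simp [Pi.single_add]
        zero_mem' := by
          have := zero_mem (I.map Rz.subtype)
          change _ ∈ I.map Rz.subtype
          convert this using 1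
          ext y
          simp
        smul_mem' := fun c a ha => by
          have := (I.map Rz.subtype).mul_mem_left ⟨Pi.single g c, hs g c c.2⟩ ha
          change _ ∈ I.map Rz.subtype
          convert this using 1
          ext y
          simp [Pi.single_mul] }
    by_contra hJ
    have hJ' : J ≠ ⊤ := fun e => hJ (by
      have : (1 : integralClosure ℤ ℂ) ∈ J := e ▸ Submodule.mem_top
      exact this)
    obtain ⟨R, hR, q, hq, hv⟩ := exists_val_prime_of_ideal J hJ'
    obtain ⟨x, Q, hx, hQ, hQp, hxq, hc, η, hη, hne⟩ := exists_cfInd_val_eq_one hq hv hg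
    have hEL : zpowers x ⊔ Q ≤ L := sup_le (zpowers_le.mpr hx) hQ
    have hθ := ZIrr_cfInd hEL hη
    set θ := cfInd (zpowers x ⊔ Q) L η with hθd
    have hθS : θ ∈ S := isIntegral_fun_iff.mpr (ZIrr_isIntegral hθ)
    have hθR : (⟨θ, hθS⟩ : S) ∈ Rz := by
      change cfRes L θ ∈ ZIrr L
      rwa [cfRes_self (ZIrr_mem_CF hθ)]
    have hθI : (⟨⟨θ, hθS⟩, hθR⟩ : Rz) ∈ I := by
      change cfRes L θ * φ ∈ ZIrr L
      rw [cfRes_self (ZIrr_mem_CF hθ), hθd, ← cfInd_mul_cfRes hEL hφ]
      exact ZIrr_cfInd hEL (ZIrr_mul hη (h q x Q hq hx hQ hQp hxq hc))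
    refine hne (hR ⟨θ g, ZIrr_isIntegral hθ g⟩ ?_)
    have := Ideal.mul_mem_left _ ⟨Pi.single g 1, hs g 1 isIntegral_one⟩
      (Ideal.mem_map_of_mem Rz.subtype hθI)
    change _ ∈ I.map Rz.subtype
    convert this using 1
    ext y
    by_cases hy : y = g
    · simp [hy]
    · simp [hy]
  rw [Ideal.eq_top_iff_one]
  have := Ideal.sum_mem _ fun g (_ : g ∈ Finset.univ) => key g
  convert this using 1
  ext y
  simp [Pi.single_apply]

/-- Brauer's characterization of characters, with nilpotent subgroups. -/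
theorem mem_ZIrr_of_nilpotent (hφ : φ ∈ CF L)
    (h : ∀ E ≤ L, Group.IsNilpotent E → cfRes E φ ∈ ZIrr E) : φ ∈ ZIrr L := by
  refine mem_ZIrr_of_elementary hφ fun q x Q hq hx hQ hQp _ hc => ?_
  have := Fact.mk hq
  refine h _ (sup_le (zpowers_le.mpr hx) hQ) ?_
  have hc' : ∀ a ∈ zpowers x, ∀ y ∈ Q, a * y = y * a := by
    rintro _ ⟨n, rfl⟩ y hy
    exact ((show Commute y x from hc y hy).zpow_right n).symm.eq
  refine isNilpotent_sup (le_normalizer_of_conj fun z hz y hy => ?_)
    (le_normalizer_of_conj fun z hz y hy => ?_) (by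
      let _ : CommGroup (zpowers x) := IsCyclic.commGroup
      exact CommGroup.isNilpotent) hQp.isNilpotent
  · rw [hc' z hz y hy]; simpa using hy
  · rw [← hc' y hy z hz]; simpa using hy

/-- Brauer's characterization of characters, with subgroups `T × O` where `T` is an `r`-group and
`O` is an `r'`-group. -/
theorem mem_ZIrr_of_dprod {r : ℕ} (hr : r.Prime) (hφ : φ ∈ CF L)
    (h : ∀ T O E : Subgroup G, E ≤ L → DProdIn T O E → IsPGroup r T → (Nat.card O).Coprime r →
      cfRes E φ ∈ ZIrr E) : φ ∈ ZIrr L := by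
  have := Fact.mk hr
  refine mem_ZIrr_of_elementary hφ fun q x Q hq hx hQ hQp hxq hc => ?_
  have := Fact.mk hq
  have hEL : zpowers x ⊔ Q ≤ L := sup_le (zpowers_le.mpr hx) hQ
  have hc' : ∀ a ∈ zpowers x, ∀ y ∈ Q, a * y = y * a := by
    rintro _ ⟨n, rfl⟩ y hy
    exact ((show Commute y x from hc y hy).zpow_right n).symm.eq
  obtain ⟨m, hm⟩ := IsPGroup.iff_card.mp hQp
  by_cases hqr : q = r
  · subst hqr
    refine h Q (zpowers x) _ hEL (dprodIn_of_sup rfl (disjoint_of_coprime_natCard ?_).eq_bot hc').symm hQp ?_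
    · rw [Nat.card_zpowers, hm]; exact hxq.pow_right _
    · rwa [Nat.card_zpowers]
  obtain ⟨a, ha, b, hb, hab, hcab, hao, hbo⟩ := exists_p_part hr x
  have hTp : IsPGroup r (zpowers a) := isPGroup_zpowers_iff.mpr hao
  have hOc : (Nat.card ↥(zpowers b ⊔ Q)).Coprime r := by
    refine Nat.Coprime.coprime_dvd_left (card_sup_dvd_mul (le_normalizer_of_conj fun z hz y hy => ?_))
      (Nat.Coprime.mul_left ?_ ?_)
    · rw [hc' z (zpowers_le.mpr hb hz) y hy]; simpa using hy
    · rwa [Nat.card_zpowers]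
    · rw [hm]; exact ((Nat.coprime_primes hq hr).mpr hqr).pow_left _
  obtain ⟨n, hn⟩ := IsPGroup.iff_card.mp hTp
  refine h (zpowers a) (zpowers b ⊔ Q) _ hEL (dprodIn_of_sup ?_ (disjoint_of_coprime_natCard ?_).eq_bot ?_)
    hTp hOc
  · rw [← sup_assoc]
    congr 1
    refine le_antisymm (sup_le (zpowers_le.mpr ha) (zpowers_le.mpr hb)) (zpowers_le.mpr ?_)
    rw [hab]
    exact mul_mem_sup (mem_zpowers a) (mem_zpowers b)
  · rw [hn]; exact hOc.symm.pow_left _
  · intro z hz y hy
    have hle : zpowers b ⊔ Q ≤ centralizer ({z} : Set G) := by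
      refine sup_le (zpowers_le.mpr ?_) fun y hy => ?_
      · exact mem_centralizer_singleton_iff.mpr
          (commute_of_mem_zpowers hb (zpowers_le.mpr ha hz)).eq
      · exact mem_centralizer_singleton_iff.mpr (hc' z (zpowers_le.mpr ha hz) y hy).symm
    exact (mem_centralizer_singleton_iff.mp (hle hy)).symm

end CfsgLib.Blk
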