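import Cfsg.Agent.Lib.Blk.Block
import Cfsg.Agent.Lib.FT.PF1
import Cfsg.Agent.Lib.PComplement

/-!
# Simple groups with a Sylow subgroup of prime order are large (after Brauer and Reynolds)
-/

set_option autoImplicit false

namespace CfsgLib.Blk.D1

open Cfsg Subgroup CfsgLib.FT
open scoped ComplexConjugate

/-- Numerics for a character that is constant on the nontrivial elements of the Sylow subgroup. -/
theorem num_const {p e t n m c z : ℤ} (hp : Prime p) (he : 2 ≤ e) (ht : 2 ≤ t) (hn : 1 ≤ n)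
    (hpe : p = e * t + 1) (hlt : 2 * (e * (n * p + 1)) < p ^ 2 - 1) (hm : 1 ≤ m)
    (h0 : 0 ≤ c + m) (hz : z = c + m * p) (hc0 : c ≠ 0) (hc : c ^ 2 ≤ e)
    (hd : z ∣ e * (n * p + 1) * p * c) : z = c * (n * p + 1) := by
  have hp0 : 0 < p := by nlinarith
  have hep : 2 * e + 1 ≤ p := by nlinarith
  have hcl : |c| < p := by
    have : |c| ≤ c ^ 2 := by
      rcases abs_cases c with h | h <;> [skip; skip] <;>
      · have : 1 ≤ |c| := Int.one_le_abs hc0
        nlinarith [sq_abs c]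
    omega
  have hcop : IsCoprime z p := by
    rw [hz, IsCoprime.add_mul_right_left_iff]
    refine (hp.irreducible.coprime_iff_not_dvd.mpr ?_).symm
    intro h
    have := Int.le_of_dvd (abs_pos.mpr hc0) ((dvd_abs _ _).mpr h)
    omega
  have hd' : z ∣ e * (n * p + 1) * c := by
    refine hcop.dvd_of_dvd_mul_right ?_
    rwa [mul_right_comm] at hd
  obtain ⟨y, hy⟩ := hd'
  have hzp : m * (p - 1) ≤ z := by nlinarith
  have hz0 : 0 < z := by nlinarith
  -- `p ∣ c (y - e)`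
  have h1 : p ∣ c * (y - e) := ⟨e * n * c - m * y, by rw [hz] at hy; linarith⟩
  have h2 : p ∣ y - e := by
    rcases hp.dvd_or_dvd h1 with h | h
    · have := Int.le_of_dvd (abs_pos.mpr hc0) ((dvd_abs _ _).mpr h)
      omega
    · exact h
  obtain ⟨h, hh⟩ := h2
  have hq : 0 < e * (n * p + 1) := by positivity
  have h2n : 2 * n ≤ t := by
    by_contra hcon
    push Not at hcon
    have : t + 1 ≤ 2 * n := hcon
    have h3 : p ^ 2 - 1 = e * t * (p + 1) := by rw [hpe]; ring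
    have h4 : 2 * (n * p + 1) < t * (p + 1) := by
      by_contra h5
      push Not at h5
      have := mul_le_mul_of_nonneg_left h5 (by omega : (0 : ℤ) ≤ e)
      nlinarith
    nlinarith
  rcases lt_or_gt_of_ne hc0 with hneg | hpos
  · exfalso
    have hy0 : y < 0 := by
      by_contra h5
      push Not at h5
      have := mul_nonneg hz0.le h5
      nlinarith
    have hh0 : h ≤ -1 := by
      by_contra h5
      push Not at h5
      have : 0 ≤ p * h := mul_nonneg hp0.le (by omega)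
      omega
    have hy1 : p - e ≤ -y := by nlinarith
    have h6 : -c * (p - 1) ≤ z := by nlinarith
    have h7 : -c * (p - 1) * (p - e) ≤ z * -y :=
      mul_le_mul h6 hy1 (by omega) hz0.le
    have h8 : -c * ((p - 1) * (p - e)) ≤ -c * (e * (n * p + 1)) := by linarith
    have h9 : (p - 1) * (p - e) ≤ e * (n * p + 1) := le_of_mul_le_mul_left h8 (by omega)
    nlinarith
  · have hy0 : 0 < y := by
      by_contra h5
      push Not at h5
      have := mul_nonpos_of_nonneg_of_nonpos hz0.le h5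
      nlinarith
    have hh0 : 0 ≤ h := by
      by_contra h5
      push Not at h5
      have : p * h ≤ p * -1 := mul_le_mul_of_nonneg_left (by omega) hp0.le
      omega
    rcases hh0.eq_or_lt with h5 | h5
    · have : y = e := by rw [← h5] at hh; omega
      rw [this] at hy
      have : e * z = e * (c * (n * p + 1)) := by linarith
      exact mul_left_cancel₀ (by omega) this
    · exfalso
      have hye : y = e + p * h := by omega
      have h6 : p * (c * h + m * e + m * h * p) = p * (c * e * n) := by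
        rw [hz, hye] at hy; linarith
      have h7 : c * h + m * e + m * h * p = c * e * n := mul_left_cancel₀ hp0.ne' h6
      have h8 : h * (c + m) = e * (c * n - m - m * h * t) := by rw [hpe] at h7; linarith
      have h9 : 0 < h * (c + m) := by positivity
      have h10 : 1 ≤ c * n - m - m * h * t := by
        by_contra h11
        push Not at h11
        have : e * (c * n - m - m * h * t) ≤ 0 :=
          mul_nonpos_of_nonneg_of_nonpos (by omega) (by omega)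
        omega
      have h11 : e ≤ h * (c + m) := by nlinarith
      have h12 : 2 * (m * h) < c := by
        have : 2 * (m * h) * t < c * t := by nlinarith
        exact lt_of_mul_lt_mul_right this (by omega)
      have h13 : h * (c + m) ≤ m * h * (c + 1) := by
        have := mul_nonneg (mul_nonneg h5.le hpos.le) (by omega : 0 ≤ m - 1)
        nlinarith
      nlinarith

/-- The final numerical contradiction. -/
theorem num_final {p e t n z a b ε W A : ℤ} (hp : Prime p) (he : 2 ≤ e) (ht : 3 ≤ t)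
    (hpe : p = e * t + 1) (hε : ε = 1 ∨ ε = -1) (ha : 0 ≤ a) (hb : 0 ≤ b) (hb' : 0 ≤ b + ε)
    (hz : z = a + e * (t * b + ε)) (hab : (a - b) ^ 2 ≤ e) (hd : z ∣ e * (n * p + 1) * p)
    (hW : z * W = 1 + (n * p + 1) * A) : ε = 1 ∧ a = 0 ∧ b = 0 := by
  have hp0 : 0 < p := by nlinarith
  have hcop1 : IsCoprime z (n * p + 1) := ⟨W, -A, by linarith⟩
  have hcop : IsCoprime z p := by
    have h1 : z = e * (t * (b - a) + ε) + a * p := by rw [hz, hpe]; ring
    rw [h1, IsCoprime.add_mul_right_left_iff]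
    refine (hp.irreducible.coprime_iff_not_dvd.mpr ?_).symm
    intro h
    rcases hp.dvd_or_dvd h with h | h
    · have := Int.le_of_dvd (by omega) h
      nlinarith
    · have h2 : |b - a| ≤ e - 1 := by
        have h3 : |b - a| ^ 2 ≤ e := by rw [sq_abs]; linarith
        by_contra h4
        push Not at h4
        nlinarith [abs_nonneg (b - a)]
      have h3 : t * (b - a) + ε ≠ 0 := by
        intro h4
        have : t ∣ ε := ⟨a - b, by linarith⟩
        rcases hε with rfl | rfl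
        · have := Int.le_of_dvd one_pos this; omega
        · have := Int.le_of_dvd one_pos ((Int.dvd_neg).mp this); omega
      have h4 := Int.le_of_dvd (abs_pos.mpr h3) ((dvd_abs _ _).mpr h)
      have h5 : |t * (b - a) + ε| ≤ t * |b - a| + 1 := by
        refine (abs_add_le _ _).trans ?_
        rw [abs_mul, abs_of_nonneg (by omega : 0 ≤ t)]
        rcases hε with rfl | rfl <;> simp
      nlinarith
  have h1 : z ∣ e := hcop1.dvd_of_dvd_mul_right (hcop.dvd_of_dvd_mul_right hd)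
  have h2 : z ≤ e := Int.le_of_dvd (by omega) h1
  rcases hε with rfl | rfl
  · have h3 : 0 ≤ e * (t * b) := by positivity
    have h4 : e * (t * b) = 0 := by nlinarith
    have h5 : b = 0 := by
      rcases mul_eq_zero.mp h4 with h | h
      · omega
      · rcases mul_eq_zero.mp h with h | h <;> omega
    refine ⟨rfl, by nlinarith, h5⟩
  · exfalso
    have : 2 ≤ t * b + -1 := by nlinarith
    nlinarith

variable {G : Type*} [Group G] [Fintype G] {p : ℕ}

theorem sum_eq_index_mul {u : G} {F : G → ℂ} (h0 : ∀ g, (∀ z, z * u * z⁻¹ ≠ g) → F g = 0)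
    (hc : ∀ z, F (z * u * z⁻¹) = F u) :
    ∑ g, F g = (centralizer ({u} : Set G)).index * F u := by
  classical
  have h1 : ∀ g, F g = (if IsConj u g then (1 : ℂ) else 0) * F u := by
    intro g
    split_ifs with hx
    · obtain ⟨y, rfl⟩ := isConj_iff.mp hx
      rw [hc, one_mul]
    · rw [zero_mul]
      exact h0 g fun z hz => hx (isConj_iff.mpr ⟨z, hz⟩)
  rw [Finset.sum_congr rfl fun g _ => h1 g, ← Finset.sum_mul, Finset.sum_boole]
  congr 2
  rw [index_centralizer_eq_ncard_isConj, ← Set.ncard_coe_finset]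
  congr 1
  ext x
  simp

/-- The principal block part of a class function supported on `p`-elements. -/
theorem projB_apply_pelt (hp : p.Prime) {φ : G → ℂ} (hφ : φ ∈ CF (⊤ : Subgroup G))
    (hs : ∀ g, φ g ≠ 0 → ∃ k, g ^ p ^ k = 1) {u : G} {k : ℕ} (hu : u ^ p ^ k = 1) :
    projB (B0 p ⊤) φ u =
      kerB (B0 p ⊤) u u / Nat.card (centralizer ({u} : Set G)) * φ u := by
  rw [projB_eq_sum]
  have he : elems ((⊤ : Subgroup G) : Set G) = Finset.univ := by ext; simp
  rw [he, sum_eq_index_mul (u := u)]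
  · have h1 := (centralizer ({u} : Set G)).card_mul_index
    have h2 : (Nat.card (⊤ : Subgroup G) : ℂ) =
        Nat.card (centralizer ({u} : Set G)) * (centralizer ({u} : Set G)).index := by
      rw [card_top, ← h1]; push_cast; ring
    have h3 : ((centralizer ({u} : Set G)).index : ℂ) ≠ 0 := by
      exact_mod_cast index_ne_zero_of_finite
    have h4 := card_ne_zero (centralizer ({u} : Set G))
    rw [h2]; field_simp
  · intro g hg
    by_cases h : φ g = 0
    · rw [h, zero_mul]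
    obtain ⟨k', hk'⟩ := hs g h
    have := K0_eq_zero_of_not_conj (L := ⊤) (y := 1) (y' := 1) hp hu (mem_top _) (mem_top _)
      (by simp) (by simp) hk' (by simp) (by simp) (fun z _ hz => hg z⁻¹ (by rw [← hz]; group))
    rw [mul_one, mul_one] at this
    rw [this, mul_zero]
  · intro z
    rw [CF_conj hφ (mem_top _), kerB_conj_right _ _ (mem_top _)]

section Setup

variable {P : Subgroup G}

theorem eq_zpowers (hp : p.Prime) (hP : Nat.card P = p) {u : G} (hu : u ∈ P) (h1 : u ≠ 1) :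
    zpowers u = P := by
  rcases eq_bot_or_eq_of_prime (hP ▸ hp) (zpowers_le.mpr hu) with h | h
  · exact absurd (zpowers_eq_bot.mp h) h1
  · exact h

theorem cent_eq (hp : p.Prime) (hP : Nat.card P = p) {u : G} (hu : u ∈ P) (h1 : u ≠ 1) :
    centralizer ({u} : Set G) = centralizer (P : Set G) := by
  rw [← eq_zpowers hp hP hu h1, zpowers_eq_closure, centralizer_closure]

omit [Fintype G] in
theorem pow_eq_one (hP : Nat.card P = p) {u : G} (hu : u ∈ P) : u ^ p ^ 1 = 1 := by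
  rw [pow_one, ← hP]
  exact congrArg Subtype.val (pow_card_eq_one' (x := (⟨u, hu⟩ : P)))

theorem comm_P (hp : p.Prime) (hP : Nat.card P = p) : ∀ x ∈ P, ∀ y ∈ P, x * y = y * x :=
  have := Fact.mk hp
  comm_of_isCyclic (isCyclic_of_prime_card hP)

theorem le_cent (hp : p.Prime) (hP : Nat.card P = p) : P ≤ centralizer (P : Set G) :=
  fun x hx y hy => comm_P hp hP y hy x hx

theorem normedTI (hp : p.Prime) (hP : Nat.card P = p) :
    NormedTI (sharp P) ⊤ (normalizer (P : Set G)) where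
  nonempty := by
    have : P ≠ ⊥ := by rintro rfl; exact hp.one_lt.ne (by simpa using hP)
    obtain ⟨⟨x, hx⟩, h1⟩ := ne_bot_iff_exists_ne_one.mp this
    exact ⟨x, mem_sharp.mpr ⟨hx, fun h => h1 (Subtype.ext h)⟩⟩
  le := le_top
  conj_mem := sharp_conj le_rfl
  ti := by
    intro g _ a ha hga
    obtain ⟨ha, ha1⟩ := mem_sharp.mp ha
    have hga := (mem_sharp.mp hga).1
    refine mem_normalizer_fintype fun y hy => ?_
    rw [← eq_zpowers hp hP ha ha1] at hy
    obtain ⟨k, rfl⟩ := hy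
    simp only [← conj_zpow]
    exact P.zpow_mem hga k

theorem kerB_self (hp : p.Prime) (hP : Nat.card P = p) (hi : ¬ p ∣ P.index) {u : G} (hu : u ∈ P)
    (h1 : u ≠ 1) : kerB (B0 p ⊤) u u = p := by
  classical
  have := Fact.mk hp
  have h := K0_cent (L := ⊤) (y := 1) (y' := 1) hp (pow_eq_one hP hu) (mem_top _) (mem_top _)
    (by simp) (by simp) (mem_top _) (by simp) (by simp)
  rw [mul_one, top_inf_eq, cent_eq hp hP hu h1] at h
  rw [h]
  generalize hC : centralizer (P : Set G) = C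
  have hPC : P ≤ C := hC ▸ le_cent hp hP
  have hPi : ¬ p ∣ P.relIndex C := fun hd => hi (hd.trans (relIndex_dvd_index_of_le hPC))
  have hPc : Nat.card (P.subgroupOf C) = p ^ 1 := by
    rw [pow_one, ← hP]; exact Nat.card_congr (subgroupOfEquivOfLe hPC).toEquiv
  let Q : Sylow p C := (IsPGroup.of_card hPc).toSylow hPi
  have hnpc : HasNormalPComplement p C := PCompl.hnpc_of_sylow_le_center Q (by
    intro x hx
    refine mem_center_iff.mpr fun y => Subtype.ext ?_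
    have hy : (y : G) ∈ centralizer (P : Set G) := hC ▸ y.2
    exact (hy x hx).symm)
  set V := (pResidual p C).map C.subtype with hV
  have hVC : V ≤ C := map_subtype_le _
  have hVs : V.subgroupOf C = pResidual p C := by
    rw [hV, subgroupOf, comap_map_eq_self_of_injective C.subtype_injective]
  have hn : C ≤ normalizer (V : Set G) := by
    have : (V.subgroupOf C).Normal := by rw [hVs]; exact PRes.pResidual_normal
    exact le_normalizer_of_normal_subgroupOf hVC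
  have hreg : regSet p C = V := by
    ext x
    rw [mem_regSet, SetLike.mem_coe]
    constructor
    · rintro ⟨hx, ho⟩
      exact ⟨⟨x, hx⟩, (PCompl.hnpc_mem_pResidual_iff hnpc).mpr (by rwa [orderOf_mk]), rfl⟩
    · rintro ⟨y, hy, rfl⟩
      exact ⟨y.2, by simpa using (PCompl.hnpc_mem_pResidual_iff hnpc).mp hy⟩
  have hB : B0 p C = Finset.univ.filter (fun χ : Irr C => V ≤ cfker C χ) := by
    ext χ; simp [mem_B0_iff_of_regSet_eq hn hreg]
  rw [kerB, hB, Finset.sum_congr rfl fun χ _ => by rw [χ.isChar.conj_one, ← sq],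
    sum_irr_ker_sq hVC hn, relIndex, hVs, (PCompl.hnpc_isComplement' hnpc Q).symm.index_eq_card]
  exact_mod_cast hPc.trans (pow_one p)

/-- The map `f ↦ (f^G)_{B_0}`. -/
noncomputable def tau (p : ℕ) (P : Subgroup G) : CFMap G where
  toFun f := projB (B0 p ⊤) (cfInd P ⊤ f)
  map_add' f g := by rw [map_add, projB_add]
  map_smul' c f := by rw [map_smul, projB_smul]; rfl

theorem cfdot_tau (f : G → ℂ) (χ : Irr (⊤ : Subgroup G)) :
    cfdot ⊤ (tau p P f) χ = if χ ∈ B0 p ⊤ then cfdot P f χ else 0 := by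
  change cfdot ⊤ (projB (B0 p ⊤) (cfInd P ⊤ f)) χ = _
  rw [cfdot_projB, cfdot_cfInd_left le_top χ.mem_CF]

theorem tau_mem_CF (f : G → ℂ) : tau p P f ∈ CF (⊤ : Subgroup G) := projB_mem_CF

theorem tau_eq (f : G → ℂ) : tau p P f = ∑ χ ∈ B0 p ⊤, cfdot P f χ • (χ : G → ℂ) :=
  Finset.sum_congr rfl fun χ _ => by rw [cfdot_cfInd_left le_top χ.mem_CF]

theorem tau_mem_ZIrr {f : G → ℂ} (hf : f ∈ ZIrr P) : tau p P f ∈ ZIrr (⊤ : Subgroup G) := by
  refine mem_ZIrr_of_cfdot_int (tau_mem_CF f) fun χ hχ => ?_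
  obtain ⟨i, rfl⟩ : ∃ i : Irr ⊤, (i : G → ℂ) = χ := ⟨⟨χ, hχ⟩, rfl⟩
  rw [cfdot_tau]
  split_ifs
  · rw [← cfdot_cfRes_right]; exact ZIrr_cfdot_int hf (ZIrr_cfRes le_top i.mem_ZIrr)
  · exact ⟨0, by simp⟩

theorem supp_cfInd (hP : Nat.card P = p) (f : G → ℂ) (g : G) (hg : cfInd P ⊤ f g ≠ 0) :
    ∃ k, g ^ p ^ k = 1 := by
  by_contra h
  refine hg (cfInd_eq_zero fun x _ hx => absurd ⟨1, ?_⟩ h)
  have := pow_eq_one hP hx
  rwa [conj_pow, conj_eq_one_iff] at this

theorem tau_one (hp : p.Prime) (hP : Nat.card P = p) {f : G → ℂ} (h1 : f 1 = 0) :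
    tau p P f 1 = 0 := by
  change projB (B0 p ⊤) (cfInd P ⊤ f) 1 = _
  rw [projB_apply_pelt hp cfInd_mem_CF (supp_cfInd hP f) (k := 0) (one_pow _), cfInd_one le_top, h1]
  simp

theorem cfdot_tau_tau (hp : p.Prime) (hP : Nat.card P = p) (hi : ¬ p ∣ P.index) {f f' : G → ℂ}
    (h1 : f 1 = 0) (h1' : f' 1 = 0) :
    (P.relIndex (centralizer (P : Set G)) : ℂ) * cfdot ⊤ (tau p P f) (tau p P f') =
      cfdot (normalizer (P : Set G)) (cfInd P (normalizer (P : Set G)) f)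
        (cfInd P (normalizer (P : Set G)) f') := by
  have hidem : projB (B0 p ⊤) (tau p P f) = tau p P f := by
    refine CF_ext projB_mem_CF (tau_mem_CF f) fun χ hχ => ?_
    obtain ⟨i, rfl⟩ : ∃ i : Irr ⊤, (i : G → ℂ) = χ := ⟨⟨χ, hχ⟩, rfl⟩
    rw [cfdot_projB]
    split_ifs with h
    · rfl
    · rw [cfdot_tau, if_neg h]
  have hon : ∀ f : G → ℂ, f 1 = 0 → cfInd P (normalizer (P : Set G)) f ∈
      CFon (normalizer (P : Set G)) (sharp P) := fun f hf =>
    mem_CFon_sharp.mpr ⟨cfInd_normal_mem_CFon le_rfl, by rw [cfInd_one le_normalizer, hf, mul_zero]⟩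
  rw [← normedTI_isometry (normedTI hp hP) (hon f h1) (hon f' h1'),
    cfInd_cfInd le_normalizer le_top, cfInd_cfInd le_normalizer le_top]
  have e1 : cfdot ⊤ (tau p P f) (tau p P f') = cfdot P (tau p P f) f' := by
    change cfdot ⊤ (tau p P f) (projB (B0 p ⊤) (cfInd P ⊤ f')) = _
    rw [← cfdot_projB_comm, hidem, cfdot_cfInd_right le_top (tau_mem_CF f)]
  rw [e1, cfdot_cfInd_right le_top cfInd_mem_CF, ← cfdot_smul_left]
  refine cfdot_congr (fun u hu => ?_) fun _ _ => rfl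
  by_cases hu1 : u = 1
  · rw [hu1, Pi.smul_apply, tau_one hp hP h1, cfInd_one le_top, h1]; simp
  · change _ * projB (B0 p ⊤) (cfInd P ⊤ f) u = _
    rw [projB_apply_pelt hp cfInd_mem_CF (supp_cfInd hP f) (pow_eq_one hP hu),
      kerB_self hp hP hi hu hu1, cent_eq hp hP hu hu1,
      card_cast_eq_relIndex_mul (le_cent hp hP), hP]
    have := relIndex_cast_ne_zero P (centralizer (P : Set G))
    have : (p : ℂ) ≠ 0 := by exact_mod_cast hp.ne_zero
    field_simp

theorem inertia_eq (hp : p.Prime) (hP : Nat.card P = p) {θ : G → ℂ} (hθ : IsIrr P θ)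
    (h1 : θ ≠ cf1 P) : normalizer (P : Set G) ⊓ inertia θ = centralizer (P : Set G) := by
  have hl := hθ.isLin_of_comm (comm_P hp hP)
  apply le_antisymm
  · rintro g ⟨hg, hi⟩ y hy
    have hy' : g * y * g⁻¹ ∈ P := (norm_conj_mem hg).mpr hy
    have : g * y * g⁻¹ * y⁻¹ ∈ cfker P θ := by
      refine hθ.isChar.mem_cfker.mpr ⟨P.mul_mem hy' (P.inv_mem hy), ?_⟩
      rw [hl.map_mul hy' (P.inv_mem hy), mem_inertia.mp hi, ← hl.map_mul hy (P.inv_mem hy),
        mul_inv_cancel]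
    rw [hθ.cfker_eq_bot_of_prime (hP ▸ hp) h1, mem_bot] at this
    calc y * g = (g * y * g⁻¹ * y⁻¹)⁻¹ * g * y := by group
      _ = g * y := by rw [this]; group
  · intro g hg
    refine ⟨centralizer_le_normalizer _ hg, mem_inertia.mpr fun y => ?_⟩
    by_cases hy : y ∈ P
    · rw [← hg y hy]; simp
    · rw [CF_zero hθ.mem_CF hy,
        CF_zero hθ.mem_CF fun h => hy ((norm_conj_mem (centralizer_le_normalizer _ hg)).mp h)]

/-- Multiplicity of `θ` in the restriction of `χ`. -/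
noncomputable def mult (P : Subgroup G) (χ θ : G → ℂ) : ℤ := ⌊(cfdot P θ χ).re⌋

theorem mult_spec (χ : Irr (⊤ : Subgroup G)) {θ : G → ℂ} (hθ : IsIrr P θ) :
    cfdot P θ χ = mult P χ θ ∧ 0 ≤ mult P χ θ := by
  obtain ⟨n, hn⟩ := hθ.isChar.cfdot_nat (χ.isChar.cfRes le_top)
  rw [cfdot_cfRes_right] at hn
  simp [mult, hn]

theorem mult_spec' (χ : Irr (⊤ : Subgroup G)) {θ : G → ℂ} (hθ : IsIrr P θ) :
    cfdot P χ θ = mult P χ θ := by
  rw [← cfdot_conj, (mult_spec χ hθ).1, map_intCast]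

theorem mult_cfclass (χ : Irr (⊤ : Subgroup G)) {θ φ : G → ℂ}
    (h : φ ∈ cfclass (normalizer (P : Set G)) θ) : mult P χ φ = mult P χ θ := by
  obtain ⟨x, hx, rfl⟩ := mem_cfclass.mp h
  rw [mult, mult, ← cfdot_cfConjg (φ := θ) hx, cfConjg_of_mem χ.mem_CF (mem_top x)]

theorem cfRes_eq_sum (χ : Irr (⊤ : Subgroup G)) :
    cfRes P χ = ∑ μ : Irr P, (mult P χ μ : ℂ) • (μ : G → ℂ) := by
  rw [cfun_sum_cfdot (cfRes_mem_CF (H := P) le_top χ.mem_CF)]
  exact Finset.sum_congr rfl fun μ _ => by rw [cfdot_cfRes_left, mult_spec' χ μ.irr]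

theorem degree_eq_sum (hp : p.Prime) (hP : Nat.card P = p) (χ : Irr (⊤ : Subgroup G)) :
    χ 1 = ((∑ μ : Irr P, mult P χ μ : ℤ) : ℂ) := by
  have := congrFun (cfRes_eq_sum (P := P) χ) 1
  rw [cfRes_apply P.one_mem, Finset.sum_apply] at this
  rw [this, Int.cast_sum]
  exact Finset.sum_congr rfl fun μ _ => by
    rw [Pi.smul_apply, (μ.irr.isLin_of_comm (comm_P hp hP)).one, smul_eq_mul, mul_one]

theorem degree_dvd (hp : p.Prime) (hP : Nat.card P = p) (χ : Irr (⊤ : Subgroup G)) {θ : G → ℂ}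
    (hθ : IsIrr P θ) {z : ℤ} (hz : χ 1 = z) :
    z ∣ (centralizer (P : Set G)).index * p * mult P χ θ := by
  have hz0 : (z : ℂ) ≠ 0 := hz ▸ χ.irr.one_ne_zero
  have h1 : ∀ u ∈ P, IsIntegral ℤ (((centralizer (P : Set G)).index : ℂ) * χ u / χ 1) := by
    intro u hu
    by_cases hu1 : u = 1
    · rw [hu1, mul_div_assoc, div_self χ.irr.one_ne_zero, mul_one]; exact isIntegral_natCast _
    · rw [← cent_eq hp hP hu hu1]
      exact (isIrr_top.mp χ.irr).isIntegral_index_mul_div u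
  have h2 : IsIntegral ℤ (∑ u ∈ elems (P : Set G),
      ((centralizer (P : Set G)).index : ℂ) * χ u / χ 1 * conj (θ u)) :=
    IsIntegral.sum _ fun u hu => (h1 u (mem_elems.mp hu)).mul (by
      rw [← hθ.isChar.inv]; exact hθ.isChar.isIntegral _)
  have h3 : ∑ u ∈ elems (P : Set G), ((centralizer (P : Set G)).index : ℂ) * χ u / χ 1 * conj (θ u)
      = (((centralizer (P : Set G)).index * p * mult P χ θ : ℤ) : ℂ) / z := by
    have := mult_spec' χ hθ
    rw [cfdot, hP] at this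
    have hp0 : (p : ℂ) ≠ 0 := by exact_mod_cast hp.ne_zero
    push_cast
    rw [← this, hz, mul_assoc, mul_inv_cancel_left₀ hp0, Finset.mul_sum, Finset.sum_div]
    exact Finset.sum_congr rfl fun u _ => by ring
  obtain ⟨n, hn⟩ := int_of_isIntegral_of_rat h2
    ((((centralizer (P : Set G)).index * p * mult P χ θ : ℤ) : ℚ) / z) (by rw [h3]; push_cast; rfl)
  rw [h3, div_eq_iff hz0] at hn
  exact ⟨n, by exact_mod_cast hn.trans (mul_comm _ _)⟩

theorem exists_transversal (hp : p.Prime) (hP : Nat.card P = p) :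
    ∃ S : Finset (G → ℂ), (∀ ξ ∈ S, IsIrr P ξ ∧ ξ ≠ cf1 P) ∧
      (∀ ξ ∈ S, ∀ η ∈ S, η ∈ cfclass (normalizer (P : Set G)) ξ → η = ξ) ∧
      (∀ μ, IsIrr P μ → μ ≠ cf1 P → ∃ ξ ∈ S, μ ∈ cfclass (normalizer (P : Set G)) ξ) ∧
      ∀ g : (G → ℂ) → ℤ, (∀ ξ, ∀ η ∈ cfclass (normalizer (P : Set G)) ξ, g η = g ξ) →
        ∑ μ : Irr P, g μ = g (cf1 P) +
          (centralizer (P : Set G)).relIndex (normalizer (P : Set G)) * ∑ ξ ∈ S, g ξ := by
  classical
  let r : Finset (G → ℂ) → G → ℂ := fun T => if h : T.Nonempty then h.choose else 0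
  let rep : (G → ℂ) → G → ℂ := fun μ => r (cfclass (normalizer (P : Set G)) μ)
  have hrep : ∀ μ, rep μ ∈ cfclass (normalizer (P : Set G)) μ := fun μ => by
    have h : (cfclass (normalizer (P : Set G)) μ).Nonempty := ⟨μ, self_mem_cfclass⟩
    simp only [rep, r, dif_pos h]
    exact h.choose_spec
  have hrep' : ∀ μ ν, ν ∈ cfclass (normalizer (P : Set G)) μ → rep ν = rep μ := fun μ ν h => by
    simp only [rep, cfclass_eq_of_mem h]
  have hne : ∀ μ ν, ν ∈ cfclass (normalizer (P : Set G)) μ → μ ≠ cf1 P → ν ≠ cf1 P := by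
    rintro μ ν h h1 rfl
    obtain ⟨x, hx, he⟩ := mem_cfclass.mp (mem_cfclass_comm.mp h)
    exact h1 (by rw [← he, cfConjg_cf1 hx])
  let I : Finset (G → ℂ) := (Finset.univ.erase (1 : Irr P)).image fun μ : Irr P => (μ : G → ℂ)
  have hI : ∀ μ, μ ∈ I ↔ IsIrr P μ ∧ μ ≠ cf1 P := fun μ => by
    simp only [I, Finset.mem_image, Finset.mem_erase, Finset.mem_univ, and_true]
    constructor
    · rintro ⟨ν, h1, rfl⟩
      exact ⟨ν.irr, fun h => h1 (Irr.ext h)⟩
    · rintro ⟨h, h1⟩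
      exact ⟨⟨μ, h⟩, fun h' => h1 (congrArg Subtype.val h'), rfl⟩
  have hIc : ∀ μ ∈ I, ∀ ν ∈ cfclass (normalizer (P : Set G)) μ, ν ∈ I := fun μ hμ ν hν =>
    (hI ν).mpr ⟨((hI μ).mp hμ).1.of_mem_cfclass le_rfl hν, hne μ ν hν ((hI μ).mp hμ).2⟩
  refine ⟨I.image rep, fun ξ hξ => ?_, fun ξ hξ η hη h => ?_, fun μ hμ h1 => ?_, fun g hg => ?_⟩
  · obtain ⟨μ, hμ, rfl⟩ := Finset.mem_image.mp hξ
    exact (hI _).mp (hIc μ hμ _ (hrep μ))
  · obtain ⟨μ, -, rfl⟩ := Finset.mem_image.mp hξ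
    obtain ⟨ν, -, rfl⟩ := Finset.mem_image.mp hη
    rw [← hrep' _ _ (hrep ν), hrep' _ _ h, hrep' _ _ (hrep μ)]
  · exact ⟨rep μ, Finset.mem_image_of_mem _ ((hI μ).mpr ⟨hμ, h1⟩),
      mem_cfclass_comm.mp (hrep μ)⟩
  · rw [← Finset.add_sum_erase _ _ (Finset.mem_univ (1 : Irr P))]
    congr 1
    rw [← Finset.sum_image (s := Finset.univ.erase (1 : Irr P)) (g := fun μ : Irr P => (μ : G → ℂ))
      (f := g) fun _ _ _ _ h => Irr.ext h]
    change ∑ μ ∈ I, g μ = _
    rw [← Finset.sum_fiberwise_of_maps_to (g := rep) (t := I.image rep)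
      fun μ hμ => Finset.mem_image_of_mem _ hμ, Finset.mul_sum]
    refine Finset.sum_congr rfl fun ξ hξ => ?_
    obtain ⟨μ, hμ, rfl⟩ := Finset.mem_image.mp hξ
    have hf : I.filter (fun ν => rep ν = rep μ) = cfclass (normalizer (P : Set G)) μ := by
      ext ν
      rw [Finset.mem_filter]
      refine ⟨fun h => ?_, fun h => ⟨hIc μ hμ ν h, hrep' _ _ h⟩⟩
      rw [← cfclass_eq_of_mem (hrep μ), ← h.2, cfclass_eq_of_mem (hrep ν)]
      exact self_mem_cfclass
    rw [hf, Finset.sum_congr rfl fun ν hν => (hg μ ν hν).trans (hg μ _ (hrep μ)).symm,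
      Finset.sum_const, card_cfclass, nsmul_eq_mul, ← inf_relIndex_right, inf_comm,
      inertia_eq hp hP ((hI μ).mp hμ).1 ((hI μ).mp hμ).2]

theorem core (hp : p.Prime) (hP : Nat.card P = p) (hi : ¬ p ∣ P.index)
    (hs : ∀ K : Subgroup G, K.Normal → P ≤ K → K = ⊤) {n : ℕ} (hn : 1 ≤ n)
    (hN : (normalizer (P : Set G)).index = n * p + 1)
    (he : 2 ≤ (centralizer (P : Set G)).relIndex (normalizer (P : Set G))) :
    (p : ℤ) ^ 2 - 1 ≤ 2 * (centralizer (P : Set G)).index := by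
  classical
  by_contra hlt
  push Not at hlt
  obtain ⟨S, hS, hS2, hS3, hsum⟩ := exists_transversal hp hP
  have hCN : centralizer (P : Set G) ≤ normalizer (P : Set G) := centralizer_le_normalizer _
  have hq : ((centralizer (P : Set G)).index : ℤ) =
      (centralizer (P : Set G)).relIndex (normalizer (P : Set G)) * (n * p + 1) := by
    rw [← relIndex_mul_index hCN, hN]; push_cast; ring
  have hcc := relIndex_mul_relIndex P _ _ (le_cent hp hP) hCN
  have hc0 := relIndex_cast_ne_zero P (centralizer (P : Set G))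
  have htt := fun f f' => cfdot_tau_tau (f := f) (f' := f') hp hP hi
  have hinert := fun θ => inertia_eq (θ := θ) hp hP
  have hdvd := fun χ θ => degree_dvd (θ := θ) hp hP χ
  generalize centralizer (P : Set G) = C at *
  obtain ⟨e, he'⟩ : ∃ e : ℕ, C.relIndex (normalizer (P : Set G)) = e := ⟨_, rfl⟩
  rw [he'] at hq hcc he hsum
  rw [hq] at hlt hdvd
  have hpZ : Prime (p : ℤ) := Nat.prime_iff_prime_int.mp hp
  have heZ : (2 : ℤ) ≤ e := by exact_mod_cast he
  have hnZ : (1 : ℤ) ≤ n := by exact_mod_cast hn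
  have hpe : (p : ℤ) = e * S.card + 1 := by
    have := hsum (fun _ => 1) (fun _ _ _ => rfl)
    simp only [Finset.sum_const, Finset.card_univ, card_irr_of_comm (comm_P hp hP), hP,
      nsmul_eq_mul, mul_one] at this
    linarith
  have ht : (3 : ℤ) ≤ S.card := by
    by_contra h
    have h1 : (S.card : ℤ) ≤ 2 := by omega
    have h2 : (p : ℤ) ≤ 2 * e + 1 := by nlinarith
    have h3 : (0 : ℤ) < p := by exact_mod_cast hp.pos
    have h4 : (e : ℤ) * (p + 1) ≤ e * (n * p + 1) :=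
      mul_le_mul_of_nonneg_left (by nlinarith) (by omega)
    nlinarith
  have hlin : ∀ ξ ∈ S, ξ 1 = 1 := fun ξ hξ => ((hS ξ hξ).1.isLin_of_comm (comm_P hp hP)).one
  -- inner products of induced characters
  have hII : ∀ ξ ∈ S, ∀ η ∈ S, cfdot (normalizer (P : Set G)) (cfInd P (normalizer (P : Set G)) ξ)
      (cfInd P (normalizer (P : Set G)) η) = P.relIndex C * cfdot P ξ η := by
    intro ξ hξ η hη
    rw [cfdot_Ind_irr le_normalizer le_rfl (hS ξ hξ).1 (hS η hη).1,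
      hinert ξ (hS ξ hξ).1 (hS ξ hξ).2, (hS ξ hξ).1.cfdot_eq (hS η hη).1]
    by_cases h : ξ = η
    · subst h; simp [self_mem_cfclass]
    · rw [if_neg h, if_neg fun h' => h (hS2 ξ hξ η hη h').symm, mul_zero]
  have hiso : ZIsom1 P ⊤ S (tau p P) := by
    refine ⟨fun φ hφ h1 ψ hψ h1' => mul_left_cancel₀ hc0 ?_, fun φ hφ _ =>
      tau_mem_ZIrr (zspan_le_ZIrr (fun ξ hξ => (hS ξ hξ).1.mem_ZIrr) hφ),
      fun φ _ h1 => tau_one hp hP h1⟩
    rw [htt φ ψ h1 h1']
    have := cfdot_map_zspan (L := P) (L' := normalizer (P : Set G)) (S := S) (T := S)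
      (τ := ((P.relIndex C : ℂ)⁻¹) • cfInd P (normalizer (P : Set G)))
      (τ' := cfInd P (normalizer (P : Set G))) (fun ξ hξ η hη => by
        rw [LinearMap.smul_apply, cfdot_smul_left, hII ξ hξ η hη, inv_mul_cancel_left₀ hc0]) hφ hψ
    rw [LinearMap.smul_apply, cfdot_smul_left] at this
    rw [← this, mul_inv_cancel_left₀ hc0]
  obtain ⟨μ, ε, hε, hμ, hμi, hμτ⟩ := vchar_isometry_base (fun ξ hξ => (hS ξ hξ).1)
    (by omega) (fun ξ hξ η hη => by rw [hlin ξ hξ, hlin η hη]) hiso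
  have hε0 : (ε : ℂ) ≠ 0 := by rcases hε with rfl | rfl <;> simp
  obtain ⟨ξ0, hξ0⟩ : S.Nonempty := Finset.card_pos.mp (by omega)
  have hne : ∀ ξ ∈ S, ∃ η ∈ S, η ≠ ξ := fun ξ _ => Finset.exists_mem_ne (by omega) ξ
  -- the coefficients of `τ(1 - ξ0)`
  let c : Irr (⊤ : Subgroup G) → ℤ := fun χ => mult P χ (cf1 P) - mult P χ ξ0
  have hc : ∀ χ : Irr (⊤ : Subgroup G), cfdot P (cf1 P - ξ0) χ = c χ := fun χ => by
    rw [cfdot_sub_left, (mult_spec χ (isIrr_cf1 P)).1, (mult_spec χ (hS _ hξ0).1).1]; simp [c]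
  have h10 : ∀ ξ ∈ S, (cf1 P - ξ) 1 = 0 := fun ξ hξ => by
    rw [Pi.sub_apply, cf1_apply P.one_mem, hlin ξ hξ, sub_self]
  let z : Irr (⊤ : Subgroup G) → ℤ := fun χ => ∑ ν : Irr P, mult P χ ν
  have hz : ∀ χ : Irr (⊤ : Subgroup G), χ 1 = z χ := fun χ => degree_eq_sum hp hP χ
  have hz' : ∀ χ : Irr (⊤ : Subgroup G), z χ = mult P χ (cf1 P) + e * ∑ ξ ∈ S, mult P χ ξ :=
    fun χ => hsum (mult P χ) fun _ _ h => mult_cfclass χ h
  have hA : ∑ χ ∈ B0 p ⊤, c χ * z χ = 0 := by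
    have := tau_one hp hP (h10 _ hξ0)
    rw [tau_eq, Finset.sum_apply] at this
    have h2 : ((∑ χ ∈ B0 p ⊤, c χ * z χ : ℤ) : ℂ) = 0 := by
      rw [← this, Int.cast_sum]
      exact Finset.sum_congr rfl fun χ _ => by rw [Pi.smul_apply, hc, hz]; simp
    exact_mod_cast h2
  have hB : ∀ ξ ∈ S, ∑ χ ∈ B0 p ⊤, (mult P χ (cf1 P) - mult P χ ξ) ^ 2 = e + 1 := by
    intro ξ hξ
    have h1 := htt _ _ (h10 ξ hξ) (h10 ξ hξ)
    have hn1 : cf1 P ∉ cfclass (normalizer (P : Set G)) ξ := fun h => by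
      obtain ⟨x, hx, he⟩ := mem_cfclass.mp (mem_cfclass_comm.mp h)
      exact (hS ξ hξ).2 (by rw [← he, cfConjg_cf1 hx])
    have hi1 : normalizer (P : Set G) ⊓ inertia (cf1 P) = normalizer (P : Set G) :=
      inf_eq_left.mpr fun x hx => mem_inertia_cf1 hx
    rw [map_sub (cfInd P _), cfdot_sub_left, cfdot_sub_right, cfdot_sub_right, hII ξ hξ ξ hξ,
      cfdot_Ind_irr le_normalizer le_rfl (isIrr_cf1 P) (isIrr_cf1 P),
      cfdot_Ind_irr le_normalizer le_rfl (hS ξ hξ).1 (isIrr_cf1 P),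
      cfdot_Ind_irr le_normalizer le_rfl (isIrr_cf1 P) (hS ξ hξ).1, if_pos self_mem_cfclass,
      if_neg hn1, if_neg (fun h => hn1 (mem_cfclass_comm.mp h)), hi1, ← hcc,
      (hS ξ hξ).1.cfdot_self, cfdot_eq_sum_irr (tau_mem_CF _)] at h1
    have h2 : ∑ χ : Irr (⊤ : Subgroup G), cfdot ⊤ (tau p P (cf1 P - ξ)) χ *
        conj (cfdot ⊤ (tau p P (cf1 P - ξ)) χ) =
        ((∑ χ ∈ B0 p ⊤, (mult P χ (cf1 P) - mult P χ ξ) ^ 2 : ℤ) : ℂ) := by
      rw [Int.cast_sum, ← Finset.sum_subset (Finset.subset_univ (B0 p ⊤))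
        fun χ _ h => by rw [cfdot_tau, if_neg h, zero_mul]]
      refine Finset.sum_congr rfl fun χ h => ?_
      rw [cfdot_tau, if_pos h, cfdot_sub_left, (mult_spec χ (isIrr_cf1 P)).1,
        (mult_spec χ (hS _ hξ).1).1]
      simp [sq]
    rw [h2] at h1
    have h3 : ((∑ χ ∈ B0 p ⊤, (mult P χ (cf1 P) - mult P χ ξ) ^ 2 : ℤ) : ℂ) = ((e + 1 : ℤ) : ℂ) :=
      mul_left_cancel₀ hc0 (by rw [h1]; push_cast; ring)
    exact_mod_cast h3
  have hm1 : ∀ ξ ∈ S, mult P (1 : Irr (⊤ : Subgroup G)) ξ = 0 := fun ξ hξ => by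
    have := (mult_spec (1 : Irr (⊤ : Subgroup G)) (hS ξ hξ).1).1
    rw [← cfdot_cfRes_right] at this
    change cfdot P ξ (cfRes P (cf1 ⊤)) = _ at this
    rw [cfRes_cf1 le_top, (hS ξ hξ).1.cfdot_ne (isIrr_cf1 P) (hS ξ hξ).2] at this
    exact_mod_cast this.symm
  have hm1' : mult P (1 : Irr (⊤ : Subgroup G)) (cf1 P) = 1 := by
    have := (mult_spec (1 : Irr (⊤ : Subgroup G)) (isIrr_cf1 P)).1
    rw [← cfdot_cfRes_right] at this
    change cfdot P _ (cfRes P (cf1 ⊤)) = _ at this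
    rw [cfRes_cf1 le_top, cfdot_cf1] at this
    exact_mod_cast this.symm
  have hB' : ∀ ξ ∈ S, ∀ χ ∈ B0 p ⊤, χ ≠ 1 → (mult P χ (cf1 P) - mult P χ ξ) ^ 2 ≤ e := by
    intro ξ hξ χ hχ h1
    have h := hB ξ hξ
    rw [← Finset.add_sum_erase _ _ (one_mem_B0 hp), hm1 ξ hξ, hm1'] at h
    have := Finset.single_le_sum (f := fun χ : Irr (⊤ : Subgroup G) =>
      (mult P χ (cf1 P) - mult P χ ξ) ^ 2) (fun _ _ => sq_nonneg _)
      (Finset.mem_erase.mpr ⟨h1, hχ⟩)
    linarith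
  -- the exceptional characters
  have hdiff : ∀ χ : Irr (⊤ : Subgroup G), ∀ ξ ∈ S, ∀ η ∈ S,
      (if χ ∈ B0 p ⊤ then mult P χ ξ - mult P χ η else 0) =
        ε * ((if μ ξ = χ then 1 else 0) - if μ η = χ then 1 else 0) := by
    intro χ ξ hξ η hη
    have h := cfdot_tau (p := p) (P := P) (ξ - η) χ
    rw [hμτ ξ hξ η hη, cfdot_smul_left, cfdot_sub_left, cfdot_sub_left,
      (hμ ξ hξ).cfdot_eq χ.irr, (hμ η hη).cfdot_eq χ.irr, (mult_spec χ (hS _ hξ).1).1,
      (mult_spec χ (hS _ hη).1).1] at h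
    have h' : (((if χ ∈ B0 p ⊤ then mult P χ ξ - mult P χ η else 0 : ℤ)) : ℂ) =
        ((ε * ((if μ ξ = χ then 1 else 0) - if μ η = χ then 1 else 0) : ℤ) : ℂ) := by
      push_cast; exact h.symm
    exact_mod_cast h'
  have hεZ : ε ≠ 0 := by rcases hε with rfl | rfl <;> simp
  have hexc : ∀ χ : Irr (⊤ : Subgroup G), ∀ ξ ∈ S, μ ξ = χ → χ ∈ B0 p ⊤ ∧
      ∀ η ∈ S, η ≠ ξ → mult P χ ξ = mult P χ η + ε := by
    intro χ ξ hξ h
    have key : ∀ η ∈ S, η ≠ ξ → (if χ ∈ B0 p ⊤ then mult P χ ξ - mult P χ η else 0) = ε := by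
      intro η hη hne
      rw [hdiff χ ξ hξ η hη, if_pos h, if_neg fun h' => hne (hμi hη hξ (h'.trans h.symm))]
      ring
    obtain ⟨η, hη, hηξ⟩ := hne ξ hξ
    have hχ : χ ∈ B0 p ⊤ := by
      by_contra h'
      have := key η hη hηξ
      rw [if_neg h'] at this
      exact hεZ this.symm
    exact ⟨hχ, fun η hη hne => by have := key η hη hne; rw [if_pos hχ] at this; omega⟩
  have hdeg : ∀ ξ ∈ S, μ ξ 1 = μ ξ0 1 := fun ξ hξ => by
    have := tau_one (f := ξ - ξ0) hp hP (by rw [Pi.sub_apply, hlin ξ hξ, hlin _ hξ0, sub_self])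
    rw [hμτ ξ hξ _ hξ0, Pi.smul_apply, smul_eq_mul, mul_eq_zero, Pi.sub_apply] at this
    exact sub_eq_zero.mp (this.resolve_left hε0)
  let χ0 : Irr (⊤ : Subgroup G) := ⟨μ ξ0, hμ _ hξ0⟩
  let E := (B0 p ⊤).filter fun χ : Irr (⊤ : Subgroup G) => ∃ ξ ∈ S, μ ξ = χ
  let R := ((B0 p ⊤).filter fun χ : Irr (⊤ : Subgroup G) => ¬ ∃ ξ ∈ S, μ ξ = χ).erase 1
  have h1E : ¬ ∃ ξ ∈ S, μ ξ = (1 : Irr (⊤ : Subgroup G)) := by
    rintro ⟨ξ, hξ, h⟩
    obtain ⟨η, hη, hηξ⟩ := hne ξ hξ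
    have := (hexc 1 ξ hξ h).2 η hη hηξ
    rw [hm1 ξ hξ, hm1 η hη] at this
    exact hεZ (by omega)
  have hsplit : ∀ g : Irr (⊤ : Subgroup G) → ℤ,
      ∑ χ ∈ B0 p ⊤, g χ = ∑ χ ∈ E, g χ + (g 1 + ∑ χ ∈ R, g χ) := fun g => by
    rw [Finset.add_sum_erase _ _ (Finset.mem_filter.mpr ⟨one_mem_B0 hp, h1E⟩),
      Finset.sum_filter_add_sum_filter_not]
  have hzE : ∀ χ ∈ E, z χ = z χ0 := fun χ hχ => by
    obtain ⟨ξ, hξ, h⟩ := (Finset.mem_filter.mp hχ).2
    have := hdeg ξ hξ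
    rw [h, hz χ] at this
    exact_mod_cast this.trans (hz χ0)
  have hR : ∀ χ ∈ R, c χ * z χ = (n * p + 1) * c χ ^ 2 := by
    intro χ hχ
    obtain ⟨h1, hχ⟩ := Finset.mem_erase.mp hχ
    obtain ⟨hχ, hE⟩ := Finset.mem_filter.mp hχ
    by_cases hc0 : c χ = 0
    · rw [hc0]; ring
    have hconst : ∀ ξ ∈ S, mult P χ ξ = mult P χ ξ0 := fun ξ hξ => by
      have := hdiff χ ξ hξ _ hξ0
      rw [if_pos hχ, if_neg fun h => hE ⟨ξ, hξ, h⟩, if_neg fun h => hE ⟨_, hξ0, h⟩] at this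
      omega
    have hm : 1 ≤ mult P χ ξ0 := by
      by_contra hm
      have hm0 : mult P χ ξ0 = 0 := by have := (mult_spec χ (hS _ hξ0).1).2; omega
      have hall : ∀ ν : Irr P, ν ≠ 1 → mult P χ ν = 0 := fun ν hν => by
        obtain ⟨ξ, hξ, h⟩ := hS3 ν ν.irr fun h => hν (Irr.ext h)
        rw [mult_cfclass χ h, hconst ξ hξ, hm0]
      have hres := cfRes_eq_sum (P := P) χ
      rw [Finset.sum_eq_single 1 (fun ν _ hν => by rw [hall ν hν]; simp) (by simp)] at hres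
      have hk : P ≤ cfker ⊤ χ := (χ.isChar.le_cfker le_top).mpr fun x hx => by
        have e1 := congrFun hres x
        have e2 := congrFun hres 1
        rw [cfRes_apply hx] at e1
        rw [cfRes_apply P.one_mem] at e2
        rw [e1, e2]
        change (_ : ℂ) * cf1 P x = (_ : ℂ) * cf1 P 1
        rw [cf1_apply hx, cf1_apply P.one_mem]
      have hnorm : (cfker ⊤ (χ : G → ℂ)).Normal := ⟨fun x hx g =>
        χ.isChar.mem_cfker.mpr ⟨mem_top _, by
          rw [CF_conj χ.mem_CF (mem_top g), cfker_apply hx]⟩⟩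
      exact h1 ((Irr.eq_one_iff χ).mpr (hs _ hnorm hk).ge)
    have hzχ : z χ = c χ + mult P χ ξ0 * p := by
      rw [hz', Finset.sum_congr rfl hconst, Finset.sum_const, nsmul_eq_mul, hpe]; simp only [c]; ring
    have := num_const (t := S.card) hpZ heZ (by omega) hnZ hpe hlt hm
      (by simpa [c] using (mult_spec χ (isIrr_cf1 P)).2) hzχ hc0 (hB' _ hξ0 χ hχ h1)
      (by simp only [c, mul_sub]
          exact dvd_sub (hdvd χ _ (isIrr_cf1 P) (hz χ)) (hdvd χ _ (hS _ hξ0).1 (hz χ)))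
    rw [this]; ring
  have hc1 : c 1 = 1 := by simp only [c, hm1', hm1 _ hξ0]; ring
  have hz1 : z 1 = 1 := by rw [hz', hm1', Finset.sum_congr rfl hm1]; simp
  rw [hsplit, Finset.sum_congr rfl hR, Finset.sum_congr rfl fun χ hχ => by rw [hzE χ hχ], hc1, hz1,
    ← Finset.sum_mul, ← Finset.mul_sum] at hA
  have hE : ∀ χ : Irr (⊤ : Subgroup G), ∀ ξ ∈ S, μ ξ = χ → ε = 1 ∧ mult P χ (cf1 P) = 0 ∧
      (∀ η ∈ S, η ≠ ξ → mult P χ η = 0) ∧ z χ = e := by
    intro χ ξ hξ h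
    obtain ⟨hχ, hm⟩ := hexc χ ξ hξ h
    have h1 : χ ≠ 1 := by rintro rfl; exact h1E ⟨ξ, hξ, h⟩
    have hzχ : ∀ η ∈ S, η ≠ ξ → z χ = mult P χ (cf1 P) + e * (S.card * mult P χ η + ε) := by
      intro η hη hηξ
      rw [hz', ← Finset.add_sum_erase _ _ hξ, Finset.sum_congr rfl (g := fun _ => mult P χ η)
        fun ζ hζ => by
          have := hm ζ (Finset.mem_of_mem_erase hζ) (Finset.ne_of_mem_erase hζ)
          have := hm η hη hηξ
          omega, Finset.sum_const, Finset.card_erase_of_mem hξ, hm η hη hηξ, nsmul_eq_mul,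
        Nat.cast_sub (by omega)]
      push_cast; ring
    have key : ∀ η ∈ S, η ≠ ξ → ε = 1 ∧ mult P χ (cf1 P) = 0 ∧ mult P χ η = 0 := by
      intro η hη hηξ
      refine num_final (n := n) (W := -∑ χ ∈ E, c χ) (A := ∑ χ ∈ R, c χ ^ 2) hpZ heZ ht hpe hε
        (mult_spec χ (isIrr_cf1 P)).2 (mult_spec χ (hS _ hη).1).2
        (hm η hη hηξ ▸ (mult_spec χ (hS _ hξ).1).2) (hzχ η hη hηξ) (hB' η hη χ hχ h1) ?_ ?_
      · have h2 := dvd_sub (hdvd χ _ (hS _ hξ).1 (hz χ)) (hdvd χ _ (hS _ hη).1 (hz χ))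
        rw [← mul_sub, hm η hη hηξ, add_sub_cancel_left] at h2
        rcases hε with rfl | rfl
        · rwa [mul_one] at h2
        · rwa [mul_neg_one, dvd_neg] at h2
      · rw [hzE χ (Finset.mem_filter.mpr ⟨hχ, ξ, hξ, h⟩)]; linarith
    obtain ⟨η, hη, hηξ⟩ := hne ξ hξ
    obtain ⟨k1, k2, k3⟩ := key η hη hηξ
    exact ⟨k1, k2, fun η hη hηξ => (key η hη hηξ).2.2, by rw [hzχ η hη hηξ, k1, k2, k3]; ring⟩
  have hχ0 : χ0 ∈ E := Finset.mem_filter.mpr ⟨(hexc χ0 _ hξ0 rfl).1, _, hξ0, rfl⟩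
  have hcE : ∀ χ ∈ E, χ ≠ χ0 → c χ = 0 := fun χ hχ hne => by
    obtain ⟨ξ, hξ, h⟩ := (Finset.mem_filter.mp hχ).2
    obtain ⟨-, k2, k3, -⟩ := hE χ ξ hξ h
    simp only [c]
    rw [k2, k3 _ hξ0 fun h' => hne (Irr.ext (by rw [← h, ← h'])), sub_self]
  obtain ⟨k1, k2, k3, k4⟩ := hE χ0 _ hξ0 rfl
  have hc0' : c χ0 = -1 := by
    obtain ⟨η, hη, hηξ⟩ := hne _ hξ0
    simp only [c]
    rw [k2, (hexc χ0 _ hξ0 rfl).2 η hη hηξ, k3 η hη hηξ, k1]; ring
  have hB0 := hB _ hξ0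
  change ∑ χ ∈ B0 p ⊤, c χ ^ 2 = _ at hB0
  rw [hsplit, Finset.sum_eq_single_of_mem _ hχ0 fun χ hχ hne => by rw [hcE χ hχ hne]; ring,
    hc0', hc1] at hB0
  rw [Finset.sum_eq_single_of_mem _ hχ0 hcE, hc0', k4] at hA
  have h3 : (0 : ℤ) < p := by exact_mod_cast hp.pos
  have h4 : ∑ χ ∈ R, c χ ^ 2 = e - 1 := by linarith
  rw [h4] at hA
  have : (0 : ℤ) < n * p * (e - 1) := mul_pos (mul_pos (by omega) h3) (by omega)
  linarith

end Setup

end CfsgLib.Blk.D1
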