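import Cfsg.Agent.Lib.Blk.Alg

/-!
# Block theory kit, part 3: block orthogonality and Brauer's main theorems (algebra form)
-/

set_option autoImplicit false

namespace CfsgLib.Blk

open Cfsg Subgroup CfsgLib.FT
open scoped ComplexConjugate

variable {G : Type*} [Group G]

theorem exists_twist_group (x g : G) (Y : Set G) {p : ℕ} (hp : p ≠ 0)
    (h : ∀ a ∈ Y, ∀ m : ℤ, x ^ m * a = a * g ^ m → (p : ℤ) ∣ m) {ω : ℂ} (hω : ω ^ p = 1) :
    ∃ w : G → ℂ, (∀ a, w a ^ p = 1) ∧ ∀ a ∈ Y, w (x * a * g⁻¹) = ω * w a := by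
  have hc : Commute (Equiv.mulLeft x) (Equiv.mulRight g⁻¹) := by
    ext a; simp [mul_assoc]
  obtain ⟨w, hw, hw'⟩ := exists_twist (Equiv.mulLeft x * Equiv.mulRight g⁻¹) Y hp (fun a ha m hm => by
    rw [hc.mul_zpow, Equiv.zpow_mulLeft, Equiv.zpow_mulRight] at hm
    refine h a ha m ?_
    simp only [Equiv.Perm.coe_mul, Equiv.coe_mulLeft, Equiv.coe_mulRight, Function.comp_apply,
      inv_zpow] at hm
    rw [← mul_assoc, mul_inv_eq_iff_eq_mul] at hm
    exact hm) hω
  exact ⟨w, hw, fun a ha => by simpa [mul_assoc] using hw' a ha⟩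

theorem exists_root_ne_one {p : ℕ} (hp : p.Prime) : ∃ ω : ℂ, ω ^ p = 1 ∧ ω ≠ 1 :=
  ⟨_, (Complex.isPrimitiveRoot_exp p hp.ne_zero).pow_eq_one,
    (Complex.isPrimitiveRoot_exp p hp.ne_zero).ne_one hp.one_lt⟩

theorem commute_of_commute_zpow [Finite G] {p k : ℕ} (hp : p.Prime) {u y a : G}
    (hu : u ^ p ^ k = 1) (hy : (orderOf y).Coprime p) (huy : u * y = y * u) {m : ℤ}
    (hm : ¬ (p : ℤ) ∣ m) (h : (u * y) ^ m * a = a * (u * y) ^ m) : a * u = u * a := by
  have := Fintype.ofFinite G
  have hc : Commute u y := huy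
  have hou : orderOf u ∣ p ^ k := orderOf_dvd_of_pow_eq_one hu
  have h1 : Commute a ((u * y) ^ m.natAbs) := by
    have h0 : Commute a ((u * y) ^ m) := h.symm
    rcases Int.natAbs_eq m with e | e
    · rw [← zpow_natCast, ← e]; exact h0
    · have := h0.inv_right
      rwa [← zpow_neg, show -m = (m.natAbs : ℤ) by omega, zpow_natCast] at this
  rw [hc.mul_pow] at h1
  have hcop : (orderOf u).Coprime (orderOf y) :=
    Nat.Coprime.coprime_dvd_left hou (Nat.Coprime.pow_left _ hy.symm)
  have h2 : a * u ^ m.natAbs = u ^ m.natAbs * a :=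
    comm_of_comm_mul_of_coprime (hc.pow_pow _ _) ((hcop.coprime_dvd_left
      (orderOf_pow_dvd _)).coprime_dvd_right (orderOf_pow_dvd _)) h1
  have h3 : m.natAbs.Coprime (orderOf u) := by
    refine Nat.Coprime.coprime_dvd_right hou (Nat.Coprime.pow_right _ ?_)
    exact ((Nat.Prime.coprime_iff_not_dvd hp).mpr fun hd => hm (Int.natCast_dvd.mpr hd)).symm
  have h4 : u ∈ centralizer ({a} : Set G) :=
    mem_of_pow_mem_of_coprime h3 (mem_centralizer_singleton_iff.mpr h2.symm)
  exact (mem_centralizer_singleton_iff.mp h4).symm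

variable [Fintype G] {L C : Subgroup G} {a b e f φ χ ψ : G → ℂ}
variable {Γ : Type*} [LinearOrderedCommGroupWithZero Γ] {v : Valuation ℂ Γ} {p : ℕ}

/-- Block orthogonality for a central idempotent of the integral group algebra. -/
theorem sum_idempotent_eq_zero (hp : p.Prime) (hv : v p < 1) (he : e ∈ CF L)
    (hei : ∀ g, v (e g) ≤ 1) (hee : conv e e = e) {x g : G} (hx : x ∈ L)
    (hxp : (orderOf x).Coprime p) (hgp : p ∣ orderOf g) :
    ∑ z ∈ elems (L : Set G), e (x * (z * g⁻¹ * z⁻¹)) = 0 := by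
  classical
  obtain ⟨ω, hω, hω1⟩ := exists_root_ne_one hp
  obtain ⟨w, hw, hw'⟩ := exists_twist_group x g Set.univ hp.ne_zero (fun a _ m hm => by
    have h1 : g ^ (m * orderOf x) = 1 := by
      have : g ^ m = a⁻¹ * x ^ m * a := by rw [mul_assoc, hm]; group
      rw [zpow_mul, this, zpow_natCast]
      have h2 : (a⁻¹ * x ^ m * a) ^ orderOf x = a⁻¹ * (x ^ m) ^ orderOf x * a := by
        simpa using conj_pow (a := a⁻¹) (b := x ^ m) (i := orderOf x)
      rw [h2, ← zpow_natCast, ← zpow_mul, mul_comm m, zpow_mul, zpow_natCast, pow_orderOf_eq_one]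
      simp
    have h2 : (p : ℤ) ∣ m * orderOf x :=
      (Int.natCast_dvd_natCast.mpr hgp).trans (orderOf_dvd_iff_zpow_eq_one.mpr h1)
    exact (Nat.isCoprime_iff_coprime.mpr hxp.symm).dvd_of_dvd_mul_right h2) hω
  let P : Matrix G G ℂ := Matrix.of fun a b => if b = x * a * g⁻¹ then 1 else 0
  have hP : ∀ (M : Matrix G G ℂ) a c, (P * M) a c = M (x * a * g⁻¹) c := by
    intro M a c
    simp [P, Matrix.mul_apply]
  have hP' : ∀ (M : Matrix G G ℂ) a c, (M * P) a c = M a (x⁻¹ * c * g) := by
    intro M a c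
    rw [Matrix.mul_apply, Finset.sum_eq_single (x⁻¹ * c * g)]
    · simp [P, mul_assoc]
    · intro b _ hb
      have : c ≠ x * b * g⁻¹ := fun h => hb (by rw [h]; group)
      simp [P, this]
    · simp
  have key := trace_eq_zero (v := v) (P := P) (x := lm e) (D := Matrix.diagonal w)
    (N := Matrix.diagonal (cf1 L)) hω1 (by rw [lm_mul, hee]) ?_ ?_ ?_ ?_ ?_
  · rw [← key, Matrix.trace, sum_eq_sum_elems (A := L) fun z hz => by
      rw [Matrix.diag_apply, Matrix.mul_diagonal, cf1_apply_of_notMem hz, mul_zero]]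
    refine Finset.sum_congr rfl fun z hz => ?_
    rw [Matrix.diag_apply, Matrix.mul_diagonal, cf1_apply (by simpa using hz), mul_one, hP,
      lm_apply]
    simp only [mul_assoc]
  · ext a c
    rw [hP, hP', lm_apply, lm_apply, mul_assoc, mul_assoc, CF_mul_comm he hx]
    congr 1
    group
  · ext a c
    rw [hP, Matrix.smul_apply, Matrix.diagonal_mul, Matrix.diagonal_apply]
    by_cases h : c = x * a * g⁻¹
    · simp [P, h, hw' a trivial]
    · simp [P, h, Ne.symm h]
  · ext a c
    rw [Matrix.diagonal_mul, Matrix.mul_diagonal, lm_apply]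
    by_cases h : a * c⁻¹ ∈ L
    · by_cases ha : a ∈ L
      · have hc : c ∈ L := by simpa using L.mul_mem (L.inv_mem h) ha
        rw [cf1_apply ha, cf1_apply hc, mul_comm]
      · have hc : c ∉ L := fun hc => ha (by simpa using L.mul_mem h hc)
        rw [cf1_apply_of_notMem ha, cf1_apply_of_notMem hc, mul_comm]
    · simp [he.1 _ h]
  · rw [Matrix.diagonal_mul_diagonal, Matrix.diagonal_mul_diagonal]
    simp only [mul_comm]
  · intro i j
    have : lm e * Matrix.diagonal w * lm e - lm e =
        lm e * Matrix.diagonal (fun a => w a - 1) * lm e := by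
      rw [← Matrix.diagonal_sub, Matrix.diagonal_one, mul_sub, sub_mul, mul_one, lm_mul, hee]
    rw [this, Matrix.mul_apply]
    refine v.map_sum_lt one_ne_zero fun k _ => ?_
    rw [Matrix.mul_diagonal]
    exact val_mul_lt_left (val_mul_lt_right (hei _)
      (val_sub_one_lt (k := 1) hp hv (by simpa using hw k))) (hei _)

/-- The vanishing theorem behind Brauer's second main theorem. -/
theorem act_eq_zero (hp : p.Prime) (hv : v p < 1) {k : ℕ} {u y : G} (hu : u ^ p ^ k = 1)
    (hy : (orderOf y).Coprime p) (huy : u * y = y * u) (he : ∀ x, x ∉ L → e x = 0)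
    (hei : ∀ g, v (e g) ≤ 1) (hee : conv e e = e)
    (hinv : ∀ x, e (u * y * x) = e (x * (u * y))) (hsm : ∀ x, x * u = u * x → v (e x) < 1)
    (hφ : φ ∈ CF L) : act e φ (u * y) = 0 := by
  classical
  obtain ⟨ω, hω, hω1⟩ := exists_root_ne_one hp
  set g := u * y with hg
  have hug : u * g = g * u := by rw [hg, mul_assoc, ← huy]
  obtain ⟨w, hw, hw'⟩ := exists_twist_group g⁻¹ g⁻¹ {a | a * u ≠ u * a} hp.ne_zero
    (fun a ha m hm => by
      by_contra hd
      refine ha (commute_of_commute_zpow hp hu hy huy (m := -m) (by simpa using hd) ?_)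
      simpa using hm) hω
  let d : G → ℂ := fun a => if a * u = u * a then 0 else w a * e a
  let n : G → ℂ := fun a => φ a⁻¹
  have hn : n ∈ CF L := ⟨fun x hx => hφ.1 _ fun h => hx (by simpa using h), fun z hz x => by
    simp only [n]
    rw [← hφ.2 z hz x⁻¹]
    congr 1
    group⟩
  have hinv' : ∀ x, e (g⁻¹ * x) = e (x * g⁻¹) := fun x => by
    have := hinv (g⁻¹ * x * g⁻¹)
    simpa [mul_assoc] using this.symm
  have key := trace_eq_zero (v := v) (P := lm (delta g)) (x := lm e) (D := lm d)
    (N := lm n) hω1 (by rw [lm_mul, hee]) ?_ ?_ ?_ ?_ ?_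
  · rw [lm_mul, lm_mul, trace_lm, conv_assoc, conv_delta_left, conv_eq'] at key
    have key' := (mul_eq_zero.mp key).resolve_left (by simp)
    rw [← key', act]
    refine Finset.sum_congr rfl fun h _ => ?_
    simp [n]
  · rw [lm_mul, lm_mul]
    congr 1
    ext x
    rw [conv_delta_left, conv_delta_right, hinv']
  · rw [lm_mul, lm_mul, ← lm_smul]
    congr 1
    ext x
    rw [Pi.smul_apply, conv_delta_left, conv_delta_right, smul_eq_mul]
    have hiff : g⁻¹ * x * u = u * (g⁻¹ * x) ↔ x * g⁻¹ * u = u * (x * g⁻¹) := by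
      have hc : Commute u g := hug
      constructor
      · intro h
        have h1 : Commute u (g⁻¹ * x) := h.symm
        have := (hc.mul_right h1).mul_right hc.inv_right
        simpa using this.symm.eq
      · intro h
        have h1 : Commute u (x * g⁻¹) := h.symm
        have := (hc.inv_right.mul_right h1).mul_right hc
        simpa [mul_assoc] using this.symm.eq
    simp only [d, hiff]
    split_ifs with h
    · simp
    · have := hw' (x * g⁻¹) h
      rw [inv_inv, mul_assoc, inv_mul_cancel_right] at this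
      rw [this, hinv', mul_assoc]
  · rw [lm_mul, lm_mul, conv_comm_CF le_rfl hn he]
  · rw [lm_mul, lm_mul, conv_comm_CF le_rfl hn fun x hx => by simp [d, he x hx]]
  · intro i j
    have : lm e * lm d * lm e - lm e = lm (conv (conv e (d - e)) e) := by
      rw [conv_sub_right, conv_sub_left, hee, hee, lm_mul, lm_mul, lm_sub]
    rw [this, lm_apply]
    refine val_conv_lt_left (val_conv_lt_right hei fun a => ?_) hei _
    simp only [d, Pi.sub_apply]
    split_ifs with h
    · simpa using hsm a h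
    · rw [← sub_one_mul]
      exact val_mul_lt_left (val_sub_one_lt (k := 1) hp hv (by simpa using hw a)) (hei _)

/-- Brauer's second main theorem, algebra form. -/
theorem act_eq_act (hp : p.Prime) (hv : v p < 1) {k : ℕ} {u y : G} (hu : u ^ p ^ k = 1)
    (hy : (orderOf y).Coprime p) (huy : u * y = y * u) (hCL : C ≤ L) (hg : u * y ∈ C)
    (he : e ∈ CF L) (hei : ∀ g, v (e g) ≤ 1) (hee : conv e e = e)
    (hf : f ∈ CF C) (hfi : ∀ g, v (f g) ≤ 1) (hff : conv f f = f)
    (hC : ∀ x ∈ L, x * u = u * x → x ∈ C) (hsm : ∀ x ∈ C, v (e x - f x) < 1)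
    (hφ : φ ∈ CF L) : act e φ (u * y) = act f φ (u * y) := by
  classical
  have hfL : ∀ x, x ∉ L → f x = 0 := fun x hx => hf.1 x fun h => hx (hCL h)
  have hcomm : conv e f = conv f e := conv_comm_CF hCL he hf.1
  have hefL : ∀ x, x ∉ L → conv e f x = 0 := conv_supp he.1 hfL
  have hefi := val_conv_le hei hfi
  have h1 : conv e (conv e f) = conv e f := by rw [← conv_assoc, hee]
  have h2 : conv (conv e f) e = conv e f := by rw [conv_assoc, ← hcomm, h1]
  have h3 : conv (conv e f) f = conv e f := by rw [conv_assoc, hff]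
  have h4 : conv f (conv e f) = conv e f := by rw [← conv_assoc, ← hcomm, h3]
  have h5 : conv (conv e f) (conv e f) = conv e f := by rw [← conv_assoc, h2, h3]
  have hinv : ∀ x, conv e f (u * y * x) = conv e f (x * (u * y)) := fun x => by
    have := conv_conj (y := u * y) (he.2 _ (hCL hg)) (hf.2 _ hg) (x * (u * y))
    rw [← this]
    congr 1
    group
  have hsm' : ∀ x ∈ C, v (f x - conv e f x) < 1 := fun x hx => by
    have : f x - conv e f x = conv (f - e) f x := by rw [conv_sub_left, hff, Pi.sub_apply]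
    rw [this]
    refine v.map_sum_lt one_ne_zero fun h _ => ?_
    by_cases hh : h ∈ C
    · exact val_mul_lt_left (val_sub_symm (hsm _ (C.mul_mem hx (C.inv_mem hh)))) (hfi _)
    · simp [hf.1 h hh]
  have e1 := act_eq_zero (e := e - conv e f) hp hv hu hy huy
    (fun x hx => by simp [he.1 x hx, hefL x hx])
    (fun g => v.map_sub_le (hei g) (hefi g))
    (by rw [conv_sub_left, conv_sub_right, conv_sub_right, hee, h1, h2, h5]; abel)
    (fun x => by rw [Pi.sub_apply, Pi.sub_apply, hinv, CF_mul_comm he (hCL hg)])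
    (fun x hx => by
      by_cases hxL : x ∈ L
      · exact val_sub_trans (hsm x (hC x hxL hx)) (hsm' x (hC x hxL hx))
      · simp [he.1 x hxL, hefL x hxL]) hφ
  have e2 := act_eq_zero (e := f - conv e f) hp hv hu hy huy
    (fun x hx => by simp [hfL x hx, hefL x hx])
    (fun g => v.map_sub_le (hfi g) (hefi g))
    (by rw [conv_sub_left, conv_sub_right, conv_sub_right, hff, h3, h4, h5]; abel)
    (fun x => by rw [Pi.sub_apply, Pi.sub_apply, hinv, CF_mul_comm hf hg])
    (fun x hx => by
      by_cases hxL : x ∈ L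
      · exact hsm' x (hC x hxL hx)
      · simp [hfL x hxL, hefL x hxL]) hφ
  rw [act_sub_left, Pi.sub_apply, sub_eq_zero] at e1 e2
  rw [e1, e2]

/-- Sums of integral functions invariant under a `p`-element reduce to its centralizer. -/
theorem val_sum_sub_lt (hp : p.Prime) (hv : v p < 1) {k : ℕ} {u : G} (hu : u ^ p ^ k = 1)
    (hfi : ∀ g, v (f g) ≤ 1) (hinv : ∀ x, f (u * x * u⁻¹) = f x) :
    v (∑ x, f x - ∑ x ∈ elems (centralizer ({u} : Set G) : Set G), f x) < 1 := by
  classical
  obtain ⟨ω, hω, hω1⟩ := exists_root_ne_one hp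
  obtain ⟨w, hw, hw'⟩ := exists_twist_group u u {a | a * u ≠ u * a} hp.ne_zero
    (fun a ha m hm => by
      by_contra hd
      refine ha (commute_of_commute_zpow (y := 1) hp hu (by simp) (by simp) hd ?_)
      simpa using hm) hω
  let d : G → ℂ := fun a => if a * u = u * a then 0 else w a * f a
  have h1 : ∑ x, d x = ω * ∑ x, d x := by
    rw [Finset.mul_sum]
    refine (Fintype.sum_equiv (MulAut.conj u).toEquiv _ _ fun x => ?_).symm
    simp only [MulEquiv.toEquiv_eq_coe, MulEquiv.coe_toEquiv, MulAut.conj_apply]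
    have hiff : u * x * u⁻¹ * u = u * (u * x * u⁻¹) ↔ x * u = u * x := by
      rw [inv_mul_cancel_right, mul_right_inj, eq_mul_inv_iff_mul_eq]
    simp only [d, hiff]
    split_ifs with h
    · simp
    · rw [hw' x h, hinv, mul_assoc]
  have h2 : ∑ x, d x = 0 := by
    have : (1 - ω) * ∑ x, d x = 0 := by linear_combination h1
    exact (mul_eq_zero.mp this).resolve_left (sub_ne_zero.mpr hω1.symm)
  have h3 : ∑ x ∈ elems (centralizer ({u} : Set G) : Set G), f x =
      ∑ x, if x * u = u * x then f x else 0 := by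
    rw [← Finset.sum_filter]
    refine Finset.sum_congr ?_ fun _ _ => rfl
    ext x
    simp [mem_centralizer_singleton_iff]
  have h4 : ∑ x, f x - ∑ x, (if x * u = u * x then f x else 0) =
      ∑ x, (f x - (if x * u = u * x then f x else 0) - d x) := by
    rw [Finset.sum_sub_distrib, Finset.sum_sub_distrib, h2, sub_zero]
  rw [h3, h4]
  refine v.map_sum_lt one_ne_zero fun x _ => ?_
  simp only [d]
  split_ifs with h
  · simp
  · rw [sub_zero, ← one_sub_mul]
    exact val_mul_lt_left (val_sub_symm (val_sub_one_lt (k := 1) hp hv (by simpa using hw x)))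
      (hfi _)

/-- The Brauer homomorphism is multiplicative. -/
theorem val_conv_sub_lt (hp : p.Prime) (hv : v p < 1) {k : ℕ} {u : G} (hu : u ^ p ^ k = 1)
    (huL : u ∈ L) (ha : a ∈ CF L) (hai : ∀ g, v (a g) ≤ 1) (hb : b ∈ CF L)
    (hbi : ∀ g, v (b g) ≤ 1) {c : G} (hc : c ∈ L ⊓ centralizer ({u} : Set G)) :
    v (conv a b c - conv (cfRes (L ⊓ centralizer ({u} : Set G)) a)
      (cfRes (L ⊓ centralizer ({u} : Set G)) b) c) < 1 := by
  have hcu : c * u = u * c := mem_centralizer_singleton_iff.mp hc.2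
  have h := val_sum_sub_lt (f := fun h => a (c * h⁻¹) * b h) hp hv hu
    (fun g => val_mul_le (hai _) (hbi _)) (fun x => by
      rw [hb.2 u huL, ← ha.2 u huL (c * x⁻¹)]
      congr 2
      rw [← mul_assoc u c, ← hcu]
      group)
  suffices hs : conv (cfRes (L ⊓ centralizer ({u} : Set G)) a)
      (cfRes (L ⊓ centralizer ({u} : Set G)) b) c =
      ∑ x ∈ elems (centralizer ({u} : Set G) : Set G), a (c * x⁻¹) * b x by
    rw [hs]; exact h
  rw [conv, sum_eq_sum_elems (A := centralizer ({u} : Set G)) fun x hx => by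
    rw [cfRes_apply_of_notMem (H := L ⊓ centralizer ({u} : Set G)) (x := x) fun h => hx h.2,
      mul_zero]]
  refine Finset.sum_congr rfl fun x hx => ?_
  have hx' : x ∈ centralizer ({u} : Set G) := by simpa using hx
  by_cases hxL : x ∈ L
  · have hxC : x ∈ L ⊓ centralizer ({u} : Set G) := ⟨hxL, hx'⟩
    rw [cfRes_apply hxC, cfRes_apply (mul_mem hc (inv_mem hxC))]
  · rw [cfRes_apply_of_notMem (H := L ⊓ centralizer ({u} : Set G)) (x := x) fun h => hxL h.1,
      hb.1 x hxL, mul_zero, mul_zero]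

end CfsgLib.Blk
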