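import Cfsg.Agent.Lib.Blk.BS

/-!
# Glauberman's Z*-theorem
-/

set_option autoImplicit false

namespace CfsgLib.Blk

open Cfsg Subgroup CfsgLib.FT
open scoped ComplexConjugate

universe u

variable {G : Type u} [Group G]

theorem isIsolated_subgroup {t : G} (h : IsIsolated t) {H : Subgroup G} (ht : t ∈ H) :
    IsIsolated (⟨t, ht⟩ : H) := fun g hg =>
  Subtype.ext (h g (congrArg Subtype.val hg.eq))

theorem odd_orderOf_commutator [Finite G] {t : G} (ht : orderOf t = 2) (h : IsIsolated t) (g : G) :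
    (orderOf (g * t * g⁻¹ * t⁻¹)).Coprime 2 := by
  have := odd_orderOf_mul_conj ht h g
  rw [← orderOf_conj' t⁻¹, H5.inv_eq_self_of_sq (sq_eq_one_of_orderOf ht), ← mul_assoc,
    mul_self_of_orderOf ht, one_mul] at this
  exact this

/-- An isolated involution controls fusion in its centralizer. -/
theorem exists_conj_cent_of_isIsolated [Finite G] {t : G} (ht : orderOf t = 2) (h : IsIsolated t)
    {s g : G} (hs : s * t = t * s) (hg : g * s * g⁻¹ * t = t * (g * s * g⁻¹)) :
    ∃ c, c * s * c⁻¹ = g * s * g⁻¹ ∧ c * t * c⁻¹ = t := by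
  obtain ⟨S, htS, hS⟩ := exists_sylowIn_mem (K := centralizer ({g * s * g⁻¹} : Set G)) ht
    (mem_centralizer_singleton_iff.mpr hg.symm)
  obtain ⟨k, hk, hle⟩ := hS.exists_conj_le (Q := zpowers (g * t * g⁻¹))
    (isPGroup_zpowers_iff.mpr ⟨1, by rw [orderOf_conj']; simpa using ht⟩)
    (zpowers_le.mpr (mem_centralizer_singleton_iff.mpr (by
      calc g * t * g⁻¹ * (g * s * g⁻¹) = g * (t * s) * g⁻¹ := by group
        _ = _ := by rw [← hs]; group)))
  refine ⟨k * g, ?_, conj_eq_of_isIsolated ht h hS.isPGroup htS (by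
    have := hle (conj_mem_map_conj (mem_zpowers _))
    simpa [mul_assoc] using this)⟩
  calc k * g * s * (k * g)⁻¹ = k * (g * s * g⁻¹) * k⁻¹ := by group
    _ = _ := by rw [mem_centralizer_singleton_iff.mp hk]; group

theorem inZStar_of_quotient_central [Finite G] {t z : G} (ht : orderOf t = 2) (h : IsIsolated t)
    (hz : orderOf z = 2) [(zpowers z).Normal]
    (hq : InZStar 2 (t : G ⧸ zpowers z)) : InZStar 2 t := by
  have := Fintype.ofFinite G
  set K := (pPrimeCore 2 (G ⧸ zpowers z)).comap (QuotientGroup.mk' (zpowers z)) with hK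
  have hc := pPrimeCore_characteristic (G := G ⧸ zpowers z) 2
  have hKn : K.Normal := inferInstance
  have hzK : zpowers z ≤ K := fun a ha => by
    rw [hK, mem_comap, QuotientGroup.mk'_apply, (QuotientGroup.eq_one_iff a).mpr ha]
    exact one_mem _
  have hS : IsSylowIn 2 (zpowers z) K := by
    refine ⟨hzK, isPGroup_zpowers_iff.mpr ⟨1, by simpa using hz⟩, ?_⟩
    have h1 := card_mul_relIndex hzK
    rw [hK, card_comap_mk', mul_comm, ← hK] at h1
    rw [Nat.eq_of_mul_eq_mul_right Nat.card_pos h1]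
    exact not_dvd_card_pPrimeCore 2
  obtain ⟨O, -, hreg, -, hodd⟩ := exists_compl_of_isCyclic hS inferInstance
  have hO : O.Normal := ⟨fun a ha g => hreg.le ⟨hKn.conj_mem a (hreg.ge ha).1 g, by
    rw [orderOf_conj']; exact (hreg.ge ha).2⟩⟩
  intro g
  exact le_pPrimeCore hodd (hreg.le ⟨hq g, odd_orderOf_commutator ht h g⟩)

theorem apply_mul_conj_eq [Fintype G] {t s : G} (ht : orderOf t = 2) (h : IsIsolated t)
    (hs : orderOf s = 2) (hst : s * t = t * s) (hne : s ≠ t)
    (ih : ∀ z : G, orderOf z = 2 → ∀ ht : t ∈ centralizer ({z} : Set G),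
      InZStar 2 (⟨t, ht⟩ : centralizer ({z} : Set G)))
    {χ : Irr (⊤ : Subgroup G)} (hχ : χ ∈ B0 2 ⊤) (g : G) :
    χ (t * (g * s * g⁻¹)) = χ (s * t) := by
  have ht2 := sq_eq_one_of_orderOf ht
  set s' := g * s * g⁻¹ with hs'
  have hs2 : s' ^ 2 = 1 := by rw [hs', conj_pow, sq_eq_one_of_orderOf hs]; simp
  obtain ⟨a, ha, b, hb, hab, hc, ⟨k, hk⟩, hbo⟩ := exists_p_part Nat.prime_two (t * s')
  have hta : t * a * t⁻¹ = a⁻¹ := H5.inverts_of_mem_zpowers (H5.inverts_mul_left ht2 hs2) ha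
  have htb : t * b * t⁻¹ = b⁻¹ := H5.inverts_of_mem_zpowers (H5.inverts_mul_left ht2 hs2) hb
  have ha2 : a ^ 2 = 1 := by
    have h1 := odd_orderOf_commutator ht h a
    have h2 : a * t * a⁻¹ * t⁻¹ = a ^ 2 := by
      calc a * t * a⁻¹ * t⁻¹ = a * (t * a * t⁻¹)⁻¹ := by group
        _ = a ^ 2 := by rw [hta, inv_inv, sq]
    rw [h2] at h1
    exact orderOf_eq_one_iff.mp (Nat.Coprime.eq_one_of_dvd (h1.pow_right k)
      (hk ▸ orderOf_pow_dvd 2))
  have ha1 : a ≠ 1 := by
    rintro rfl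
    obtain ⟨y, -, hy⟩ := H5.exists_conj_of_odd ht2 hs2 (by rw [hab, one_mul]; exact hbo)
    have e : s = (y * g)⁻¹ * t * (y * g)⁻¹⁻¹ := by rw [← hy, hs']; group
    exact hne (e.trans (h _ (e ▸ hst.symm)))
  have hao : orderOf a = 2 := orderOf_eq_prime ha2 ha1
  have hat : t * a = a * t := by
    rw [H5.inv_eq_self_of_sq ha2, mul_inv_eq_iff_eq_mul] at hta; exact hta
  have htC : t ∈ centralizer ({a} : Set G) := mem_centralizer_singleton_iff.mpr hat
  have hbC : b ∈ centralizer ({a} : Set G) := mem_centralizer_singleton_iff.mpr hc.symm.eq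
  have hbO : b ∈ (pPrimeCore 2 (centralizer ({a} : Set G))).map (Subgroup.subtype _) := by
    refine mem_of_pow_mem_of_coprime hbo.symm ⟨_, ih a hao htC ⟨b, hbC⟩, ?_⟩
    change b * t * b⁻¹ * t⁻¹ = b ^ 2
    calc b * t * b⁻¹ * t⁻¹ = b * (t * b * t⁻¹)⁻¹ := by group
      _ = b ^ 2 := by rw [htb, inv_inv, sq]
  have h1 := apply_mul_of_mem_B0 (k := 1) (u := a) Nat.prime_two (by simpa using ha2) (mem_top a)
    (le_inf le_top (map_subtype_le _))
    (inf_le_right.trans (le_normalizer.trans (normalizer_le_normalizer_map_pPrimeCore 2 _)))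
    (map_pPrimeCore_coprime 2 _) hbO hχ
  rw [hab, h1]
  obtain ⟨y, -, hy⟩ := H5.exists_conj_of_odd (s := a * t) (t := s')
    (by rw [(show Commute a t from hat.symm).mul_pow, ha2, ht2, one_mul]) hs2
    (by rw [mul_assoc, hab, ← mul_assoc, ← sq, ha2, one_mul]; exact hbo)
  have e : y * g * s * (y * g)⁻¹ = a * t := by rw [← hy, hs']; group
  obtain ⟨c, hc1, hc2⟩ := exists_conj_cent_of_isIsolated ht h (g := y * g) hst
    (by rw [e, ← mul_assoc, hat])
  rw [← CF_conj χ.mem_CF (mem_top c) (s * t)]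
  refine congrArg _ ?_
  calc a = a * t * t := by rw [mul_assoc, mul_self_of_orderOf ht, mul_one]
    _ = c * s * c⁻¹ * (c * t * c⁻¹) := by rw [hc1, hc2, e]
    _ = _ := by group

theorem apply_mul_apply_eq [Fintype G] {t s : G} (ht : orderOf t = 2) (h : IsIsolated t)
    (hs : orderOf s = 2) (hst : s * t = t * s) (hne : s ≠ t)
    (ih : ∀ z : G, orderOf z = 2 → ∀ ht : t ∈ centralizer ({z} : Set G),
      InZStar 2 (⟨t, ht⟩ : centralizer ({z} : Set G)))
    {χ : Irr (⊤ : Subgroup G)} (hχ : χ ∈ B0 2 ⊤) : χ s * χ t = χ 1 * χ (s * t) := by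
  have h1 := sum_conj_mul χ.irr t (mem_top s)
  simp only [apply_mul_conj_eq ht h hs hst hne ih hχ, sum_elems_const, nsmul_eq_mul] at h1
  have h2 := χ.irr.one_ne_zero
  have h3 := card_ne_zero (⊤ : Subgroup G)
  field_simp at h1
  linear_combination -h1

/-- **Glauberman's Z*-theorem**. -/
theorem glauberman_zstar (G : Type u) [Group G] [Finite G] :
    ∀ t : G, orderOf t = 2 → IsIsolated t → InZStar 2 t := by
  refine card_induction (P := fun X _ _ => ∀ t : X, orderOf t = 2 → IsIsolated t → InZStar 2 t)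
    ?_ G
  intro X _ _ ih t ht h
  have := Fintype.ofFinite X
  have ihs : ∀ (H : Subgroup X) (htH : t ∈ H), H ≠ ⊤ → InZStar 2 (⟨t, htH⟩ : H) :=
    fun H htH hH => ih H (card_lt_of_ne_top hH) _ (by rw [← ht, ← Subgroup.orderOf_coe])
      (isIsolated_subgroup h htH)
  by_cases hN : ∃ N : Subgroup X, N.Normal ∧ N ≠ ⊤ ∧ t ∈ N
  · obtain ⟨N, hN, hne, htN⟩ := hN
    exact inZStar_of_normal ht h htN (ihs N htN hne)
  by_cases hZ : ∃ z : X, orderOf z = 2 ∧ centralizer ({z} : Set X) = ⊤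
  · obtain ⟨z, hz, hc⟩ := hZ
    have hc' : ∀ g : X, g * z = z * g := fun g => mem_centralizer_singleton_iff.mp (hc.ge (mem_top g))
    by_cases htz : t ∈ zpowers z
    · obtain ⟨j, rfl⟩ := htz
      intro g
      simp only
      rw [((show Commute g z from hc' g).zpow_right j).eq]
      simp
    have hn : (zpowers z).Normal := ⟨by
      rintro _ ⟨j, rfl⟩ g
      simp only
      rw [((show Commute g z from hc' g).zpow_right j).eq, mul_inv_cancel_right]
      exact zpow_mem_zpowers _ _⟩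
    refine inZStar_of_quotient_central ht h hz (ih _ (card_quotient_lt (by
      simpa using ne_one_of_orderOf hz)) _ (orderOf_eq_prime ?_ ?_) fun g hg => ?_)
    · rw [← QuotientGroup.mk_pow, sq_eq_one_of_orderOf ht, QuotientGroup.mk_one]
    · rwa [Ne, QuotientGroup.eq_one_iff]
    · obtain ⟨g, rfl⟩ := QuotientGroup.mk_surjective g
      have h1 := odd_orderOf_mul_conj ht h g
      have h2 : (t * (g * t * g⁻¹)) ^ 2 ∈ zpowers z := by
        rw [← QuotientGroup.eq_one_iff, QuotientGroup.mk_pow, QuotientGroup.mk_mul,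
          QuotientGroup.mk_mul, QuotientGroup.mk_mul, QuotientGroup.mk_inv, hg.mul_pow, conj_pow,
          ← QuotientGroup.mk_pow, sq_eq_one_of_orderOf ht]
        simp
      have h3 := orderOf_dvd_of_mem_zpowers (mem_of_pow_mem_of_coprime h1.symm h2)
      rw [hz] at h3
      have h4 := orderOf_eq_one_iff.mp (h1.eq_one_of_dvd h3)
      rw [← mul_self_of_orderOf ht] at h4
      rw [← QuotientGroup.mk_inv, ← QuotientGroup.mk_mul, ← QuotientGroup.mk_mul,
        mul_left_cancel h4]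
  by_cases hU : UniqInv t
  · exact brauer_suzuki X t hU
  exfalso
  obtain ⟨s, hs2, hst, hs1, hne⟩ : ∃ s : X, s ^ 2 = 1 ∧ s * t = t * s ∧ s ≠ 1 ∧ s ≠ t := by
    by_contra! hcon
    exact hU ⟨ht, fun s h1 h2 => or_iff_not_imp_left.mpr (hcon s h1 h2)⟩
  have hs : orderOf s = 2 := orderOf_eq_prime hs2 hs1
  have hs' : orderOf (s * t) = 2 := orderOf_eq_prime
    (by rw [(show Commute s t from hst).mul_pow, hs2, sq_eq_one_of_orderOf ht, one_mul])
    (fun e => hne (by rw [← mul_self_of_orderOf ht] at e; exact mul_right_cancel e))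
  have ih' : ∀ z : X, orderOf z = 2 → ∀ ht : t ∈ centralizer ({z} : Set X),
      InZStar 2 (⟨t, ht⟩ : centralizer ({z} : Set X)) := fun z hz htz =>
    ihs _ htz fun e => hZ ⟨z, hz, e⟩
  have hsum : ∀ a : X, orderOf a = 2 → ∑ χ ∈ B0 2 (⊤ : Subgroup X), χ 1 * χ a = 0 := fun a ha => by
    have := K0_eq_zero_of_reg (L := ⊤) (x := 1) (g := a) Nat.prime_two (by simp) ha.symm.dvd
    rw [kerB] at this
    simpa only [← IsChar.inv (Irr.isChar _), H5.inv_eq_self_of_sq (sq_eq_one_of_orderOf ha)]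
      using this
  have h1 : ∑ χ ∈ B0 2 (⊤ : Subgroup X), (χ 1 * χ s + χ 1 * χ (s * t)) = 0 := by
    rw [Finset.sum_add_distrib, hsum s hs, hsum _ hs', add_zero]
  rw [Finset.sum_eq_single_of_mem 1 (one_mem_B0 Nat.prime_two)] at h1
  · simp [cf1_top] at h1
  · intro χ hχ hne1
    have e1 := apply_mul_apply_eq ht h hs hst hne ih' hχ
    have e2 := apply_mul_apply_eq ht h hs' (by rw [← mul_assoc, hst]) (by simpa using hs1) ih' hχ
    rw [mul_assoc, mul_self_of_orderOf ht, mul_one] at e2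
    have e3 : χ t - χ 1 ≠ 0 := fun e => hN ⟨cfker ⊤ χ,
      normal_of_le_normalizer_top (cfker_normal χ.mem_CF),
      fun e' => hne1 (χ.eq_one_iff.mpr e'.ge), χ.isChar.mem_cfker.mpr ⟨mem_top t, sub_eq_zero.mp e⟩⟩
    refine (mul_eq_zero.mp ?_).resolve_left e3
    linear_combination (χ 1) * e1 + (χ 1) * e2

end CfsgLib.Blk
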